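import Cfsg.Agent.Lib.DihedralBlk.RankTwo
import Cfsg.Agent.Lib.Blk7.CentralQuotient
import Cfsg.Agent.Lib.BlockCover.Quotient
import Cfsg.Agent.Lib.Blocks.FirstMain
import Cfsg.Agent.Lib.TwoGroups.Semidihedral

/-!
# A central involution below a tame block of rank three
-/

set_option autoImplicit false
set_option linter.unusedSectionVars false
set_option maxHeartbeats 1000000

namespace CfsgLib.DihedralBlk

open Cfsg CfsgLib.Blocks CfsgLib.Contribution CfsgLib.TwoGroups.SD DihedralGroup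
open scoped Classical

universe u

variable {G : Type u} [Group G] [Fintype G] [Fact (Nat.Prime 2)] {M : Ideal AlgInt} [M.IsMaximal]

/-- The defect of the block below a central `p`-subgroup is exactly smaller by the exponent. -/
theorem blockDefect_le_quot (hM : IsPModular 2 M) {N : Subgroup G} [N.Normal] (hNp : IsPGroup 2 N)
    (hNc : N ≤ Subgroup.center G) {B : Set (IrrCharacter G)} (hB : IsPBlock M B) :
    blockDefect 2 B ≤ blockDefect 2 (CentralQuot.quotBlock N B) + (Nat.card N).factorization 2 := by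
  letI : Fintype (G ⧸ N) := Fintype.ofFinite _
  have hβ := CentralQuot.isPBlock_quotBlock N hNp hNc hM hB
  obtain ⟨ξ, hξ, -, hξe⟩ := Contribution.exists_height_zero hM hB
  obtain ⟨n, hn⟩ := CentralQuot.exists_int_coeff N hNp hNc hM hB hξ
  have h1 := hn 1 (by rw [orderOf_one]; decide)
  simp only [CharCorr.irr_one_eq_charDegree, QuotientGroup.mk_one] at h1
  have h2 : (charDegree (ξ : G → ℂ) : ℤ) = ∑ η ∈ members (CentralQuot.quotBlock N B),
      n η * (charDegree (η : G ⧸ N → ℂ) : ℤ) := by exact_mod_cast h1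
  set mq := minExp 2 (CentralQuot.quotBlock N B)
  have hdvd : ((2 ^ mq : ℕ) : ℤ) ∣ (charDegree (ξ : G → ℂ) : ℤ) := by
    rw [h2]
    refine Finset.dvd_sum fun η hη => dvd_mul_of_dvd_right ?_ _
    exact Int.natCast_dvd_natCast.2 ((pow_dvd_pow 2
      (minExp_le (Contribution.mem_members.1 hη))).trans (Nat.ordProj_dvd _ 2))
  have hle : mq ≤ minExp 2 B := by
    rw [← hξe]
    exact (Nat.prime_two.pow_dvd_iff_le_factorization (CfsgLib.ClassCount.degree_eq ξ).2.2.ne').1
      (Int.natCast_dvd_natCast.1 hdvd)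
  have a1 : mq + blockDefect 2 (CentralQuot.quotBlock N B) = (Nat.card (G ⧸ N)).factorization 2 :=
    minExp_add_defect hM hβ
  have a2 := minExp_add_defect hM hB
  have h4 : (Nat.card G).factorization 2 =
      (Nat.card (G ⧸ N)).factorization 2 + (Nat.card N).factorization 2 := by
    rw [Subgroup.card_eq_card_quotient_mul_card_subgroup N,
      Nat.factorization_mul Nat.card_pos.ne' Nat.card_pos.ne', Finsupp.add_apply]
  omega

/-- A central involution forces rank one for a dihedral defect group. -/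
theorem rank_one_of_central (hM : IsPModular 2 M) {B : Set (IrrCharacter G)} (hB : IsPBlock M B)
    {D : Subgroup G} (hD : IsDefectGroup 2 M B D) {k : ℕ}
    (e : D ≃* DihedralGroup (2 ^ (k + 2))) {t : G} (ht : t ∈ Subgroup.center G) (htD : t ∈ D)
    (ho : orderOf t = 2) : blockRank 2 B = 1 := by
  have : t = invo e := by
    obtain ⟨p, rfl⟩ := exists_el e htD
    cases p with
    | r j => exact eq_invo_of_orderOf e rfl ho
    | sr j =>
      exfalso
      have h := el_injective e (show el e (r 1 * sr j) = el e (sr j * r 1) by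
        rw [el_mul, el_mul]; exact Subgroup.mem_center_iff.1 ht _)
      rw [r_mul_sr, sr_mul_r, sr.injEq, sub_eq_iff_eq_add, add_assoc, left_eq_add,
        show (1 : ZMod (2 ^ (k + 2))) + 1 = ((2 : ℕ) : ZMod (2 ^ (k + 2))) by norm_num,
        ZMod.natCast_eq_zero_iff] at h
      have h2 := Nat.le_of_dvd two_pos h
      have : 4 ≤ 2 ^ (k + 2) := Nat.pow_le_pow_right two_pos (show 2 ≤ k + 2 by omega)
      omega
  subst this
  exact (Cfsg.Agent.S4689.result 2 M hM B (nilpotent_of_central hM hB hD e ht)).1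

/-- A central involution forces rank at most two for a semidihedral defect group. -/
theorem rank_le_two_of_central (hM : IsPModular 2 M) {B : Set (IrrCharacter G)} (hB : IsPBlock M B)
    {D : Subgroup G} (hD : IsDefectGroup 2 M B D) {r' : ℕ} {x y : D} (h : SD D r' x y) {t : G}
    (ht : t ∈ Subgroup.center G) (htD : t ∈ D) (ho : orderOf t = 2) : blockRank 2 B ≤ 2 := by
  obtain ⟨a, ha⟩ := h.pow_two'
  have hr := r_pos h
  have hz : (⟨t, htD⟩ : D) = x ^ (4 * r' : ℤ) := by
    have hc : (⟨t, htD⟩ : D) ∈ Subgroup.center D := Subgroup.mem_center_iff.2 fun g =>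
      Subtype.ext (Subgroup.mem_center_iff.1 ht g)
    rw [center_eq h] at hc
    obtain ⟨i, hi⟩ := Subgroup.mem_zpowers_iff.1 hc
    rw [← hi, ← zpow_mul]
    refine (orderOf_zpow_eq_two h).1 ?_
    rw [zpow_mul, hi, Subgroup.orderOf_mk, ho]
  set N := Subgroup.zpowers t
  have hNc : N ≤ Subgroup.center G := Subgroup.zpowers_le.2 ht
  haveI : N.Normal := ⟨fun n hn g => by
    rwa [Subgroup.mem_center_iff.1 (hNc hn) g, mul_inv_cancel_right]⟩
  have hcardN : Nat.card N = 2 := by rw [Nat.card_zpowers, ho]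
  have hNp : IsPGroup 2 N := IsPGroup.of_card (n := 1) (by rw [hcardN, pow_one])
  have hmemN : ∀ d : D, (d : G) ∈ N → d = 1 ∨ d = x ^ (4 * r' : ℤ) := by
    intro d hd
    obtain ⟨i, hi⟩ := Subgroup.mem_zpowers_iff.1 hd
    rcases Int.even_or_odd i with ⟨c, rfl⟩ | ⟨c, rfl⟩
    · left
      refine Subtype.ext ?_
      rw [← hi, Subgroup.coe_one, ← two_mul, zpow_mul, zpow_ofNat, ← ho, pow_orderOf_eq_one,
        one_zpow]
    · right
      refine Subtype.ext ?_
      rw [← hi, zpow_add, zpow_mul, zpow_ofNat, ← ho, pow_orderOf_eq_one, one_zpow, one_mul,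
        zpow_one, ← hz]
  letI : Fintype (G ⧸ N) := Fintype.ofFinite _
  set π := (QuotientGroup.mk' N).comp D.subtype
  have hπ : ∀ d : D, π d = 1 ↔ d = 1 ∨ d = x ^ (4 * r' : ℤ) := fun d => by
    show ((d : G) : G ⧸ N) = 1 ↔ _
    rw [QuotientGroup.eq_one_iff]
    refine ⟨hmemN d, ?_⟩
    rintro (rfl | rfl)
    · exact N.one_mem
    · rw [← hz]; exact Subgroup.mem_zpowers t
  set u := π x
  set v := π y
  have hm : 4 * r' = 2 ^ (a + 2) := by rw [ha, pow_add]; ring
  have hu : u ^ (4 * r') = 1 := by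
    rw [← map_pow, hπ, ← zpow_natCast]
    exact Or.inr (by push_cast; rfl)
  have hpow : ∀ j : ℤ, u ^ j = 1 ↔ (4 * (r' : ℤ)) ∣ j := fun j => by
    rw [← map_zpow, hπ, zpow_x_eq_one h, zpow_x_eq h]
    constructor
    · rintro (⟨c, hc⟩ | ⟨c, hc⟩)
      · exact ⟨2 * c, by linarith⟩
      · exact ⟨1 - 2 * c, by linarith⟩
    · rintro ⟨c, rfl⟩
      rcases Int.even_or_odd c with ⟨d, rfl⟩ | ⟨d, rfl⟩
      · exact Or.inl ⟨d, by ring⟩
      · exact Or.inr ⟨-d, by ring⟩
  have hord : orderOf u = 4 * r' := by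
    refine Nat.dvd_antisymm (orderOf_dvd_of_pow_eq_one hu) ?_
    have := (hpow (orderOf u)).1 (by rw [zpow_natCast, pow_orderOf_eq_one])
    exact_mod_cast this
  have hv : v * v = 1 := by rw [← map_mul, yy h, map_one]
  have hvu : v * u * v⁻¹ = u⁻¹ := by
    rw [← map_inv, ← map_mul, ← map_mul, h.rel, zpow_sub, zpow_one, map_mul, map_inv,
      (hπ _).2 (Or.inr rfl), one_mul]
  have hnot : v ∉ Subgroup.zpowers u := fun hvu' => by
    obtain ⟨j, hj⟩ := Subgroup.mem_zpowers_iff.1 hvu'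
    have h1 : π (x ^ j * y) = 1 := by rw [map_mul, map_zpow, hj, hv]
    rcases (hπ _).1 h1 with h2 | h2
    · exact not_mem_y h j 0 (by rw [h2, zpow_zero])
    · exact not_mem_y h j _ h2
  have hu2 : u ^ 2 ^ (a + 2) = 1 := hm ▸ hu
  set φ := dihedralHom u v hu2 hv hvu with hφ
  have hinj := dihedralHom_injective u v hu2 hv hvu (hord.trans hm) hnot
  set E := D.map (QuotientGroup.mk' N)
  have hrange : φ.range = E := by
    rw [range_dihedralHom]
    refine le_antisymm ((Subgroup.closure_le _).2 ?_) ?_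
    · rintro g (rfl | rfl)
      · exact ⟨(x : G), x.2, rfl⟩
      · exact ⟨(y : G), y.2, rfl⟩
    · rintro _ ⟨d, hd, rfl⟩
      have hu₁ : u ∈ Subgroup.closure ({u, v} : Set (G ⧸ N)) := Subgroup.subset_closure (by simp)
      have hv₁ : v ∈ Subgroup.closure ({u, v} : Set (G ⧸ N)) := Subgroup.subset_closure (by simp)
      obtain ⟨j, hj | hj⟩ := h.gen ⟨d, hd⟩
      · rw [show QuotientGroup.mk' N d = π ⟨d, hd⟩ from rfl, hj, map_zpow]
        exact zpow_mem hu₁ _
      · rw [show QuotientGroup.mk' N d = π ⟨d, hd⟩ from rfl, hj, map_mul, map_zpow]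
        exact mul_mem (zpow_mem hu₁ _) hv₁
  -- the defect group of the block below
  have hβ := CentralQuot.isPBlock_quotBlock N hNp hNc hM hB
  obtain ⟨Db, hDb⟩ := BrauerPairs.exists_defectGroup hM hβ
  obtain ⟨P, hP, hDbP⟩ := BlockCover.defect_le_map N hM hβ hB (fun η hη => hη) hDb
  obtain ⟨w, rfl⟩ := BlockCover.defectGroup_conjugate hM hB hD hP
  have hEmap : (D.map (MulAut.conj w).toMonoidHom).map (QuotientGroup.mk' N) =
      E.map (MulAut.conj (w : G ⧸ N)).toMonoidHom := by
    rw [Subgroup.map_map, Subgroup.map_map]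
    congr 1
  have hcE : Nat.card E = 8 * r' := by
    rw [← hrange, ← Nat.card_congr (MonoidHom.ofInjective hinj).toEquiv, DihedralGroup.nat_card, ha]
    ring
  have hdB : Nat.card D = 2 ^ blockDefect 2 B := BlockCover.natCard_defect hM hB hD
  have hdq : Nat.card Db = 2 ^ blockDefect 2 (CentralQuot.quotBlock N B) :=
    BlockCover.natCard_defect hM hβ hDb
  have hDbE : Db = E.map (MulAut.conj (w : G ⧸ N)).toMonoidHom := by
    refine Subgroup.eq_of_le_of_card_ge (hDbP.trans hEmap.le) ?_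
    rw [Subgroup.card_map_of_injective (MulAut.conj (w : G ⧸ N)).injective, hcE]
    have hle := blockDefect_le_quot hM hNp hNc hB
    rw [hcardN, Nat.Prime.factorization_self Nat.prime_two] at hle
    have h16 : 2 ^ blockDefect 2 B = 16 * r' := hdB ▸ h.card
    have h2 := Nat.pow_le_pow_right two_pos hle
    rw [pow_succ, h16, ← hdq] at h2
    omega
  have hE : IsDefectGroup 2 M (CentralQuot.quotBlock N B) E := by
    have h1 := BlockCover.isDefectGroup_conj hM hβ hDb (w : G ⧸ N)⁻¹
    rw [hDbE, Subgroup.map_map] at h1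
    convert h1 using 1
    ext g
    simp [mul_assoc]
  rw [← hrange] at hE
  set e : φ.range ≃* DihedralGroup (2 ^ (a + 2)) := (MonoidHom.ofInjective hinj).symm with he
  refine (CentralQuot.blockRank_le_quot N hNp hNc hM hB).trans
    (blockRank_le_two hM hβ hE e (s := v) ?_ ?_ ?_)
  · exact ⟨sr ((0 : ℤ) : ZMod (2 ^ (a + 2))), by
      show v * u ^ ((((0 : ℤ) : ZMod (2 ^ (a + 2)))).cast : ℤ) = v
      rw [cast_zpow hu2, zpow_zero, mul_one]⟩
  · refine orderOf_eq_prime (by rw [sq, hv]) fun h1 => hnot (h1 ▸ Subgroup.one_mem _)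
  · intro g hg
    obtain ⟨g, rfl⟩ := QuotientGroup.mk_surjective g
    have hinvo : invo e = u ^ ((2 * r' : ℕ) : ℤ) := by
      have h2 : 2 ^ (a + 2) / 2 = 2 * r' := by rw [← hm]; omega
      rw [invo, el, he, MulEquiv.symm_symm, MonoidHom.ofInjective_apply, h2, ← Int.cast_natCast]
      exact cast_zpow hu2 _
    rw [hinvo, ← map_zpow] at hg
    have hg' : ((x ^ ((2 * r' : ℕ) : ℤ) : D) : G)⁻¹ * (g * (y : G) * g⁻¹) ∈ N := by
      rw [← QuotientGroup.eq_one_iff, QuotientGroup.mk_mul, QuotientGroup.mk_inv]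
      exact inv_mul_eq_one.2 hg.symm
    set z : G := ((x ^ ((2 * r' : ℕ) : ℤ) : D) : G) with hz'
    obtain ⟨i, hi⟩ := Subgroup.mem_zpowers_iff.1 hg'
    have heq : g * (y : G) * g⁻¹ = ((x ^ ((2 * r' : ℕ) : ℤ) * x ^ ((4 * r' : ℤ) * i) : D) : G) := by
      rw [Subgroup.coe_mul, ← hz', zpow_mul x, ← hz, Subgroup.coe_zpow]
      exact inv_mul_eq_iff_eq_mul.1 hi.symm
    have h2 : orderOf (x ^ ((2 * r' : ℕ) : ℤ) * x ^ ((4 * r' : ℤ) * i)) = 2 := by
      rw [← Subgroup.orderOf_coe, ← heq, ← MulAut.conj_apply, MulEquiv.orderOf_eq,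
        Subgroup.orderOf_coe, h.ordy]
    rw [← zpow_add, orderOf_zpow_eq_two h, zpow_x_eq h] at h2
    obtain ⟨c, hc⟩ := h2
    have h3 : (2 * (r' : ℤ)) * 1 = 2 * r' * (4 * c + 2 * i) := by push_cast at hc; linarith
    have := mul_left_cancel₀ (by positivity) h3
    omega

end CfsgLib.DihedralBlk
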