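import Cfsg.Agent.Lib.DihedralBlk.Vectors
import Cfsg.Agent.Lib.Blocks.CyclicNilpotent

/-!
# The invariants of a block whose vectors have the generic shape
-/

set_option autoImplicit false
set_option linter.unusedSectionVars false
set_option maxHeartbeats 1000000

namespace CfsgLib.DihedralBlk

open Cfsg CfsgLib.Blocks CfsgLib.Characters CfsgLib.Contribution DihedralGroup
open scoped Classical ComplexConjugate

universe u

variable {G : Type u} [Group G] [Fintype G] [Fact (Nat.Prime 2)] {M : Ideal AlgInt} [M.IsMaximal]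
  {hM : IsPModular 2 M} {B : Set (IrrCharacter G)} {k : ℕ}

namespace Loc

theorem dvd_eight {U : ℕ} (hU : U ≠ 0) (h : U.factorization 2 = k + 3) : 8 ∣ U := by
  have h1 : 2 ^ 3 ∣ 2 ^ U.factorization 2 := pow_dvd_pow 2 (by omega)
  exact h1.trans (Nat.ordProj_dvd U 2)

theorem odd_sq_mod {a : ℤ} (h : Odd a) : (8 : ℤ) ∣ a * a - 1 := by
  obtain ⟨c, rfl⟩ := h
  obtain ⟨d, hd⟩ := Int.even_mul_succ_self c
  exact ⟨d, by linear_combination 4 * hd⟩

theorem even_sq_mod {a : ℤ} (h : Even a) : (4 : ℤ) ∣ a * a := by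
  obtain ⟨c, rfl⟩ := h
  exact ⟨c * c, by ring⟩

/-- The parity arguments for the degrees. -/
theorem parity {m : ℕ} (hm : Odd m) {R : ℤ} {r : Fin 4 → ℤ} (hR : Even R) {σ : ℤ} {e : Fin 4 → ℤ}
    (he : ∀ j, e j = 1 ∨ e j = -1) (h01 : σ * R + e 0 * r 0 + e 1 * r 1 = 0)
    (h23 : σ * R + e 2 * r 2 + e 3 * r 3 = 0) (hex : ∃ j, Odd (r j))
    (h8 : (8 : ℤ) ∣ ∑ j, r j * r j + (m : ℤ) * (R * R)) :
    (∀ j, Odd (r j)) ∧ ¬ (4 : ℤ) ∣ R := by
  have par : ∀ a b : Fin 4, σ * R + e a * r a + e b * r b = 0 → (Odd (r a) ↔ Odd (r b)) := by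
    intro a b h
    have h2 : Even (σ * R) := hR.mul_left σ
    have h4 : Even (e a * r a + e b * r b) := by
      rw [show e a * r a + e b * r b = -(σ * R) by linarith]
      exact h2.neg
    have sgn : ∀ j, (Even (e j * r j) ↔ Even (r j)) := fun j => by
      rcases he j with h | h <;> rw [h] <;> simp
    rw [Int.even_add, sgn, sgn] at h4
    rw [← Int.not_even_iff_odd, ← Int.not_even_iff_odd, h4]
  have p01 := par 0 1 h01
  have p23 := par 2 3 h23
  rw [Fin.sum_univ_four] at h8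
  obtain ⟨c, rfl⟩ := hR
  have hmid : (4 : ℤ) ∣ (m : ℤ) * ((c + c) * (c + c)) := ⟨(m : ℤ) * (c * c), by ring⟩
  have h4 : (4 : ℤ) ∣ r 0 * r 0 + r 1 * r 1 + r 2 * r 2 + r 3 * r 3 +
      (m : ℤ) * ((c + c) * (c + c)) := (dvd_trans ⟨2, rfl⟩ h8)
  have hall : Odd (r 0) ∧ Odd (r 2) := by
    by_cases h0 : Odd (r 0)
    · refine ⟨h0, ?_⟩
      by_contra h2
      have e2 := even_sq_mod (Int.not_odd_iff_even.1 h2)
      have e3 := even_sq_mod (Int.not_odd_iff_even.1 (fun h => h2 (p23.2 h)))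
      have o0 : (4 : ℤ) ∣ r 0 * r 0 - 1 := dvd_trans ⟨2, rfl⟩ (odd_sq_mod h0)
      have o1 : (4 : ℤ) ∣ r 1 * r 1 - 1 := dvd_trans ⟨2, rfl⟩ (odd_sq_mod (p01.1 h0))
      omega
    · exfalso
      have h1 : ¬ Odd (r 1) := fun h => h0 (p01.2 h)
      have h2 : Odd (r 2) := by
        obtain ⟨j, hj⟩ := hex
        fin_cases j
        · exact absurd hj h0
        · exact absurd hj h1
        · exact hj
        · exact p23.2 hj
      have e0 := even_sq_mod (Int.not_odd_iff_even.1 h0)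
      have e1 := even_sq_mod (Int.not_odd_iff_even.1 h1)
      have o2 : (4 : ℤ) ∣ r 2 * r 2 - 1 := dvd_trans ⟨2, rfl⟩ (odd_sq_mod h2)
      have o3 : (4 : ℤ) ∣ r 3 * r 3 - 1 := dvd_trans ⟨2, rfl⟩ (odd_sq_mod (p23.1 h2))
      omega
  have hodd : ∀ j, Odd (r j) := fun j => by
    fin_cases j
    · exact hall.1
    · exact p01.1 hall.1
    · exact hall.2
    · exact p23.1 hall.2
  refine ⟨hodd, fun hdvd => ?_⟩
  have hc : (2 : ℤ) ∣ c := by omega
  obtain ⟨d, rfl⟩ := hc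
  have hmm : (8 : ℤ) ∣ (m : ℤ) * ((2 * d + 2 * d) * (2 * d + 2 * d)) :=
    ⟨(m : ℤ) * (2 * (d * d)), by ring⟩
  have o0 := odd_sq_mod (hodd 0)
  have o1 := odd_sq_mod (hodd 1)
  have o2 := odd_sq_mod (hodd 2)
  have o3 := odd_sq_mod (hodd 3)
  omega

variable (L : Loc hM B k)

theorem blockRank_le {ψ : Fin (mm k) → IrrCharacter G} {σ : ℤ} {a : Fin 4 → IrrCharacter G}
    {e : Fin 4 → ℤ} (hcard : Nat.card B = 2 ^ (k + 1) + 3)
    (hmem : ∀ χ, χ ∈ B ↔ ∃ p, Sum.elim ψ a p = χ) (hinj : Function.Injective (Sum.elim ψ a))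
    (hσ : σ = 1 ∨ σ = -1) (he : ∀ j, e j = 1 ∨ e j = -1)
    (hC : ∀ i x, L.Ci i x = σ * ind1 (ψ i) x + e 0 * ind1 (a 0) x + e 1 * ind1 (a 1) x)
    (hC' : ∀ i x, L.Ci' i x = σ * ind1 (ψ i) x + e 2 * ind1 (a 2) x + e 3 * ind1 (a 3) x) :
    blockRank 2 B ≤ 3 := by
  obtain ⟨hm, hodd⟩ := mm_spec k
  set i₀ : Fin (mm k) := ⟨0, hodd.pos⟩
  have hψa : ∀ i j, ψ i ≠ a j := fun i j h => by
    simpa using hinj (a₁ := Sum.inl i) (a₂ := Sum.inr j) h
  have hψ : Function.Injective ψ := fun i j h =>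
    Sum.inl_injective (hinj (a₁ := Sum.inl i) (a₂ := Sum.inl j) h)
  have ha : Function.Injective a := fun i j h =>
    Sum.inr_injective (hinj (a₁ := Sum.inr i) (a₂ := Sum.inr j) h)
  have hno : ∀ χ, χ ∉ B → ∀ i, L.Ci i χ = 0 ∧ L.Ci' i χ = 0 := fun χ hχ i => by
    have h1 : ∀ l, ind1 (ψ l) χ = 0 := fun l => ind1_ne fun h => hχ ((hmem χ).2 ⟨Sum.inl l, h.symm⟩)
    have h2 : ∀ l, ind1 (a l) χ = 0 := fun l => ind1_ne fun h => hχ ((hmem χ).2 ⟨Sum.inr l, h.symm⟩)
    rw [hC, hC']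
    simp [h1, h2]
  let Λ : (B → ℂ) →ₗ[ℂ] (G → ℂ) :=
    Fintype.linearCombination ℂ (fun χ : B => pRegularPart 2 ((χ : IrrCharacter G) : G → ℂ))
  let v : Fin (mm k) ⊕ Unit → (B → ℂ) := Sum.elim (fun i χ => (L.Ci i χ.1 : ℂ))
    (fun _ χ => ((L.Ci' i₀ χ.1 - L.Ci i₀ χ.1 : ℤ) : ℂ))
  have hker : ∀ q, v q ∈ LinearMap.ker Λ := by
    have key : ∀ (w : IrrCharacter G → ℤ), (∀ χ, χ ∉ B → w χ = 0) →
        (∀ g : G, ¬ 2 ∣ orderOf g → ∑ χ, (w χ : ℂ) * (χ : G → ℂ) g = 0) →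
        (fun χ : B => (w χ.1 : ℂ)) ∈ LinearMap.ker Λ := by
      intro w hw hz
      rw [LinearMap.mem_ker]
      funext g
      simp only [Λ, Fintype.linearCombination_apply, Finset.sum_apply, Pi.smul_apply, smul_eq_mul,
        Pi.zero_apply, pRegularPart]
      by_cases hg : IsPRegular 2 g
      · simp only [if_pos hg]
        rw [← hz g hg, ← Finset.sum_filter_add_sum_filter_not Finset.univ (· ∈ B),
          Finset.sum_eq_zero (s := Finset.univ.filter fun χ => χ ∉ B) fun χ hχ => by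
            rw [hw χ (Finset.mem_filter.1 hχ).2, Int.cast_zero, zero_mul], add_zero]
        exact (Finset.sum_subtype (p := (· ∈ B)) _ (fun χ => by simp)
          fun χ : IrrCharacter G => (w χ : ℂ) * (χ : G → ℂ) g).symm
      · simp only [if_neg hg, mul_zero, Finset.sum_const_zero]
    have z1 : ∀ (g : G), ¬ 2 ∣ orderOf g → ∀ i,
        ∑ χ, (L.Ci i χ : ℂ) * (χ : G → ℂ) g = 0 ∧
        ∑ χ, (L.Ci' i χ : ℂ) * (χ : G → ℂ) g = 0 := fun g hg i => by
      have a1 := L.sum_T_regular (isRot_sub (ix i) 0) hg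
      have a2 := L.sum_T_regular (isRot_sub (ix i) (half k)) hg
      change ∑ χ, L.T (dC i) χ * (χ : G → ℂ) g = 0 at a1
      change ∑ χ, L.T (dC' i) χ * (χ : G → ℂ) g = 0 at a2
      simp only [fun χ => (L.Ci_spec i χ).1] at a1
      simp only [fun χ => (L.Ci_spec i χ).2] at a2
      exact ⟨a1, a2⟩
    rintro (i | ⟨⟩)
    · exact key (L.Ci i) (fun χ hχ => (hno χ hχ i).1) fun g hg => (z1 g hg i).1
    · refine key (fun χ => L.Ci' i₀ χ - L.Ci i₀ χ)
        (fun χ hχ => by rw [(hno χ hχ i₀).1, (hno χ hχ i₀).2, sub_zero])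
        fun g hg => ?_
      push_cast
      simp only [sub_mul, Finset.sum_sub_distrib, (z1 g hg i₀).1, (z1 g hg i₀).2, sub_zero]
  have hli : LinearIndependent ℂ v := by
    rw [Fintype.linearIndependent_iff]
    intro c hc
    set eB : Fin (mm k) ⊕ Fin 4 → B := fun p => ⟨Sum.elim ψ a p, (hmem _).2 ⟨p, rfl⟩⟩
    have hev : ∀ p, ∑ q, c q * v q (eB p) = 0 := fun p => by
      have := congrFun hc (eB p)
      simpa [Finset.sum_apply] using this
    have hval : ∀ (p) i, v (Sum.inl i) (eB p) = (L.Ci i (Sum.elim ψ a p) : ℂ) := fun p i => rfl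
    have hvalW : ∀ p, v (Sum.inr ()) (eB p) =
        ((L.Ci' i₀ (Sum.elim ψ a p) - L.Ci i₀ (Sum.elim ψ a p) : ℤ) : ℂ) := fun p => rfl
    have hCψ : ∀ i l, L.Ci i (ψ l) = (if i = l then σ else 0) ∧
        L.Ci' i (ψ l) = if i = l then σ else 0 := fun i l => by
      rw [hC, hC']
      simp only [fun j => ind1_ne (hψa l j), mul_zero, add_zero]
      by_cases h : i = l
      · subst h; simp [ind1_self]
      · rw [if_neg h, ind1_ne fun h' => h (hψ h').symm]; simp
    have hσC : (σ : ℂ) ≠ 0 := by rcases hσ with h | h <;> simp [h]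
    have hl : ∀ l, c (Sum.inl l) = 0 := fun l => by
      have h := hev (Sum.inl l)
      simp only [Fintype.sum_sum_type, hval, Fintype.sum_unique, hvalW, Sum.elim_inl,
        (hCψ _ _).1, (hCψ _ _).2, sub_self, Int.cast_zero, mul_zero, add_zero] at h
      simp only [Int.cast_ite, Int.cast_zero, mul_ite, mul_zero, Finset.sum_ite_eq',
        Finset.mem_univ, if_true] at h
      exact (mul_eq_zero.1 h).resolve_right hσC
    rintro (l | ⟨⟩)
    · exact hl l
    · have h := hev (Sum.inr 2)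
      simp only [Fintype.sum_sum_type, hl, zero_mul, Finset.sum_const_zero, zero_add,
        Fintype.sum_unique, hvalW, Sum.elim_inr] at h
      refine (mul_eq_zero.1 h).resolve_right ?_
      rw [Int.cast_eq_zero, hC, hC']
      have g0 : ind1 (a 0) (a 2) = 0 := ind1_ne fun h => absurd (ha h) (by decide)
      have g1 : ind1 (a 1) (a 2) = 0 := ind1_ne fun h => absurd (ha h) (by decide)
      have g3 : ind1 (a 3) (a 2) = 0 := ind1_ne fun h => absurd (ha h) (by decide)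
      simp only [fun l => ind1_ne (hψa l 2).symm, ind1_self, g0, g1, g3]
      rcases he 2 with h | h <;> simp [h]
  have h1 := LinearMap.finrank_range_add_finrank_ker Λ
  rw [Module.finrank_pi] at h1
  have h2 : mm k + 1 ≤ Module.finrank ℂ (LinearMap.ker Λ) := by
    have hli' : LinearIndependent ℂ fun q => (⟨v q, hker q⟩ : LinearMap.ker Λ) :=
      LinearIndependent.of_comp (LinearMap.ker Λ).subtype hli
    simpa [Fintype.card_sum] using hli'.fintype_card_le_finrank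
  have h3 : Module.finrank ℂ (LinearMap.range Λ) = blockRank 2 B := by
    rw [blockRank, Fintype.range_linearCombination,
      show (fun χ : B => pRegularPart 2 ((χ : IrrCharacter G) : G → ℂ)) =
        (fun χ : IrrCharacter G => pRegularPart 2 (χ : G → ℂ)) ∘ Subtype.val from rfl,
      Set.range_comp, Subtype.range_coe]
  rw [← Nat.card_eq_fintype_card, hcard] at h1
  omega


theorem invariants (hR : IsRegular L.Ci L.Ci') :
    Nat.card B = 2 ^ (k + 1) + 3 ∧ 1 ≤ blockRank 2 B ∧ blockRank 2 B ≤ 3 ∧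
      Nat.card {χ : IrrCharacter G // χ ∈ B ∧ blockHeight 2 B (χ : G → ℂ) = 0} = 4 ∧
      ∀ χ ∈ B, blockHeight 2 B (χ : G → ℂ) ≤ 1 := by
  obtain ⟨ψ, σ, a, e, hinj, hσ, he, hC, hC'⟩ := hR
  obtain ⟨hm, hodd⟩ := mm_spec k
  have hB : IsPBlock M B := L.ind.2.1
  set pt : Fin (mm k) ⊕ Fin 4 → IrrCharacter G := Sum.elim ψ a with hpt
  set V : IrrCharacter G → ℤ := fun χ =>
    ∑ i : Fin (mm k), (-1) ^ ((i : ℕ) + 1) * (L.Ci i χ + L.Ci' i χ)
  have hVV : ∀ χ, L.V χ = (V χ : ℂ) := L.V_int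
  have hVx : ∀ χ, V χ = ∑ i : Fin (mm k), (-1) ^ ((i : ℕ) + 1) * (2 * σ) * ind1 (ψ i) χ -
      ∑ j, e j * ind1 (a j) χ := fun χ => by
    have h1 : ∀ i : Fin (mm k), (-1 : ℤ) ^ ((i : ℕ) + 1) * (L.Ci i χ + L.Ci' i χ) =
        (-1) ^ ((i : ℕ) + 1) * (2 * σ) * ind1 (ψ i) χ +
          (-1) ^ ((i : ℕ) + 1) * ∑ j, e j * ind1 (a j) χ := fun i => by
      rw [hC, hC', Fin.sum_univ_four]; ring
    simp only [V, h1, Finset.sum_add_distrib, ← Finset.sum_mul, sum_alt]
    ring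
  have hne : ∀ j l, pt j = pt l → j = l := fun j l h => hinj h
  have hψa : ∀ i j, ψ i ≠ a j := fun i j h => by simpa using hne (Sum.inl i) (Sum.inr j) h
  have hψ : Function.Injective ψ := fun i j h => Sum.inl_injective (hne (Sum.inl i) (Sum.inl j) h)
  have ha : Function.Injective a := fun i j h => Sum.inr_injective (hne (Sum.inr i) (Sum.inr j) h)
  have hVψ : ∀ i, V (ψ i) = (-1) ^ ((i : ℕ) + 1) * (2 * σ) := fun i => by
    rw [hVx, Finset.sum_eq_single i (fun j _ hj => by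
      rw [ind1_ne fun h => hj (hψ h).symm, mul_zero]) (fun h => absurd (Finset.mem_univ i) h),
      ind1_self, Finset.sum_eq_zero fun j _ => by rw [ind1_ne (hψa i j), mul_zero]]
    ring
  have hVa : ∀ j, V (a j) = -e j := fun j => by
    rw [hVx, Finset.sum_eq_zero fun i _ => by rw [ind1_ne (hψa i j).symm, mul_zero],
      Finset.sum_eq_single j (fun l _ hl => by rw [ind1_ne fun h => hl (ha h).symm, mul_zero])
      (fun h => absurd (Finset.mem_univ j) h), ind1_self]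
    ring
  have hout : ∀ χ, (∀ p, pt p ≠ χ) → ∀ i, L.Ci i χ = 0 ∧ L.Ci' i χ = 0 := fun χ hχ i => by
    have h1 : ∀ l, ind1 (ψ l) χ = 0 := fun l => ind1_ne (hχ (Sum.inl l)).symm
    have h2 : ∀ l, ind1 (a l) χ = 0 := fun l => ind1_ne (hχ (Sum.inr l)).symm
    rw [hC, hC']
    simp [h1, h2]
  have hmem : ∀ χ, χ ∈ B ↔ ∃ p, pt p = χ := fun χ => by
    rw [L.mem_iff, hVV, Ne, Int.cast_eq_zero]
    constructor
    · intro h
      by_contra hcon
      push Not at hcon
      refine h (Finset.sum_eq_zero fun i _ => ?_)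
      rw [(hout χ hcon i).1, (hout χ hcon i).2]; ring
    · rintro ⟨i | j, rfl⟩
      · simp only [pt, Sum.elim_inl, hVψ]
        rcases hσ with h | h <;> simp [h]
      · simp only [pt, Sum.elim_inr, hVa]
        rcases he j with h | h <;> simp [h]
  have hsum : ∀ F : IrrCharacter G → ℤ, (∀ χ, χ ∉ B → F χ = 0) →
      ∑ χ, F χ = ∑ p, F (pt p) := fun F hF => by
    rw [← Finset.sum_image (f := F) (g := pt) (s := Finset.univ) fun _ _ _ _ h => hinj h]
    refine (Finset.sum_subset (Finset.subset_univ _) fun χ _ hχ => hF χ fun h => ?_).symm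
    obtain ⟨p, hp⟩ := (hmem χ).1 h
    exact hχ (Finset.mem_image.2 ⟨p, Finset.mem_univ _, hp⟩)
  let eB : Fin (mm k) ⊕ Fin 4 ≃ B := Equiv.ofBijective (fun p => ⟨pt p, (hmem _).2 ⟨p, rfl⟩⟩)
    ⟨fun p q h => hinj (congrArg Subtype.val h), fun χ => by
      obtain ⟨p, hp⟩ := (hmem χ.1).1 χ.2
      exact ⟨p, Subtype.ext hp⟩⟩
  have hcard : Nat.card B = 2 ^ (k + 1) + 3 := by
    rw [← Nat.card_congr eB, Nat.card_sum, Nat.card_fin, Nat.card_fin, hm]
  -- degrees
  set red' : IrrCharacter G → ℤ := fun χ => (red 2 B χ : ℤ)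
  have hdeg : ∀ p, deg (pt p) = 2 ^ minExp 2 B * red' (pt p) := fun p => by
    simp only [deg, red', degree_red (p := 2) ((hmem _).2 ⟨p, rfl⟩)]
    push_cast; rfl
  have hrel : ∀ i, σ * red' (ψ i) + e 0 * red' (a 0) + e 1 * red' (a 1) = 0 ∧
      σ * red' (ψ i) + e 2 * red' (a 2) + e 3 * red' (a 3) = 0 := fun i => by
    have hp : (2 : ℤ) ^ minExp 2 B ≠ 0 := pow_ne_zero _ two_ne_zero
    constructor <;> refine mul_left_cancel₀ hp ?_ <;> rw [mul_zero]
    · rw [← (L.Ci_deg i).1]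
      simp only [hC, add_mul, mul_assoc, Finset.sum_add_distrib, ← Finset.mul_sum, sum_ind1_mul]
      rw [show ψ i = pt (Sum.inl i) from rfl, show a 0 = pt (Sum.inr 0) from rfl,
        show a 1 = pt (Sum.inr 1) from rfl, hdeg, hdeg, hdeg]
      ring
    · rw [← (L.Ci_deg i).2]
      simp only [hC', add_mul, mul_assoc, Finset.sum_add_distrib, ← Finset.mul_sum, sum_ind1_mul]
      rw [show ψ i = pt (Sum.inl i) from rfl, show a 2 = pt (Sum.inr 2) from rfl,
        show a 3 = pt (Sum.inr 3) from rfl, hdeg, hdeg, hdeg]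
      ring
  set i₀ : Fin (mm k) := ⟨0, hodd.pos⟩
  have hRi : ∀ i, red' (ψ i) = red' (ψ i₀) := fun i => by
    refine mul_left_cancel₀ (show σ ≠ 0 by rcases hσ with h | h <;> omega) ?_
    linear_combination (hrel i).1 - (hrel i₀).1
  have hψeven : ∀ i, Even (red' (ψ i)) := fun i => by
    by_contra h
    rw [Int.not_even_iff_odd] at h
    simp only [red', Int.odd_coe_nat] at h
    have := L.V_odd ((hmem _).2 ⟨Sum.inl i, rfl⟩) (n := V (ψ i))
      (fun hd => (Nat.not_even_iff_odd.2 h) (even_iff_two_dvd.2 hd)) (hVV _)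
    rw [hVψ, ← Int.not_even_iff_odd] at this
    exact this ⟨(-1) ^ ((i : ℕ) + 1) * σ, by ring⟩
  have hex : ∃ j, Odd (red' (a j)) := by
    obtain ⟨χ, hχ, hχu, -⟩ := exists_height_zero hM hB
    obtain ⟨i | j, hp⟩ := (hmem χ).1 hχ
    · refine absurd ?_ hχu
      have h := hψeven i
      simp only [red', Int.even_coe_nat] at h
      rw [← hp]
      exact even_iff_two_dvd.1 h
    · refine ⟨j, ?_⟩
      simp only [red', Int.odd_coe_nat]
      rw [← Nat.not_even_iff_odd]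
      exact fun h => hχu (by rw [← hp]; exact even_iff_two_dvd.1 h)
  have h8 : (8 : ℤ) ∣ ∑ j, red' (a j) * red' (a j) +
      (mm k : ℤ) * (red' (ψ i₀) * red' (ψ i₀)) := by
    set U : ℕ := ∑ p : Fin (mm k) ⊕ Fin 4, red 2 B (pt p) ^ 2 with hU
    have hfin : ∑ᶠ χ ∈ B, charDegree (χ : G → ℂ) ^ 2 = 2 ^ (2 * minExp 2 B) * U := by
      rw [finsum_mem_eq_sum_of_inter_support_eq (t := Finset.univ.image pt), Finset.sum_image
        fun _ _ _ _ h => hinj h, hU, Finset.mul_sum]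
      · exact Finset.sum_congr rfl fun p _ => by
          rw [degree_red (p := 2) ((hmem _).2 ⟨p, rfl⟩)]; ring
      · ext χ; simp [hmem]
    have hv := sum_sq_valuation hM hB
    have hU0 : U ≠ 0 := by
      rw [hU]
      exact (Finset.sum_pos (fun p _ => pow_pos (red_pos ((hmem _).2 ⟨p, rfl⟩)) 2)
        ⟨Sum.inr 0, Finset.mem_univ _⟩).ne'
    rw [hfin, Nat.factorization_mul (pow_ne_zero _ two_ne_zero) hU0, Finsupp.add_apply,
      Nat.Prime.factorization_pow Nat.prime_two, Finsupp.single_eq_same, L.defB] at hv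
    have ha := minExp_add_defect hM hB
    rw [L.defB] at ha
    have := Int.natCast_dvd_natCast.2 (dvd_eight hU0 (by omega : U.factorization 2 = k + 3))
    rw [hU] at this
    push_cast [Fintype.sum_sum_type] at this
    rw [add_comm]
    convert this using 2
    · rw [Finset.sum_congr rfl (g := fun _ => red' (ψ i₀) ^ 2) fun i _ => by
        rw [← hRi i]; rfl]
      simp [sq]
    · exact Finset.sum_congr rfl fun j _ => (sq _).symm
  obtain ⟨hao, h4⟩ := parity hodd (hψeven i₀) he (hrel i₀).1 (hrel i₀).2 hex h8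
  -- heights
  have hh : ∀ p l, 2 ^ l ∣ red 2 B (pt p) ↔ l ≤ blockHeight 2 B ((pt p : IrrCharacter G) : G → ℂ) :=
    fun p l => by
    rw [pow_dvd_red hM.1 ((hmem _).2 ⟨p, rfl⟩)]
    have hmin := minExp_le (p := 2) ((hmem _).2 ⟨p, rfl⟩)
    show _ ↔ l ≤ (charDegree ((pt p : IrrCharacter G) : G → ℂ)).factorization 2 - minExp 2 B
    omega
  have hha : ∀ j, blockHeight 2 B (a j : G → ℂ) = 0 := fun j => by
    by_contra h
    have h1 := (hh (Sum.inr j) 1).2 (Nat.one_le_iff_ne_zero.2 h)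
    have h2 := hao j
    simp only [red', Int.odd_coe_nat, ← Nat.not_even_iff_odd] at h2
    exact h2 (even_iff_two_dvd.2 (by rwa [pow_one] at h1))
  have hhψ : ∀ i, blockHeight 2 B (ψ i : G → ℂ) = 1 := fun i => by
    have h1 : 1 ≤ blockHeight 2 B (ψ i : G → ℂ) := (hh (Sum.inl i) 1).1 (by
      have h := hψeven i
      simp only [red', Int.even_coe_nat] at h
      rw [pow_one]; exact even_iff_two_dvd.1 h)
    refine le_antisymm ?_ h1
    by_contra h
    push Not at h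
    have h2 := (hh (Sum.inl i) 2).2 (show 2 ≤ blockHeight 2 B (ψ i : G → ℂ) by omega)
    refine h4 ?_
    rw [← hRi i]
    exact Int.natCast_dvd_natCast.2 h2
  refine ⟨hcard, CyclicDefectBound.one_le_blockRank hM hB, ?_, ?_, ?_⟩
  · exact L.blockRank_le hcard hmem hinj hσ he hC hC'
  · let e4 : Fin 4 ≃ {χ : IrrCharacter G // χ ∈ B ∧ blockHeight 2 B (χ : G → ℂ) = 0} :=
      Equiv.ofBijective (fun j => ⟨a j, (hmem _).2 ⟨Sum.inr j, rfl⟩, hha j⟩)
        ⟨fun i j h => ha (congrArg Subtype.val h), fun χ => by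
          obtain ⟨i | j, hp⟩ := (hmem χ.1).1 χ.2.1
          · exfalso
            have h := χ.2.2
            rw [← hp] at h
            simp only [pt, Sum.elim_inl, hhψ] at h
            exact one_ne_zero h
          · exact ⟨j, Subtype.ext hp⟩⟩
    rw [← Nat.card_congr e4, Nat.card_fin]
  · intro χ hχ
    obtain ⟨i | j, rfl⟩ := (hmem χ).1 hχ
    · exact (hhψ i).le
    · exact (hha j).trans_le zero_le_one

end Loc

end CfsgLib.DihedralBlk
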