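import Cfsg.Agent.Lib.Blocks.ClassCount
import Cfsg.Agent.Lib.Blocks.PPart
import Mathlib.GroupTheory.GroupAction.Quotient
import Mathlib.GroupTheory.SpecificGroups.Cyclic

/-!
# Pairs of conjugate involutions with product of 2-part of order eight
-/

set_option autoImplicit false
set_option linter.unusedSectionVars false

namespace CfsgLib.DihedralBlk

open Cfsg CfsgLib.ClassCount CfsgLib.Blocks
open scoped Classical

variable {G : Type*} [Group G] [Fintype G]

/-- The number of ways of writing `x` as a product of two conjugates of `z`. -/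
noncomputable def pairNum (z x : G) : ℕ := ((cls z).filter fun p => p⁻¹ * x ∈ cls z).card

theorem pairNum_conj (z x t : G) : pairNum z (t * x * t⁻¹) = pairNum z x := by
  have hc : ∀ (s y : G), s * y * s⁻¹ ∈ cls z ↔ y ∈ cls z := fun s y => by
    rw [mem_cls, mem_cls]
    exact ⟨fun h => h.trans (isConj_iff.2 ⟨s⁻¹, by group⟩), fun h => h.trans (isConj_iff.2 ⟨s, rfl⟩)⟩
  refine Finset.card_bij' (fun p _ => t⁻¹ * p * t) (fun p _ => t * p * t⁻¹) ?_ ?_
    (fun p _ => by group) (fun p _ => by group)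
  · intro p hp
    rw [Finset.mem_filter] at hp ⊢
    refine ⟨?_, ?_⟩
    · have := (hc t (t⁻¹ * p * t)).1 (by rw [show t * (t⁻¹ * p * t) * t⁻¹ = p by group]; exact hp.1)
      exact this
    · apply (hc t _).1
      rw [show t * ((t⁻¹ * p * t)⁻¹ * x) * t⁻¹ = p⁻¹ * (t * x * t⁻¹) by group]
      exact hp.2
  · intro p hp
    rw [Finset.mem_filter] at hp ⊢
    refine ⟨(hc t p).2 hp.1, ?_⟩
    rw [show (t * p * t⁻¹)⁻¹ * (t * x * t⁻¹) = t * (p⁻¹ * x) * t⁻¹ by group]
    exact (hc t _).2 hp.2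

/-- Summing a function over the products. -/
theorem sum_products (z : G) (f : G → ℂ) :
    ∑ p ∈ cls z, ∑ q ∈ cls z, f (p * q) = ∑ x, (pairNum z x : ℂ) * f x := by
  have h1 : ∀ p, ∑ q ∈ cls z, f (p * q) = ∑ x, if p⁻¹ * x ∈ cls z then f x else 0 := fun p => by
    rw [← Equiv.sum_comp (Equiv.mulLeft p) (fun x => if p⁻¹ * x ∈ cls z then f x else 0)]
    simp only [Equiv.coe_mulLeft, inv_mul_cancel_left]
    rw [← Finset.sum_filter, Finset.filter_mem_eq_inter, Finset.univ_inter]
  simp only [h1]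
  rw [Finset.sum_comm]
  refine Finset.sum_congr rfl fun x _ => ?_
  rw [pairNum, ← Finset.sum_filter, Finset.sum_const, nsmul_eq_mul]

/-- Four divides the number of pairs. -/
theorem four_dvd_pairNum {z x u : G} (hz : orderOf z = 2) (hu : IsPPart 2 x u)
    (ho : orderOf u = 8) : 4 ∣ pairNum z x := by
  set S := (cls z).filter fun p => p⁻¹ * x ∈ cls z with hS
  have hsq : ∀ p ∈ cls z, p * p = 1 := fun p hp => by
    obtain ⟨c, rfl⟩ := isConj_iff.1 (mem_cls.1 hp)
    have : z * z = 1 := by rw [← sq, ← hz, pow_orderOf_eq_one]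
    rw [show c * z * c⁻¹ * (c * z * c⁻¹) = c * (z * z) * c⁻¹ by group, this, mul_one, mul_inv_cancel]
  obtain ⟨y, hy, hcy, hk, hy2⟩ := id hu
  have hux : Commute u x := hy ▸ (Commute.refl u).mul_right hcy
  have hinv : ∀ p ∈ S, p * u * p⁻¹ = u⁻¹ := fun p hp => by
    obtain ⟨h1, h2⟩ := Finset.mem_filter.1 hp
    have hp1 := hsq p h1
    have hp2 := hsq _ h2
    have hpx : p * x * p⁻¹ = x⁻¹ := by
      rw [mul_eq_one_iff_eq_inv, mul_inv_rev, inv_inv] at hp2
      have hpi : p⁻¹ = p := inv_eq_of_mul_eq_one_right hp1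
      rw [hpi] at hp2 ⊢
      rw [hp2, mul_assoc, hp1, mul_one]
    refine IsPPart.unique Nat.prime_two (g := x⁻¹) (hpx ▸ IsPPart.conj hu p) ?_
    refine ⟨y⁻¹, ?_, hcy.inv_inv, by simpa [orderOf_inv] using hk, by simpa [orderOf_inv] using hy2⟩
    rw [← hy, mul_inv_rev, hcy.inv_inv.eq]
  have hclosed : ∀ (h : Subgroup.zpowers u) (p : G), p ∈ S → (h : G) * p * (h : G)⁻¹ ∈ S := by
    intro h p hp
    obtain ⟨h1, h2⟩ := Finset.mem_filter.1 hp
    have hc : Commute (h : G) x := by
      obtain ⟨i, hi⟩ := Subgroup.mem_zpowers_iff.1 h.2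
      rw [← hi]
      exact hux.zpow_left i
    have conj_mem : ∀ q ∈ cls z, (h : G) * q * (h : G)⁻¹ ∈ cls z := fun q hq =>
      mem_cls.2 ((mem_cls.1 hq).trans (isConj_iff.2 ⟨h, rfl⟩))
    refine Finset.mem_filter.2 ⟨conj_mem p h1, ?_⟩
    have : ((h : G) * p * (h : G)⁻¹)⁻¹ * x = (h : G) * (p⁻¹ * x) * (h : G)⁻¹ := by
      rw [mul_inv_rev, mul_inv_rev, inv_inv]
      simp only [mul_assoc]
      rw [hc.inv_left.eq]
    rw [this]
    exact conj_mem _ h2
  let _ : MulAction (Subgroup.zpowers u) S :=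
    { smul := fun h p => ⟨(h : G) * p.1 * (h : G)⁻¹, hclosed h p.1 p.2⟩
      one_smul := fun p => Subtype.ext (show (1 : G) * p.1 * (1 : G)⁻¹ = p.1 by simp)
      mul_smul := fun h h' p => Subtype.ext (show ((h * h' : Subgroup.zpowers u) : G) * p.1 *
        ((h * h' : Subgroup.zpowers u) : G)⁻¹ = (h : G) * ((h' : G) * p.1 * (h' : G)⁻¹) * (h : G)⁻¹ by
          simp [mul_assoc]) }
  have horb : ∀ p : S, 4 ∣ Fintype.card (MulAction.orbit (Subgroup.zpowers u) p) := by
    intro p
    have hmul := MulAction.card_orbit_mul_card_stabilizer_eq_card_group (Subgroup.zpowers u) p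
    rw [Fintype.card_zpowers, ho] at hmul
    have hst : Fintype.card (MulAction.stabilizer (Subgroup.zpowers u) p) ≤ 2 := by
      refine le_trans ?_ (IsCyclic.card_pow_eq_one_le (α := Subgroup.zpowers u) two_pos)
      rw [Fintype.card_subtype]
      refine Finset.card_le_card fun h hh => ?_
      simp only [Finset.mem_filter, Finset.mem_univ, true_and] at hh ⊢
      have h1 : (h : G) * p.1 * (h : G)⁻¹ = p.1 := congrArg Subtype.val hh
      obtain ⟨i, hi⟩ := Subgroup.mem_zpowers_iff.1 h.2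
      have h2 : p.1 * (h : G) * p.1⁻¹ = (h : G)⁻¹ := by
        rw [← hi, ← conj_zpow, hinv p.1 p.2, inv_zpow]
      have h3 : p.1 * (h : G) * p.1⁻¹ = (h : G) := by
        rw [mul_inv_eq_iff_eq_mul.1 h1 |>.symm, mul_inv_cancel_right]
      apply Subtype.ext
      rw [SubgroupClass.coe_pow, OneMemClass.coe_one, sq]
      exact mul_eq_one_iff_eq_inv.2 (h3.symm.trans h2)
    set o := Fintype.card (MulAction.orbit (Subgroup.zpowers u) p)
    set s := Fintype.card (MulAction.stabilizer (Subgroup.zpowers u) p)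
    have hs0 : 0 < s := Fintype.card_pos
    rcases (show s = 1 ∨ s = 2 by omega) with h | h <;> rw [h] at hmul <;> omega
  have hcard : pairNum z x = Fintype.card S := by rw [Fintype.card_coe]; rfl
  rw [hcard, Fintype.card_congr (MulAction.selfEquivSigmaOrbits (Subgroup.zpowers u) S),
    Fintype.card_sigma]
  exact Finset.dvd_sum fun ω _ => horb _

end CfsgLib.DihedralBlk
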