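import Cfsg.Agent.Lib.DihedralBlk.Section
import Cfsg.Agent.Lib.DihedralBlk.PairCount
import Cfsg.Agent.Lib.BlockCover.DefectGroup
import Cfsg.Agent.Lib.BlockCover.PValues

/-!
# A column of the local block at an element with maximal cyclic 2-part
-/

set_option autoImplicit false
set_option linter.unusedSectionVars false
set_option maxHeartbeats 1000000

namespace CfsgLib.DihedralBlk

open Cfsg CfsgLib.NilBlk CfsgLib.Blocks CfsgLib.Characters CfsgLib.BrauerPairs DihedralGroup
open scoped Classical ComplexConjugate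

universe u

variable {G : Type u} [Group G] [Fintype G] [Fact (Nat.Prime 2)] {M : Ideal AlgInt} [M.IsMaximal]
  {hM : IsPModular 2 M} {B : Set (IrrCharacter G)} {k : ℕ}

namespace Loc

variable (L : Loc hM B k)

theorem exists_good (hD : IsDefectGroup 2 M L.b L.P) :
    ∃ y : L.K, IsPPart 2 y (L.pr (r 1)) ∧ ¬ MemLocalIdeal M (conj ((L.xi : L.K → ℂ) y)) := by
  obtain ⟨x, hx, hu, S, hS⟩ := BlockCover.exists_regular_sylow hM L.ind.1 hD
  set u := L.pr (r 1)
  have huC : u ∈ Subgroup.centralizer ({x} : Set L.K) := by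
    have h1 : u ∈ L.P := (L.φ.symm (r 1)).2
    rw [← hS] at h1
    obtain ⟨w, -, hw⟩ := h1
    rw [← hw]
    exact w.2
  have hc : Commute u x := Subgroup.mem_centralizer_singleton_iff.1 huC
  have hou : ∃ i, orderOf u = 2 ^ i := ⟨k + 2, by rw [L.orderOf_pr, DihedralGroup.orderOf_r_one]⟩
  have hxi : ¬ MemLocalIdeal M ((L.xi : L.K → ℂ) x) := by
    intro hmem
    refine hu L.xi L.mem ?_
    let Cx := Subgroup.centralizer ({x} : Set L.K)
    have hP : Nat.card L.P = 2 ^ (k + 3) := by
      rw [Nat.card_congr L.φ.toEquiv, DihedralGroup.nat_card, ← pow_succ']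
    have hS2 : (Nat.card Cx).factorization 2 = k + 3 := by
      have h1 : Nat.card L.P = 2 ^ (Nat.card Cx).factorization 2 := by
        rw [← hS, Subgroup.card_map_of_injective (Subgroup.subtype_injective _), S.card_eq_multiplicity]
      exact Nat.pow_right_injective le_rfl (h1.symm.trans hP)
    have h2 := BlockCover.factorization_card_eq (p := 2) Cx
    have h3 := Contribution.minExp_add_defect hM L.ind.1
    rw [L.defb] at h3
    have hidx : (Cx.index : ℂ) = (2 : ℂ) ^ Contribution.minExp 2 L.b *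
        ((Cx.index / 2 ^ Cx.index.factorization 2 : ℕ) : ℂ) := by
      rw [show Contribution.minExp 2 L.b = Cx.index.factorization 2 by omega]
      exact_mod_cast (Nat.ordProj_mul_ordCompl_eq_self Cx.index 2).symm
    rw [centralChar, hidx, Contribution.apply_one_red (p := 2) L.mem, Nat.cast_ofNat, mul_assoc,
      mul_div_mul_left _ _ (pow_ne_zero _ two_ne_zero), div_eq_mul_inv]
    refine MemLocalIdeal.mul_right hM (MemLocalIdeal.mul_left hM (natCast_mem (lRing hM) _) hmem) ?_
    exact inv_natCast_mem_lRing hM (SubsectionSq.not_dvd_red hM L.mem L.h0)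
  refine ⟨u * x⁻¹, isPPart_mul hc.inv_right hou (by rwa [orderOf_inv]), ?_⟩
  rw [← irr_apply_inv, mul_inv_rev, inv_inv, (hc.symm.inv_right).eq]
  intro h
  refine hxi ?_
  have h2 := BlockCover.irr_mul_pElement_congr hM L.xi (x := u⁻¹) (y := x)
    (by simpa [orderOf_inv] using hou) hc.inv_left
  simpa using MemLocalIdeal.sub hM h h2

/-- The column of the local block at `y`, as a function on the model. -/
noncomputable def colFun (y : L.K) (q : DihedralGroup (2 ^ (k + 2))) : ℂ :=
  ∑ lam : IrrCharacter L.P,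
    conj (L.st (fun p => (lam : L.P → ℂ) (L.φ.symm p)) y) * (lam : L.P → ℂ) (L.φ.symm q)

theorem isClassFunction_model (lam : IrrCharacter L.P) :
    IsClassFunction (DihedralGroup (2 ^ (k + 2))) (fun p => (lam : L.P → ℂ) (L.φ.symm p)) :=
  fun a c => by simp only [map_mul, map_inv]; exact irr_isClassFunction lam _ _

theorem isClassFunction_colFun (y : L.K) :
    IsClassFunction (DihedralGroup (2 ^ (k + 2))) (L.colFun y) := fun a c => by
  unfold colFun
  exact Finset.sum_congr rfl fun lam _ => congrArg _ (L.isClassFunction_model lam a c)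

theorem st_colFun (y x : L.K) :
    L.st (L.colFun y) x = ∑ ξ ∈ Finset.univ.filter (· ∈ L.b),
      (ξ : L.K → ℂ) x * conj ((ξ : L.K → ℂ) y) := by
  obtain ⟨η, hη⟩ := L.exists_equiv_irr
  unfold colFun
  rw [L.st_linear Finset.univ _ (fun (lam : IrrCharacter L.P) p => (lam : L.P → ℂ) (L.φ.symm p))
    L.isClassFunction_model, Finset.sum_subtype
    (p := fun ξ : IrrCharacter L.K => ξ ∈ L.b) _ (fun ξ => by simp), ← η.sum_comp]
  exact Finset.sum_congr rfl fun lam _ => by rw [← hη]; exact mul_comm _ _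

theorem classInner_colFun_one (y : L.K) :
    classInner (L.colFun y) (fun _ => 1) = conj ((L.xi : L.K → ℂ) y) := by
  have hone : L.st (fun _ => 1) = (L.xi : L.K → ℂ) := starC_const_one L.nil L.mem
  rw [← L.classInner_st (L.isClassFunction_colFun y) (fun _ _ => rfl), hone]
  have hfun : L.st (L.colFun y) = ∑ ξ ∈ Finset.univ.filter (· ∈ L.b),
      conj ((ξ : L.K → ℂ) y) • (ξ : L.K → ℂ) := by
    funext x
    simp [L.st_colFun, mul_comm]
  rw [hfun, classInner_sum_left, Finset.sum_eq_single L.xi]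
  · rw [classInner_smul_left, classInner_irr_self L.xi.2, mul_one]
  · intro ξ _ hne
    rw [classInner_smul_left, classInner_irr_ne ξ.2 L.xi.2 (fun h => hne (Subtype.ext h)), mul_zero]
  · exact fun h => absurd (Finset.mem_filter.2 ⟨Finset.mem_univ _, L.mem⟩) h

theorem colFun_supp {y u : L.K} (hu : IsPPart 2 y u) {q : DihedralGroup (2 ^ (k + 2))}
    (hq : L.colFun y q ≠ 0) : orderOf q = orderOf u := by
  set g : DihedralGroup (2 ^ (k + 2)) → ℂ := fun p => ∑ lam : IrrCharacter L.P,
    conj ((lam : L.P → ℂ) (L.φ.symm q)) * (lam : L.P → ℂ) (L.φ.symm p) with hg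
  have hgc : IsClassFunction _ g := fun a c =>
    Finset.sum_congr rfl fun lam _ => congrArg _ (L.isClassFunction_model lam a c)
  have hne : L.st g y ≠ 0 := by
    rw [hg, L.st_linear Finset.univ _ (fun (lam : IrrCharacter L.P) p =>
      (lam : L.P → ℂ) (L.φ.symm p)) L.isClassFunction_model]
    intro h0
    refine hq ?_
    have h1 := congrArg conj h0
    simp only [map_sum, map_mul, Complex.conj_conj, map_zero] at h1
    rw [colFun, ← h1]
    exact Finset.sum_congr rfl fun lam _ => mul_comm _ _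
  obtain ⟨u', t, p, hu', ht, hp⟩ := L.exists_of_st_ne_zero hgc hne
  have hconj : IsConj (L.φ.symm p) (L.φ.symm q) := by
    by_contra hcon
    refine hp ?_
    have h := column_orth (G := L.P) (L.φ.symm p) (L.φ.symm q)
    rw [if_neg hcon] at h
    rw [hg, ← h]
    exact Finset.sum_congr rfl fun lam _ => mul_comm _ _
  obtain ⟨c, hc⟩ := isConj_iff.1 hconj
  rw [← L.orderOf_pr q, pr, Subgroup.orderOf_coe, ← hc, BPStar.orderOf_conj', ← Subgroup.orderOf_coe,
    show ((L.φ.symm p : L.P) : L.K) = L.pr p from rfl, ← ht, BPStar.orderOf_conj',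
    IsPPart.unique hM.1 hu hu']

/-- The sum of the column over a class is a multiple of the centraliser order. -/
theorem st_colFun_eq (y x : L.K) :
    L.st (L.colFun y) x = (Nat.card (Subgroup.centralizer ({x} : Set L.K)) : ℂ) *
      ∑ g : L.K, if IsConj x g then blockCoeff L.b (g⁻¹ * y) else 0 := by
  have key : ∀ ξ : IrrCharacter L.K,
      (∑ g : L.K, if IsConj x g then conj ((ξ : L.K → ℂ) (g⁻¹ * y)) else 0) =
        centralChar (ξ : L.K → ℂ) x * conj ((ξ : L.K → ℂ) y) := fun ξ => by
    rw [← irr_apply_inv ξ y, ← sum_isConj_mul ξ x y⁻¹]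
    refine Finset.sum_congr rfl fun g _ => ?_
    split_ifs
    · rw [← irr_apply_inv, mul_inv_rev, inv_inv, ← irr_isClassFunction ξ (y⁻¹ * g) g]
      congr 1
      group
    · rfl
  have hsum : ∑ g : L.K, (if IsConj x g then blockCoeff L.b (g⁻¹ * y) else 0) =
      (Nat.card L.K : ℂ)⁻¹ * ∑ ξ ∈ Finset.univ.filter (· ∈ L.b), (ξ : L.K → ℂ) 1 *
        (centralChar (ξ : L.K → ℂ) x * conj ((ξ : L.K → ℂ) y)) := by
    simp only [← key, Finset.mul_sum, mul_ite, mul_zero]
    rw [Finset.sum_comm]
    refine Finset.sum_congr rfl fun g _ => ?_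
    split_ifs
    · rw [Blocks.blockCoeff_eq_sum, Finset.mul_sum]
    · exact Finset.sum_const_zero.symm
  rw [hsum, L.st_colFun, ← mul_assoc, Finset.mul_sum]
  refine Finset.sum_congr rfl fun ξ _ => ?_
  have h := ClassCount.centralChar_mul_centralizer (ξ : L.K → ℂ) x
  have hK : (Nat.card L.K : ℂ) ≠ 0 := Nat.cast_ne_zero.2 Nat.card_pos.ne'
  have h1 := irr_one_ne_zero ξ
  rw [show ∀ c i e w v : ℂ, c * i * (e * (w * v)) = i * e * (w * c) * v from
    fun c i e w v => by ring, h]
  field_simp

/-- A sum against a class function divisible by four on the support. -/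
theorem exists_sum_eq (y : L.K) (n : L.K → ℕ) (hn : ∀ a c, n (c * a * c⁻¹) = n a)
    (hdvd : ∀ x, L.st (L.colFun y) x ≠ 0 → 4 ∣ n x) :
    ∃ μ : ℂ, μ ∈ lRing hM ∧ ∑ x : L.K, L.st (L.colFun y) x * (n x : ℂ) =
      4 * (Nat.card L.K : ℂ) * μ := by
  set η := L.st (L.colFun y)
  refine ⟨∑ g : L.K, if η g ≠ 0 then ((n g / 4 : ℕ) : ℂ) * blockCoeff L.b (g⁻¹ * y) else 0,
    Subring.sum_mem _ fun g _ => ?_, ?_⟩
  · split_ifs
    · exact (lRing hM).mul_mem (natCast_mem (lRing hM) _) (memLocalRing_blockCoeff hM L.ind.1 _)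
    · exact (lRing hM).zero_mem
  have hcl : ∀ x g : L.K, IsConj x g → η g = η x ∧ n g = n x ∧
      Nat.card (Subgroup.centralizer ({g} : Set L.K)) =
        Nat.card (Subgroup.centralizer ({x} : Set L.K)) := fun x g h => by
    obtain ⟨c, rfl⟩ := isConj_iff.1 h
    refine ⟨L.isClassFunction_st (L.isClassFunction_colFun y) x c, hn x c, ?_⟩
    apply Nat.eq_of_mul_eq_mul_left (ClassCount.card_cls (G := L.K) x ▸
      Finset.card_pos.2 ⟨x, ClassCount.mem_cls_self x⟩ : 0 < _)
    conv_rhs => rw [Subgroup.index_mul_card]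
    rw [← ClassCount.card_cls, show ClassCount.cls x = ClassCount.cls (c * x * c⁻¹) from ?_,
      ClassCount.card_cls_mul_centralizer]
    ext w
    rw [ClassCount.mem_cls, ClassCount.mem_cls]
    exact ⟨fun h' => (isConj_iff.2 ⟨c, rfl⟩ : IsConj x _).symm.trans h',
      fun h' => (isConj_iff.2 ⟨c, rfl⟩ : IsConj x _).trans h'⟩
  have e : ∀ x, η x * (n x : ℂ) = ∑ g : L.K, if IsConj x g then
      (Nat.card (Subgroup.centralizer ({g} : Set L.K)) : ℂ) *
        (if η g ≠ 0 then (n g : ℂ) * blockCoeff L.b (g⁻¹ * y) else 0) else 0 := by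
    intro x
    by_cases hx : η x = 0
    · rw [hx, zero_mul]
      refine (Finset.sum_eq_zero fun g _ => ?_).symm
      split_ifs with h h'
      · exact absurd ((hcl x g h).1.trans hx) h'
      · rw [mul_zero]
      · rfl
    · conv_lhs => rw [show η x = _ from L.st_colFun_eq y x]
      rw [Finset.mul_sum, Finset.sum_mul]
      refine Finset.sum_congr rfl fun g _ => ?_
      split_ifs with h h'
      · obtain ⟨-, h2, h3⟩ := hcl x g h
        rw [h2, h3]; ring
      · exact absurd ((hcl x g h).1.symm.trans (not_not.1 h')) hx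
      · ring
  simp only [e]
  rw [Finset.sum_comm, Finset.mul_sum]
  refine Finset.sum_congr rfl fun g _ => ?_
  rw [← Finset.sum_filter, Finset.sum_const, nsmul_eq_mul,
    show (Finset.univ.filter fun x : L.K => IsConj x g) = ClassCount.cls g from by
      ext w; rw [Finset.mem_filter, ClassCount.mem_cls, isConj_comm]; simp, ← mul_assoc, ← Nat.cast_mul,
    ClassCount.card_cls_mul_centralizer]
  split_ifs with h
  · obtain ⟨j, hj⟩ := hdvd g h
    rw [hj, Nat.mul_div_cancel_left _ four_pos]
    push_cast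
    ring
  · ring

end Loc

end CfsgLib.DihedralBlk
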