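import Cfsg.Agent.Lib.DihedralBlk.Vectors
import Cfsg.Agent.Lib.DihedralBlk.Kernel

/-!
# The exceptional shape does not occur
-/

set_option autoImplicit false
set_option linter.unusedSectionVars false
set_option maxHeartbeats 1000000

namespace CfsgLib.DihedralBlk

open Cfsg CfsgLib.Blocks CfsgLib.Characters CfsgLib.Contribution DihedralGroup
open scoped Classical ComplexConjugate

universe u

theorem classInner_delta_right {k : ℕ} (f : DihedralGroup (2 ^ (k + 2)) → ℂ) :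
    classInner f (Loc.delta k) = f (Loc.mid k) := by
  have hN : ((2 ^ (k + 2) : ℕ) : ℂ) ≠ 0 := Nat.cast_ne_zero.2 (by positivity)
  rw [classInner, Finset.sum_eq_single (Loc.mid k) (fun p _ hp => by simp [Loc.delta, hp])
    (fun h => absurd (Finset.mem_univ _) h), DihedralGroup.nat_card, Loc.delta, if_pos rfl]
  push_cast at hN ⊢
  simp only [map_mul, map_pow, map_ofNat]
  field_simp

/-- A class function of the dihedral group of order 16 supported at elements of order eight. -/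
theorem model_expand (F : DihedralGroup (2 ^ (1 + 2)) → ℂ) (hF : IsClassFunction _ F)
    (hsupp : ∀ q, F q ≠ 0 → orderOf q = 8) :
    ∃ A : ℂ, ∀ q, F q = A * (psi 1 q - psi 3 q) +
      classInner F (fun _ => 1) * (psi 0 q - psi 4 q) := by
  set w : AddChar (ZMod (2 ^ (1 + 2))) ℂ := ZMod.stdAddChar
  set c : ℂ := w 1 + w (-1) with hc
  have h4 : w 4 = -1 := by
    have h1 : w 4 * w 4 = 1 := by
      rw [← AddChar.map_add_eq_mul, show (4 : ZMod (2 ^ (1 + 2))) + 4 = 0 by decide,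
        AddChar.map_zero_eq_one]
    refine (mul_self_eq_one_iff.1 h1).resolve_left fun h => ?_
    exact absurd (ZMod.injective_stdAddChar (h.trans (AddChar.map_zero_eq_one w).symm)) (by decide)
  have hc0 : c ≠ 0 := fun h => by
    have e1 : w 2 = -1 := by
      have e2 : w 1 * w (-1) = 1 := by
        rw [← AddChar.map_add_eq_mul, add_neg_cancel, AddChar.map_zero_eq_one]
      rw [show (2 : ZMod (2 ^ (1 + 2))) = 1 + 1 by decide, AddChar.map_add_eq_mul]
      linear_combination (w 1) * h - e2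
    exact absurd (ZMod.injective_stdAddChar (e1.trans h4.symm)) (by decide)
  have hval : ∀ j : ZMod (2 ^ (1 + 2)),
      (orderOf (r j : DihedralGroup (2 ^ (1 + 2))) = 8 ∧
        (j = 1 ∨ j = 7 ∨ j = 3 ∨ j = 5)) ∨
      (orderOf (r j : DihedralGroup (2 ^ (1 + 2))) ≠ 8 ∧ 3 * j = -j ∧ 4 * j = 0) := by
    simp only [DihedralGroup.orderOf_r]
    decide
  have hinv : ∀ j, F (r (-j)) = F (r j) := fun j => by
    have h := hF (r j) (sr 0)
    rw [sr_mul_r, inv_sr, sr_mul_sr] at h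
    simpa using h
  have h3 : ∀ i : ZMod (2 ^ (1 + 2)), w (4 + i) = -w i := fun i => by
    rw [AddChar.map_add_eq_mul, h4]; ring
  have e13 : psi 1 (r (1 : ZMod (2 ^ (1 + 2)))) = c ∧ psi 3 (r (1 : ZMod (2 ^ (1 + 2)))) = -c ∧
      psi 1 (r (3 : ZMod (2 ^ (1 + 2)))) = -c ∧ psi 3 (r (3 : ZMod (2 ^ (1 + 2)))) = c := by
    refine ⟨?_, ?_, ?_, ?_⟩ <;> rw [psi_r]
    · rw [show (1 : ZMod (2 ^ (1 + 2))) * 1 = 1 by decide]
    · rw [show (3 : ZMod (2 ^ (1 + 2))) * 1 = 4 + -1 by decide,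
        show -((4 : ZMod (2 ^ (1 + 2))) + -1) = 4 + 1 by decide, h3, h3, hc]; ring
    · rw [show (1 : ZMod (2 ^ (1 + 2))) * 3 = 4 + -1 by decide,
        show -((4 : ZMod (2 ^ (1 + 2))) + -1) = 4 + 1 by decide, h3, h3, hc]; ring
    · rw [show (3 : ZMod (2 ^ (1 + 2))) * 3 = 1 by decide]
  have e04 : ∀ j : ZMod (2 ^ (1 + 2)), 4 * j = 4 → psi 0 (r j) - psi 4 (r j) = 4 := fun j hj => by
    rw [psi_r, psi_r, zero_mul, neg_zero, hj, show -(4 : ZMod (2 ^ (1 + 2))) = 4 by decide]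
    change w 0 + w 0 - (w 4 + w 4) = 4
    rw [AddChar.map_zero_eq_one, h4]
    norm_num
  set A : ℂ := (F (r 1) - F (r 3)) / (4 * c)
  set β : ℂ := (F (r 1) + F (r 3)) / 8
  have hexp : ∀ q, F q = A * (psi 1 q - psi 3 q) + β * (psi 0 q - psi 4 q) := by
    intro q
    cases q with
    | sr j =>
      have : F (sr j) = 0 := by
        by_contra h
        have := hsupp _ h
        rw [DihedralGroup.orderOf_sr] at this
        omega
      rw [this]
      simp [psi_sr]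
    | r j =>
      rcases hval j with ⟨-, hj⟩ | ⟨ho, h31, h40⟩
      · have key1 : F (r (1 : ZMod (2 ^ (1 + 2)))) =
            A * (psi 1 (r (1 : ZMod (2 ^ (1 + 2)))) - psi 3 (r (1 : ZMod (2 ^ (1 + 2))))) +
            β * (psi 0 (r (1 : ZMod (2 ^ (1 + 2)))) - psi 4 (r (1 : ZMod (2 ^ (1 + 2))))) := by
          rw [e13.1, e13.2.1, e04 1 (by decide)]
          simp only [A, β]
          field_simp
          ring
        have key3 : F (r (3 : ZMod (2 ^ (1 + 2)))) =
            A * (psi 1 (r (3 : ZMod (2 ^ (1 + 2)))) - psi 3 (r (3 : ZMod (2 ^ (1 + 2))))) +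
            β * (psi 0 (r (3 : ZMod (2 ^ (1 + 2)))) - psi 4 (r (3 : ZMod (2 ^ (1 + 2))))) := by
          rw [e13.2.2.1, e13.2.2.2, e04 3 (by decide)]
          simp only [A, β]
          field_simp
          ring
        have hpneg : ∀ (a : ZMod (2 ^ (1 + 2))) (i : ZMod (2 ^ (1 + 2))),
            psi a (r (-i)) = psi a (r i) := fun a i => by
          rw [psi_r, psi_r, mul_neg, neg_neg, add_comm]
        rcases hj with rfl | rfl | rfl | rfl
        · exact key1
        · rw [show (7 : ZMod (2 ^ (1 + 2))) = -1 by decide]; simpa only [hinv, hpneg] using key1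
        · exact key3
        · rw [show (5 : ZMod (2 ^ (1 + 2))) = -3 by decide]; simpa only [hinv, hpneg] using key3
      · have : F (r j) = 0 := by
          by_contra h
          exact ho (hsupp _ h)
        rw [this, psi_r, psi_r, psi_r, psi_r, one_mul, h31, neg_neg, h40, zero_mul]
        ring
  refine ⟨A, fun q => ?_⟩
  suffices hb : classInner F (fun _ => 1) = β by rw [hb]; exact hexp q
  rw [funext hexp]
  have e : ∀ a : ZMod (2 ^ (1 + 2)), (Nat.card (DihedralGroup (2 ^ (1 + 2))) : ℂ)⁻¹ *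
      ∑ q, psi a q = if a = 0 then 1 else 0 := fun a => by
    rw [← classInner_psi_one a, classInner]; simp
  simp only [classInner, map_one, mul_one, Finset.sum_add_distrib, ← Finset.mul_sum,
    Finset.sum_sub_distrib, mul_add, mul_sub]
  simp only [mul_left_comm ((Nat.card (DihedralGroup (2 ^ (1 + 2))) : ℂ)⁻¹)]
  rw [e, e, e, e, if_neg (by decide), if_neg (by decide), if_pos rfl, if_neg (by decide)]
  ring

variable {G : Type u} [Group G] [Fintype G] [Fact (Nat.Prime 2)] {M : Ideal AlgInt} [M.IsMaximal]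
  {hM : IsPModular 2 M} {B : Set (IrrCharacter G)}

namespace Loc

theorem exotic_false (L : Loc hM B 1) {C C' : Fin 3 → IrrCharacter G → ℤ}
    {dA dA' : Fin 3 → DihedralGroup (2 ^ (1 + 2)) → ℂ}
    (hA : ∀ i, IsRot (dA i)) (hA' : ∀ i, IsRot (dA' i))
    (hC : ∀ i χ, L.T (dA i) χ = C i χ) (hC' : ∀ i χ, L.T (dA' i) χ = C' i χ)
    (hV : ∀ χ, L.V χ = ((∑ i : Fin 3, (-1) ^ ((i : ℕ) + 1) * (C i χ + C' i χ) : ℤ) : ℂ))
    {s : ℂ} (hs : s = 1 ∨ s = -1)
    (hF : ∀ q, psi 0 q - psi 4 q = s * (dA' 0 q - dA 0 q))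
    (hF' : ∀ q, psi 1 q - psi 3 q = dA 0 q - dA 2 q)
    (hex : IsExotic C C' deg) : False := by
  obtain ⟨-, ψ, σ, a, b, D, hψ, hψa, hψb, hab, hσ, hDψ, hDa, hDb, hCx, hC'x⟩ := hex
  have hB : IsPBlock M B := L.ind.2.1
  have hσC : (σ : ℂ) * σ = 1 := by rcases hσ with h | h <;> simp [h]
  set pt : Fin 5 → IrrCharacter G := ![ψ 0, ψ 1, ψ 2, a, b] with hpt
  have n01 : ψ 0 ≠ ψ 1 := fun h => absurd (hψ h) (by decide)
  have n02 : ψ 0 ≠ ψ 2 := fun h => absurd (hψ h) (by decide)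
  have n12 : ψ 1 ≠ ψ 2 := fun h => absurd (hψ h) (by decide)
  have hinj : Function.Injective pt := by
    intro i j h
    fin_cases i <;> fin_cases j <;>
      simp [pt, n01, n02, n12, n01.symm, n02.symm, n12.symm, hψa, fun i => (hψa i).symm, hψb,
        fun i => (hψb i).symm, hab, hab.symm] at h ⊢
  -- values on the five points
  have hval : ∀ i j, ind1 (pt i) (pt j) = if j = i then 1 else 0 := fun i j => by
    simp only [ind1, hinj.eq_iff]
  have hCrow : ∀ i x, C i x = σ * (ind1 (ψ i) x - (ind1 (ψ 0) x + ind1 (ψ 1) x + ind1 (ψ 2) x) +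
      ind1 a x) := fun i x => by rw [hCx, Fin.sum_univ_three]
  set V : IrrCharacter G → ℤ := fun χ => ∑ i : Fin 3, (-1) ^ ((i : ℕ) + 1) * (C i χ + C' i χ)
  have hVx : ∀ x, V x = σ * (-ind1 (ψ 0) x + 3 * ind1 (ψ 1) x - ind1 (ψ 2) x - 2 * ind1 a x +
      ind1 b x) := fun x => by
    simp only [V, Fin.sum_univ_three, hCrow, hC'x, Fin.val_zero, Fin.val_one, Fin.val_two]
    ring
  have hout : ∀ x, (∀ l, pt l ≠ x) → (∀ i, C i x = 0) ∧ (∀ i, C' i x = 0) ∧ V x = 0 := fun x hx => by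
    have h0 : ind1 (ψ 0) x = 0 := ind1_ne (hx 0).symm
    have h1 : ind1 (ψ 1) x = 0 := ind1_ne (hx 1).symm
    have h2 : ind1 (ψ 2) x = 0 := ind1_ne (hx 2).symm
    have ha : ind1 a x = 0 := ind1_ne (hx 3).symm
    have hb : ind1 b x = 0 := ind1_ne (hx 4).symm
    have hi : ∀ i : Fin 3, ind1 (ψ i) x = 0 := fun i => by fin_cases i <;> assumption
    refine ⟨fun i => ?_, fun i => ?_, ?_⟩
    · rw [hCrow, hi, h0, h1, h2, ha]; ring
    · rw [hC'x, hi, ha, hb]; ring
    · rw [hVx, h0, h1, h2, ha, hb]; ring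
  have p0 : pt 0 = ψ 0 := rfl
  have p1 : pt 1 = ψ 1 := rfl
  have p2 : pt 2 = ψ 2 := rfl
  have p3 : pt 3 = a := rfl
  have p4 : pt 4 = b := rfl
  have hmem : ∀ χ, χ ∈ B ↔ ∃ l, pt l = χ := fun χ => by
    rw [L.mem_iff, hV, Ne, Int.cast_eq_zero]
    constructor
    · intro h
      by_contra hcon
      push Not at hcon
      exact h (hout χ hcon).2.2
    · rintro ⟨l, rfl⟩
      show V (pt l) ≠ 0
      rw [hVx, ← p0, ← p1, ← p2, ← p3, ← p4]
      simp only [hval]
      rcases hσ with h | h <;> fin_cases l <;> simp [h]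
  have hfive : ∀ (f : IrrCharacter G → ℂ), (∀ x, (∀ l, pt l ≠ x) → f x = 0) →
      ∑ x, f x = f (ψ 0) + f (ψ 1) + f (ψ 2) + f a + f b := fun f hf => by
    rw [← Finset.sum_subset (Finset.subset_univ (Finset.univ.image pt)) (fun x _ hx =>
      hf x fun l hl => hx (Finset.mem_image.2 ⟨l, Finset.mem_univ _, hl⟩)),
      Finset.sum_image fun _ _ _ _ h => hinj h, Fin.sum_univ_five]
    rfl
  -- the values at the central involution
  set zK := L.pr (mid 1)
  set ξz : ℂ := (L.xi : L.K → ℂ) zK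
  set X : IrrCharacter G → ℂ := fun χ => (χ : G → ℂ) (zK : G) - ξz * (V χ : ℂ)
  have hVT : ∀ χ, L.T (delta 1) χ = (V χ : ℂ) := hV
  have hortho : ∀ (f : DihedralGroup (2 ^ (1 + 2)) → ℂ) (Cf : IrrCharacter G → ℤ), IsRot f →
      (∀ χ, L.T f χ = Cf χ) → ∑ χ, (Cf χ : ℂ) * X χ = 0 := fun f Cf hf hT => by
    have h1 := L.sum_T_mid hf
    have h2 := L.sum_T_mul hf (isRot_delta 1)
    rw [classInner_delta_right] at h2
    simp only [hT, hVT, map_intCast] at h1 h2
    simp only [X, mul_sub, Finset.sum_sub_distrib]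
    rw [h1, ← h2, Finset.sum_mul, sub_eq_zero]
    exact Finset.sum_congr rfl fun χ _ => by ring
  have eqC : ∀ i, ∑ χ, (C i χ : ℂ) * X χ = 0 := fun i => hortho _ _ (hA i) (hC i)
  have eqC' : ∀ i, ∑ χ, (C' i χ : ℂ) * X χ = 0 := fun i => hortho _ _ (hA' i) (hC' i)
  have eqD : ∑ χ ∈ Finset.univ.filter (· ∈ B), (charDegree (χ : G → ℂ) : ℂ) * X χ = 0 := by
    have hz2 : 2 ∣ orderOf (zK : G) := by rw [Subgroup.orderOf_coe, L.orderOf_mid]
    have h1 := weak_orth hM hB (x := (1 : G)) (by rw [orderOf_one]; decide) hz2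
    have h2 := L.sum_T_regular (isRot_delta 1) (g := (1 : G)) (by rw [orderOf_one]; decide)
    have hzi : (zK : G)⁻¹ = (zK : G) := inv_eq_of_mul_eq_one_right (by
      rw [← sq, ← L.orderOf_mid, ← Subgroup.orderOf_coe, pow_orderOf_eq_one])
    simp only [← irr_apply_inv, hzi, CharCorr.irr_one_eq_charDegree] at h1
    simp only [hVT, CharCorr.irr_one_eq_charDegree] at h2
    simp only [X, mul_sub, Finset.sum_sub_distrib, h1, zero_sub, neg_eq_zero]
    rw [Finset.sum_subset (Finset.subset_univ _) fun χ _ hχ => by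
      have : V χ = 0 := (hout χ fun l hl => hχ (Finset.mem_filter.2
        ⟨Finset.mem_univ _, (hmem χ).2 ⟨l, hl⟩⟩)).2.2
      rw [this, Int.cast_zero, mul_zero, mul_zero],
      Finset.sum_congr rfl fun (χ : IrrCharacter G) _ => mul_left_comm (charDegree (χ : G → ℂ) : ℂ) ξz (V χ : ℂ),
      ← Finset.mul_sum, Finset.sum_congr rfl fun (χ : IrrCharacter G) _ => mul_comm (charDegree (χ : G → ℂ) : ℂ) (V χ : ℂ),
      h2, mul_zero]
  have hdeg : ∀ χ : IrrCharacter G, (charDegree (χ : G → ℂ) : ℂ) = ((deg χ : ℤ) : ℂ) := fun χ => by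
    simp [deg]
  have hX : X (ψ 0) = 0 ∧ X (ψ 1) = 0 ∧ X (ψ 2) = 0 ∧ X a = 0 ∧ X b = 0 := by
    rw [Finset.sum_filter, hfive _ (fun x hx => if_neg fun h => by
      obtain ⟨l, hl⟩ := (hmem x).1 h; exact hx l hl),
      if_pos ((hmem (ψ 0)).2 ⟨0, rfl⟩), if_pos ((hmem (ψ 1)).2 ⟨1, rfl⟩),
      if_pos ((hmem (ψ 2)).2 ⟨2, rfl⟩), if_pos ((hmem a).2 ⟨3, rfl⟩),
      if_pos ((hmem b).2 ⟨4, rfl⟩)] at eqD
    simp only [hdeg, hDψ, hDa, hDb] at eqD
    have hD0 : (D : ℂ) ≠ 0 := by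
      rw [Int.cast_ne_zero, ← hDψ 0]; exact (deg_pos _).ne'
    have eD : X (ψ 0) + X (ψ 1) + X (ψ 2) + 2 * X a + 3 * X b = 0 := by
      refine (mul_eq_zero.1 (?_ : (D : ℂ) * _ = 0)).resolve_left hD0
      push_cast at eqD
      linear_combination eqD
    have c0 := eqC 0
    have c1 := eqC 1
    have c2 := eqC 2
    have c0' := eqC' 0
    rw [hfive _ fun x hx => by rw [(hout x hx).1, Int.cast_zero, zero_mul]] at c0 c1 c2
    rw [hfive _ fun x hx => by rw [(hout x hx).2.1, Int.cast_zero, zero_mul]] at c0'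
    simp only [hCrow, hC'x, ← p0, ← p1, ← p2, ← p3, ← p4, hval] at c0 c1 c2 c0'
    simp at c0 c1 c2 c0'
    simp only [p0, p1, p2, p3, p4] at c0 c1 c2 c0'
    have hσ0 : (σ : ℂ) ≠ 0 := left_ne_zero_of_mul (by rw [hσC]; exact one_ne_zero)
    have d0 : X a = X (ψ 1) + X (ψ 2) :=
      mul_left_cancel₀ hσ0 (by linear_combination c0)
    have d1 : X a = X (ψ 0) + X (ψ 2) :=
      mul_left_cancel₀ hσ0 (by linear_combination c1)
    have d2 : X a = X (ψ 0) + X (ψ 1) :=
      mul_left_cancel₀ hσ0 (by linear_combination c2)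
    have d3 : X b = X (ψ 0) + X a :=
      mul_left_cancel₀ hσ0 (by linear_combination -c0')
    refine ⟨?_, ?_, ?_, ?_, ?_⟩ <;> grobner
  have hχz : ∀ l, (pt l : G → ℂ) (zK : G) = ξz * (V (pt l) : ℂ) := fun l => by
    have h : X (pt l) = 0 := by
      fin_cases l
      exacts [hX.1, hX.2.1, hX.2.2.1, hX.2.2.2.1, hX.2.2.2.2]
    exact sub_eq_zero.1 h
  -- the column at a good element
  obtain ⟨y, hy, hα⟩ := L.exists_good L.defP
  set Fy := L.colFun y
  obtain ⟨A, hFy⟩ := model_expand Fy (L.isClassFunction_colFun y) fun q hq => by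
    rw [L.colFun_supp hy hq, L.orderOf_pr, DihedralGroup.orderOf_r_one]
    rfl
  set α : ℂ := conj ((L.xi : L.K → ℂ) y)
  rw [L.classInner_colFun_one y] at hFy
  have hT : ∀ χ, L.T Fy χ = A * ((C 0 χ : ℂ) - C 2 χ) + α * s * ((C' 0 χ : ℂ) - C 0 χ) := fun χ => by
    have e : Fy = fun q => ∑ i : Fin 4, ![A, -A, α * s, -(α * s)] i *
        ![dA 0, dA 2, dA' 0, dA 0] i q := funext fun q => by
      rw [hFy q, hF q, hF' q, Fin.sum_univ_four]
      simp
      ring
    rw [e, L.T_linear Finset.univ _ _ (fun i => by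
      fin_cases i
      exacts [(hA 0).cf, (hA 2).cf, (hA' 0).cf, (hA 0).cf]), Fin.sum_univ_four]
    simp [hC, hC']
    ring
  -- the sum over the pairs of conjugates of the central involution
  set z : G := (zK : G)
  set ω : IrrCharacter G → ℂ := fun χ => centralChar (χ : G → ℂ) z
  have hsum : ∑ χ, L.T Fy χ * (ω χ * ω χ * (χ : G → ℂ) 1) =
      ∑ x, (pairNum z x : ℂ) * indFun L.K (L.st Fy) x := by
    rw [← sum_products]
    simp only [← L.sum_T_apply]
    rw [Finset.sum_congr rfl fun p _ => Finset.sum_comm, Finset.sum_comm]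
    refine Finset.sum_congr rfl fun χ _ => ?_
    simp only [← Finset.mul_sum]
    congr 1
    have h := ClassCount.sum_char_mul χ z z 1
    simp only [mul_one] at h
    exact h.symm
  set n : L.K → ℕ := fun x => pairNum z (x : G)
  have hn : ∀ p q, n (q * p * q⁻¹) = n p := fun p q => pairNum_conj z (p : G) (q : G)
  have hdvd : ∀ x, L.st Fy x ≠ 0 → 4 ∣ n x := fun x hx => by
    obtain ⟨u, t, q, hu, ht, hq⟩ := L.exists_of_st_ne_zero (L.isClassFunction_colFun y) hx
    obtain ⟨w, hw, hc, hk, hw2⟩ := hu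
    refine four_dvd_pairNum (u := (u : G)) (by rw [Subgroup.orderOf_coe, L.orderOf_mid]) ?_ ?_
    · refine ⟨(w : G), congrArg Subtype.val hw, hc.map L.K.subtype, ?_, ?_⟩
      · simpa [Subgroup.orderOf_coe] using hk
      · simpa [Subgroup.orderOf_coe] using hw2
    · rw [Subgroup.orderOf_coe, ← BPStar.orderOf_conj' t, ht, L.orderOf_pr, L.colFun_supp hy hq,
        L.orderOf_pr, DihedralGroup.orderOf_r_one]
      rfl
  obtain ⟨μ, hμ, hμe⟩ := L.exists_sum_eq y n hn hdvd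
  have hrhs : ∑ x, (pairNum z x : ℂ) * indFun L.K (L.st Fy) x = 4 * (Nat.card G : ℂ) * μ := by
    have hG : (Nat.card G : ℂ) ≠ 0 := Nat.cast_ne_zero.2 Nat.card_pos.ne'
    have hK : (Nat.card L.K : ℂ) ≠ 0 := Nat.cast_ne_zero.2 Nat.card_pos.ne'
    have h := Induction.sum_indFun_mul L.K (L.st Fy) (f := fun x => (pairNum z x : ℂ))
      fun x t => by simp only [pairNum_conj]
    rw [show ∑ h : L.K, L.st Fy h * (pairNum z (h : G) : ℂ) = _ from hμe] at h
    rw [Finset.sum_congr rfl fun x _ => mul_comm (pairNum z x : ℂ) _]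
    field_simp at h ⊢
    linear_combination h
  -- valuations
  set I : ℕ := L.K.index
  have hωl : ∀ l, ω (pt l) * ω (pt l) * ((pt l : IrrCharacter G) : G → ℂ) 1 =
      (I : ℂ) * I * (ξz * ξz) * ((V (pt l) : ℂ) * V (pt l)) / (deg (pt l) : ℂ) := fun l => by
    have hidx : (Subgroup.centralizer ({z} : Set G)).index = I := by rw [← L.centraliser_eq]
    simp only [ω, centralChar, hidx, hχz, CharCorr.irr_one_eq_charDegree, hdeg]
    have : ((deg (pt l) : ℤ) : ℂ) ≠ 0 := Int.cast_ne_zero.2 (deg_pos _).ne'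
    field_simp
  have hlhs : ∑ χ, L.T Fy χ * (ω χ * ω χ * (χ : G → ℂ) 1) =
      α * s * σ * ((I : ℂ) * I * (ξz * ξz)) * (32 / (3 * (D : ℂ))) := by
    rw [hfive _ fun x hx => by
      rw [hT, (hout x hx).1, (hout x hx).1, (hout x hx).2.1]; simp]
    simp only [← p0, ← p1, ← p2, ← p3, ← p4, hωl]
    simp only [hT, p0, p1, p2, p3, p4, hDψ, hDa, hDb]
    simp only [hCrow, hC'x, hVx, ← p0, ← p1, ← p2, ← p3, ← p4, hval]
    have hD0 : (D : ℂ) ≠ 0 := by
      rw [Int.cast_ne_zero, ← hDψ 0]; exact (deg_pos _).ne'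
    simp
    field_simp
    linear_combination (32 * α * s * (σ : ℂ) * (I : ℂ) ^ 2 * ξz ^ 2) * hσC
  have hfinal := hlhs.symm.trans (hsum.trans hrhs)
  -- the parities
  set e := minExp 2 B
  set eb := minExp 2 L.b
  have he := minExp_add_defect hM hB
  have heb := minExp_add_defect hM L.ind.1
  rw [L.defB] at he
  rw [L.defb] at heb
  have hvi := BlockCover.factorization_card_eq (p := 2) L.K
  set o1 : ℕ := I / 2 ^ I.factorization 2
  have hI : (I : ℂ) = (2 : ℂ) ^ I.factorization 2 * (o1 : ℂ) := by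
    exact_mod_cast (Nat.ordProj_mul_ordCompl_eq_self I 2).symm
  set o4 : ℕ := Nat.card G / 2 ^ (Nat.card G).factorization 2
  have hG4 : (Nat.card G : ℂ) = (2 : ℂ) ^ (Nat.card G).factorization 2 * (o4 : ℂ) := by
    exact_mod_cast (Nat.ordProj_mul_ordCompl_eq_self (Nat.card G) 2).symm
  set R : ℕ := red 2 B (ψ 0)
  have hD : (D : ℂ) = (2 : ℂ) ^ e * (R : ℂ) := by
    rw [← hDψ 0, ← hdeg, degree_red (p := 2) ((hmem (ψ 0)).2 ⟨0, rfl⟩)]
    push_cast; rfl
  set r' : ℕ := red 2 L.b L.xi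
  have hω0 : L.omega0 * L.omega0 = 1 := by rcases L.omega0_sq with h | h <;> simp [h]
  have hξz : ξz = L.omega0 * ((2 : ℂ) ^ eb * (r' : ℂ)) := by
    have h := apply_one_red (p := 2) L.mem
    push_cast at h
    rw [← h, omega0, div_mul_cancel₀ _ (irr_one_ne_zero L.xi)]
  have hRpos : (R : ℂ) ≠ 0 := Nat.cast_ne_zero.2 (red_pos ((hmem (ψ 0)).2 ⟨0, rfl⟩)).ne'
  have hkey : α * (s * σ * ((o1 * o1 * (r' * r') : ℕ) : ℂ)) =
      ((2 * (3 * R * o4) : ℕ) : ℂ) * μ := by
    rw [hI, hξz, hG4, hD] at hfinal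
    have e1 : (2 : ℂ) ^ I.factorization 2 * (2 : ℂ) ^ eb = (2 : ℂ) ^ e := by
      rw [← pow_add]
      congr 1
      simp only [e, eb, I] at *
      omega
    have e2 : (2 : ℂ) ^ (Nat.card G).factorization 2 = (2 : ℂ) ^ e * 16 := by
      rw [← he, pow_add]
      norm_num
      rfl
    rw [e2] at hfinal
    field_simp at hfinal
    push_cast
    have hp : (32 : ℂ) * ((2 : ℂ) ^ e * (2 : ℂ) ^ e) ≠ 0 :=
      mul_ne_zero (by norm_num) (mul_ne_zero (pow_ne_zero _ two_ne_zero) (pow_ne_zero _ two_ne_zero))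
    refine mul_left_cancel₀ hp ?_
    linear_combination hfinal - (32 * α * s * σ * (o1 : ℂ) ^ 2 * (r' : ℂ) ^ 2 *
      ((2 : ℂ) ^ I.factorization 2 * (2 : ℂ) ^ eb + 2 ^ e) * (L.omega0 * L.omega0)) * e1 -
      (32 * α * s * σ * (o1 : ℂ) ^ 2 * (r' : ℂ) ^ 2 * ((2 : ℂ) ^ e) ^ 2) * hω0
  have hsσ : s * (σ : ℂ) = 1 ∨ s * (σ : ℂ) = -1 := by
    rcases hs with h | h <;> rcases hσ with h' | h' <;> simp [h, h']
  have hrhsI : MemLocalIdeal M (((2 * (3 * R * o4) : ℕ) : ℂ) * μ) :=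
    MemLocalIdeal.mul_right hM ((memLocalIdeal_natCast_iff hM _).2 (Dvd.intro _ rfl)) hμ
  rw [← hkey] at hrhsI
  have hodd : ¬ 2 ∣ o1 * o1 * (r' * r') := by
    have h1 : ¬ 2 ∣ o1 := Nat.not_dvd_ordCompl Nat.prime_two Subgroup.index_ne_zero_of_finite
    have h2 : ¬ 2 ∣ r' := SubsectionSq.not_dvd_red hM L.mem L.h0
    simp [Nat.prime_two.dvd_mul, h1, h2]
  have hαR : MemLocalRing M α := by
    have : α = (L.xi : L.K → ℂ) y⁻¹ := (irr_apply_inv L.xi y).symm
    rw [this]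
    exact isIntegral_mem_lRing hM (ClassCount.irr_isIntegral L.xi y⁻¹)
  have hmain : ¬ MemLocalIdeal M (α * ((o1 * o1 * (r' * r') : ℕ) : ℂ)) :=
    BlockCover.not_memLocalIdeal_mul hM hαR (natCast_mem (lRing hM) _) hα
      fun h => hodd ((memLocalIdeal_natCast_iff hM _).1 h)
  refine hmain ?_
  rcases hsσ with h | h
  · simpa [h] using hrhsI
  · simpa [h] using MemLocalIdeal.sub hM (memLocalIdeal_zero hM) hrhsI

end Loc

end CfsgLib.DihedralBlk
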