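import Cfsg.Agent.Lib.CyclicBlock.Lattice
import Mathlib.Tactic.Linarith
import Mathlib.Tactic.LinearCombination

/-!
# Two stars of vectors of norm three
-/

set_option autoImplicit false
set_option linter.unusedSectionVars false
set_option maxHeartbeats 1000000

namespace CfsgLib.DihedralBlk

open scoped Classical

variable {ι : Type*} [Fintype ι]

/-- The indicator of a point. -/
noncomputable def ind1 (a x : ι) : ℤ := if x = a then 1 else 0

theorem sum_ind1_mul (a : ι) (w : ι → ℤ) : ∑ x, ind1 a x * w x = w a := by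
  simp [ind1, ite_mul]

theorem sum_mul_ind1 (a : ι) (w : ι → ℤ) : ∑ x, w x * ind1 a x = w a := by
  simp [ind1, mul_ite]

theorem sum_sum_ind1_mul {κ : Type*} [Fintype κ] (ψ : κ → ι) (w : ι → ℤ) :
    ∑ x, (∑ j, ind1 (ψ j) x) * w x = ∑ j, w (ψ j) := by
  simp only [Finset.sum_mul]
  rw [Finset.sum_comm]
  exact Finset.sum_congr rfl fun j _ => sum_ind1_mul _ _

theorem ind1_self (a : ι) : ind1 a a = 1 := if_pos rfl

theorem ind1_ne {a x : ι} (h : x ≠ a) : ind1 a x = 0 := if_neg h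

/-- A vector of norm at most three is a signed set. -/
theorem small_support (w : ι → ℤ) {n : ℕ} (hn : n ≤ 3) (h : ∑ x, w x * w x = n) :
    ∃ S : Finset ι, S.card = n ∧ (∀ x ∈ S, w x = 1 ∨ w x = -1) ∧ ∀ x, x ∉ S → w x = 0 := by
  have hle : ∀ x, w x = 0 ∨ w x = 1 ∨ w x = -1 := fun x => by
    have h1 := h ▸ Finset.single_le_sum (f := fun y => w y * w y)
      (fun y _ => mul_self_nonneg (w y)) (Finset.mem_univ x)
    have h2 : (n : ℤ) ≤ 3 := by exact_mod_cast hn
    have : w x < 2 := by nlinarith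
    have : -2 < w x := by nlinarith
    omega
  refine ⟨Finset.univ.filter fun x => w x ≠ 0, ?_, fun x hx => ?_, fun x hx => ?_⟩
  · have h3 : ∑ x, w x * w x = ((Finset.univ.filter fun x => w x ≠ 0).card : ℤ) := by
      rw [Finset.card_filter, Nat.cast_sum]
      refine Finset.sum_congr rfl fun x _ => ?_
      rcases hle x with h0 | h0 | h0 <;> simp [h0]
    exact_mod_cast h3.symm.trans h
  · have := (Finset.mem_filter.1 hx).2
    rcases hle x with h0 | h0 | h0
    · exact absurd h0 this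
    · exact Or.inl h0
    · exact Or.inr h0
  · simpa using hx

theorem two_entries (w : ι → ℤ) (h : ∑ x, w x * w x = 2) :
    ∃ a b : ι, a ≠ b ∧ ∃ p q : ℤ, (p = 1 ∨ p = -1) ∧ (q = 1 ∨ q = -1) ∧
      ∀ x, w x = p * ind1 a x + q * ind1 b x := by
  obtain ⟨S, hS, h1, h0⟩ := small_support w (n := 2) (by norm_num) h
  obtain ⟨a, b, hab, rfl⟩ := Finset.card_eq_two.1 hS
  refine ⟨a, b, hab, w a, w b, h1 a (by simp), h1 b (by simp), fun x => ?_⟩
  by_cases hxa : x = a
  · subst hxa; simp [ind1_self, ind1_ne hab]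
  by_cases hxb : x = b
  · subst hxb; simp [ind1_self, ind1_ne hxa]
  simp [ind1_ne hxa, ind1_ne hxb, h0 x (by simp [hxa, hxb])]

/-- No vector of norm four with even entries is orthogonal to positive degrees. -/
theorem no_even_vector (W d : ι → ℤ) (hd : ∀ x, 0 < d x) (h4 : ∑ x, W x * W x = 4)
    (h2 : ∀ x, 2 ∣ W x) (h0 : ∑ x, W x * d x = 0) : False := by
  choose w hw using h2
  have h1 : ∑ x, w x * w x = (1 : ℕ) := by
    have : 4 * ∑ x, w x * w x = 4 := by
      rw [Finset.mul_sum]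
      exact (Finset.sum_congr rfl fun x _ => by rw [hw x]; ring).trans h4
    push_cast
    omega
  obtain ⟨S, hS, hs1, hs0⟩ := small_support w (by norm_num) h1
  obtain ⟨a, rfl⟩ := Finset.card_eq_one.1 hS
  rw [Finset.sum_eq_single a (fun x _ hx => by rw [hw, hs0 x (by simp [hx])]; ring)
    (fun h => absurd (Finset.mem_univ a) h), hw] at h0
  have hda := hd a
  rcases hs1 a (Finset.mem_singleton_self a) with h | h <;> rw [h] at h0 <;> linarith

/-- The inner product of signed sets has the parity of the overlap. -/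
theorem inner_parity {v w : ι → ℤ} {S S' : Finset ι} (hv : ∀ x ∈ S, v x = 1 ∨ v x = -1)
    (hv0 : ∀ x, x ∉ S → v x = 0) (hw : ∀ x ∈ S', w x = 1 ∨ w x = -1)
    (hw0 : ∀ x, x ∉ S' → w x = 0) : (2 : ℤ) ∣ ∑ x, v x * w x - ((S ∩ S').card : ℤ) := by
  rw [← Finset.sum_subset (Finset.subset_univ (S ∩ S')) fun x _ hx => by
    rw [Finset.mem_inter, not_and_or] at hx
    rcases hx with h | h
    · rw [hv0 x h, zero_mul]
    · rw [hw0 x h, mul_zero],
    Finset.card_eq_sum_ones, Nat.cast_sum, ← Finset.sum_sub_distrib]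
  refine Finset.dvd_sum fun x hx => ?_
  rcases hv x (Finset.mem_inter.1 hx).1 with h | h <;>
    rcases hw x (Finset.mem_inter.1 hx).2 with h' | h' <;> simp [h, h']

theorem even_of_same_support {v w : ι → ℤ} {S : Finset ι} (hv : ∀ x ∈ S, v x = 1 ∨ v x = -1)
    (hv0 : ∀ x, x ∉ S → v x = 0) (hw : ∀ x ∈ S, w x = 1 ∨ w x = -1)
    (hw0 : ∀ x, x ∉ S → w x = 0) (x : ι) : (2 : ℤ) ∣ w x - v x := by
  by_cases hx : x ∈ S
  · rcases hv x hx with h | h <;> rcases hw x hx with h' | h' <;> simp [h, h']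
  · simp [hv0 x hx, hw0 x hx]

variable {m : ℕ}

/-- The generic shape: four further points. -/
def IsRegular (C C' : Fin m → ι → ℤ) : Prop :=
  ∃ (ψ : Fin m → ι) (σ : ℤ) (a : Fin 4 → ι) (e : Fin 4 → ℤ),
    Function.Injective (Sum.elim ψ a) ∧ (σ = 1 ∨ σ = -1) ∧ (∀ j, e j = 1 ∨ e j = -1) ∧
    (∀ i x, C i x = σ * ind1 (ψ i) x + e 0 * ind1 (a 0) x + e 1 * ind1 (a 1) x) ∧
    ∀ i x, C' i x = σ * ind1 (ψ i) x + e 2 * ind1 (a 2) x + e 3 * ind1 (a 3) x

/-- The exceptional shape on five points. -/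
def IsExotic (C C' : Fin m → ι → ℤ) (d : ι → ℤ) : Prop :=
  m = 3 ∧ ∃ (ψ : Fin m → ι) (σ : ℤ) (a b : ι) (D : ℤ),
    Function.Injective ψ ∧ (∀ i, ψ i ≠ a) ∧ (∀ i, ψ i ≠ b) ∧ a ≠ b ∧ (σ = 1 ∨ σ = -1) ∧
    (∀ i, d (ψ i) = D) ∧ d a = 2 * D ∧ d b = 3 * D ∧
    (∀ i x, C i x = σ * (ind1 (ψ i) x - ∑ j, ind1 (ψ j) x + ind1 a x)) ∧
    ∀ i x, C' i x = σ * (ind1 (ψ i) x + ind1 a x - ind1 b x)

theorem exotic_of_data {C C' : Fin m → ι → ℤ} {d : ι → ℤ} (hd : ∀ x, 0 < d x) (hm : m = 3)
    {ψ : Fin m → ι} (hψ : Function.Injective ψ) {σ : ℤ} (hσ : σ = 1 ∨ σ = -1) {U U' : ι → ℤ}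
    (hC : ∀ i x, C i x = σ * ind1 (ψ i) x + U x)
    (hC' : ∀ i x, C' i x = σ * ind1 (ψ i) x + U' x) (hu : ∀ i, σ * U (ψ i) = -1)
    (hu' : ∀ i, σ * U' (ψ i) = 0) (hS : ∑ x, U x * U x = 4) (hS' : ∑ x, U' x * U' x = 2)
    (hX : ∑ x, U x * U' x = 1) (h0 : ∀ i, ∑ x, C i x * d x = 0)
    (h0' : ∀ i, ∑ x, C' i x * d x = 0) : IsExotic C C' d := by
  subst hm
  have hσ2 : σ * σ = 1 := by rcases hσ with h | h <;> rw [h] <;> rfl
  set R : ι → ℤ := fun x => U x + σ * ∑ j, ind1 (ψ j) x
  have hRψ : ∀ i, R (ψ i) = 0 := fun i => by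
    have h1 : ∑ j, ind1 (ψ j) (ψ i) = 1 := by
      rw [Finset.sum_eq_single i (fun j _ hj => ind1_ne fun h => hj (hψ h).symm)
        (fun h => absurd (Finset.mem_univ i) h), ind1_self]
    simp only [R, h1]
    linear_combination σ * hu i - (U (ψ i)) * hσ2
  have hUψ : ∀ i, U (ψ i) = -σ := fun i => by
    linear_combination σ * hu i - (U (ψ i)) * hσ2
  have hsumU : ∀ w : ι → ℤ, ∑ x, w x * ∑ j, ind1 (ψ j) x = ∑ j, w (ψ j) := fun w => by
    simp only [Finset.mul_sum]
    rw [Finset.sum_comm]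
    exact Finset.sum_congr rfl fun j _ => sum_mul_ind1 _ _
  have hR : ∑ x, R x * R x = (1 : ℕ) := by
    have e : ∀ x, R x * R x = U x * U x + σ * (U x * ∑ j, ind1 (ψ j) x) +
        σ * (R x * ∑ j, ind1 (ψ j) x) := fun x => by simp only [R]; ring
    simp only [e, Finset.sum_add_distrib, ← Finset.mul_sum, hsumU, hRψ, hS, hUψ]
    simp only [Finset.sum_const, Finset.card_univ, Fintype.card_fin, mul_zero, nsmul_eq_mul]
    push_cast
    linear_combination -3 * hσ2
  obtain ⟨S, hS1, hs1, hs0⟩ := small_support R (by norm_num) hR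
  obtain ⟨a, rfl⟩ := Finset.card_eq_one.1 hS1
  have hψa : ∀ i, ψ i ≠ a := fun i h => by
    rcases hs1 a (Finset.mem_singleton_self a) with h1 | h1 <;> rw [← h, hRψ] at h1 <;> omega
  have hRx : ∀ x, R x = R a * ind1 a x := fun x => by
    by_cases hx : x = a
    · subst hx; rw [ind1_self, mul_one]
    · rw [ind1_ne hx, mul_zero, hs0 x (by simp [hx])]
  have hU : ∀ x, U x = R a * ind1 a x - σ * ∑ j, ind1 (ψ j) x := fun x => by
    rw [← hRx]; simp only [R]; ring
  -- degrees
  have hdeg : ∀ i, σ * d (ψ i) + (R a * d a - σ * ∑ j, d (ψ j)) = 0 := fun i => by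
    rw [← h0 i]
    simp only [hC, hU, add_mul, sub_mul, mul_assoc, Finset.sum_add_distrib, Finset.sum_sub_distrib,
      ← Finset.mul_sum, sum_ind1_mul]
    congr 3
    simp only [mul_comm _ (d _)]
    rw [hsumU]
  have hD : ∀ i, d (ψ i) = d (ψ 0) := fun i => by
    refine mul_left_cancel₀ (show σ ≠ 0 by rcases hσ with h | h <;> omega) ?_
    linear_combination hdeg i - hdeg 0
  have hDa : R a = σ ∧ d a = 2 * d (ψ 0) := by
    have h := hdeg 0
    simp only [hD, Finset.sum_const, Finset.card_univ, Fintype.card_fin, nsmul_eq_mul] at h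
    push_cast at h
    have := hd a
    have := hd (ψ 0)
    rcases hs1 a (Finset.mem_singleton_self a) with h1 | h1 <;> rcases hσ with h2 | h2 <;>
      rw [h1, h2] at h ⊢ <;> constructor <;> linarith
  obtain ⟨p, q, hpq, s, t, hs, ht, hU'⟩ := two_entries U' hS'
  have hψp : ∀ i, U' (ψ i) = 0 := fun i => by
    rcases mul_eq_zero.1 (hu' i) with h | h
    · rcases hσ with h2 | h2 <;> omega
    · exact h
  have hX' : σ * U' a = 1 := by
    rw [← hX, ← hDa.1]
    simp only [hU, sub_mul, mul_assoc, Finset.sum_sub_distrib, ← Finset.mul_sum, sum_ind1_mul]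
    simp only [mul_comm _ (U' _)]
    rw [hsumU]
    simp [hψp]
  have hU'a : U' a = σ := by linear_combination σ * hX' - (U' a) * hσ2
  obtain ⟨b, hab, τ, hτ, hU'x⟩ : ∃ b, a ≠ b ∧ ∃ τ : ℤ, (τ = 1 ∨ τ = -1) ∧
      ∀ x, U' x = σ * ind1 a x + τ * ind1 b x := by
    have ha := hU' a
    by_cases hap : a = p
    · subst hap
      rw [ind1_self, ind1_ne hpq, hU'a] at ha
      exact ⟨q, hpq, t, ht, fun x => by rw [hU' x]; linear_combination (-ind1 a x) * ha⟩
    · by_cases haq : a = q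
      · subst haq
        rw [ind1_self, ind1_ne hap, hU'a] at ha
        exact ⟨p, hap, s, hs, fun x => by rw [hU' x]; linear_combination (-ind1 a x) * ha⟩
      · rw [ind1_ne hap, ind1_ne haq, hU'a] at ha
        rcases hσ with h | h <;> omega
  have hψb : ∀ i, ψ i ≠ b := fun i h => by
    have h1 := hψp i
    rw [hU'x, h, ind1_self, ind1_ne hab.symm] at h1
    rcases hτ with h2 | h2 <;> omega
  have hDb : τ = -σ ∧ d b = 3 * d (ψ 0) := by
    have h : σ * d (ψ 0) + (σ * d a + τ * d b) = 0 := by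
      rw [← h0' 0]
      simp only [hC', hU'x, add_mul, mul_assoc, Finset.sum_add_distrib, ← Finset.mul_sum,
        sum_ind1_mul]
    have := hd b
    have := hd (ψ 0)
    rw [hDa.2] at h
    rcases hτ with h1 | h1 <;> rcases hσ with h2 | h2 <;> rw [h1, h2] at h ⊢ <;>
      constructor <;> linarith
  exact ⟨rfl, ψ, σ, a, b, d (ψ 0), hψ, hψa, hψb, hab, hσ, hD, hDa.2, hDb.2,
    fun i x => by rw [hC, hU, hDa.1]; ring, fun i x => by rw [hC', hU'x, hDb.1]; ring⟩

theorem regular_of_data {C C' : Fin m → ι → ℤ} {d : ι → ℤ} (hd : ∀ x, 0 < d x) (i₀ : Fin m)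
    {ψ : Fin m → ι} (hψ : Function.Injective ψ) {σ : ℤ} (hσ : σ = 1 ∨ σ = -1) {U U' : ι → ℤ}
    (hC : ∀ i x, C i x = σ * ind1 (ψ i) x + U x)
    (hC' : ∀ i x, C' i x = σ * ind1 (ψ i) x + U' x) (hu : ∀ i, U (ψ i) = 0)
    (hu' : ∀ i, U' (ψ i) = 0) (hS : ∑ x, U x * U x = 2) (hS' : ∑ x, U' x * U' x = 2)
    (hX : ∑ x, U x * U' x = 0) (h0 : ∀ i, ∑ x, C i x * d x = 0)
    (h0' : ∀ i, ∑ x, C' i x * d x = 0) : IsRegular C C' := by
  obtain ⟨S, hS2, hs, hs0⟩ := small_support U (n := 2) (by norm_num) hS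
  obtain ⟨S', hS2', hs', hs0'⟩ := small_support U' (n := 2) (by norm_num) hS'
  have hdisj : S ∩ S' = ∅ := by
    rw [← Finset.card_eq_zero]
    by_contra hne
    have hle : (S ∩ S').card ≤ 2 := hS2 ▸ Finset.card_le_card Finset.inter_subset_left
    have hp := inner_parity hs hs0 hs' hs0'
    rw [hX] at hp
    have h2 : (S ∩ S').card = 2 := by omega
    have e1 : S ∩ S' = S := Finset.eq_of_subset_of_card_le Finset.inter_subset_left (by omega)
    have e2 : S ∩ S' = S' := Finset.eq_of_subset_of_card_le Finset.inter_subset_right (by omega)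
    have e : S' = S := e2.symm.trans e1
    subst e
    refine no_even_vector (fun x => U' x - U x) d hd ?_ (even_of_same_support hs hs0 hs' hs0') ?_
    · have e3 : ∀ x, (U' x - U x) * (U' x - U x) = U' x * U' x + U x * U x - 2 * (U x * U' x) :=
        fun x => by ring
      simp only [e3, Finset.sum_sub_distrib, Finset.sum_add_distrib, ← Finset.mul_sum, hS, hS', hX]
      norm_num
    · have h1 : ∀ x, (U' x - U x) * d x = C' i₀ x * d x - C i₀ x * d x := fun x => by
        rw [hC, hC']; ring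
      simp only [h1, Finset.sum_sub_distrib, h0, h0', sub_zero]
  obtain ⟨a, b, hab, rfl⟩ := Finset.card_eq_two.1 hS2
  obtain ⟨a', b', hab', rfl⟩ := Finset.card_eq_two.1 hS2'
  rw [← Finset.disjoint_iff_inter_eq_empty] at hdisj
  simp only [Finset.disjoint_insert_left, Finset.disjoint_singleton_left, Finset.mem_insert,
    Finset.mem_singleton, not_or] at hdisj
  obtain ⟨⟨haa, hab2⟩, hba, hbb⟩ := hdisj
  have hne : ∀ i, ψ i ≠ a ∧ ψ i ≠ b ∧ ψ i ≠ a' ∧ ψ i ≠ b' := fun i => by
    refine ⟨fun h => ?_, fun h => ?_, fun h => ?_, fun h => ?_⟩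
    · rcases hs a (by simp) with h1 | h1 <;> rw [← h, hu] at h1 <;> omega
    · rcases hs b (by simp) with h1 | h1 <;> rw [← h, hu] at h1 <;> omega
    · rcases hs' a' (by simp) with h1 | h1 <;> rw [← h, hu'] at h1 <;> omega
    · rcases hs' b' (by simp) with h1 | h1 <;> rw [← h, hu'] at h1 <;> omega
  have expand : ∀ (w : ι → ℤ) (p q : ι), p ≠ q → (∀ x, x ∉ ({p, q} : Finset ι) → w x = 0) →
      ∀ x, w x = w p * ind1 p x + w q * ind1 q x := by
    intro w p q hpq hw x
    by_cases hxp : x = p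
    · subst hxp; simp [ind1_self, ind1_ne hpq]
    by_cases hxq : x = q
    · subst hxq; simp [ind1_self, ind1_ne hxp]
    simp [ind1_ne hxp, ind1_ne hxq, hw x (by simp [hxp, hxq])]
  refine ⟨ψ, σ, ![a, b, a', b'], ![U a, U b, U' a', U' b'], ?_, hσ, ?_, fun i x => ?_,
    fun i x => ?_⟩
  · refine hψ.sumElim ?_ fun i j => ?_
    · intro i j h
      fin_cases i <;> fin_cases j <;>
        simp [hab, hab.symm, hab', hab'.symm, haa, Ne.symm haa, hab2, Ne.symm hab2, hba,
          Ne.symm hba, hbb, Ne.symm hbb] at h ⊢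
    · obtain ⟨ne0, ne1, ne2, ne3⟩ := hne i
      fin_cases j
      · exact ne0
      · exact ne1
      · exact ne2
      · exact ne3
  · intro j
    fin_cases j
    · exact hs a (by simp)
    · exact hs b (by simp)
    · exact hs' a' (by simp)
    · exact hs' b' (by simp)
  · rw [hC, expand U a b hab hs0]; simp [add_assoc]
  · rw [hC', expand U' a' b' hab' hs0']; simp [add_assoc]

theorem classify_one {C C' : Fin m → ι → ℤ} {d : ι → ℤ} (hd : ∀ x, 0 < d x) (hm : m = 1)
    (hA : ∀ i j, ∑ x, C i x * C j x = 2 + if i = j then 1 else 0)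
    (hA' : ∀ i j, ∑ x, C' i x * C' j x = 2 + if i = j then 1 else 0)
    (hX : ∀ i j, ∑ x, C i x * C' j x = if i = j then 1 else 0)
    (h0 : ∀ i, ∑ x, C i x * d x = 0) (h0' : ∀ i, ∑ x, C' i x * d x = 0) :
    IsRegular C C' := by
  subst hm
  have hA0 : ∑ x, C 0 x * C 0 x = (3 : ℕ) := by rw [hA]; simp
  have hA1 : ∑ x, C' 0 x * C' 0 x = (3 : ℕ) := by rw [hA']; simp
  obtain ⟨S, hS, hs, hs0⟩ := small_support (C 0) le_rfl hA0
  obtain ⟨S', hS', hs', hs0'⟩ := small_support (C' 0) le_rfl hA1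
  have hX0 : ∑ x, C 0 x * C' 0 x = 1 := by rw [hX]; simp
  have hp := inner_parity hs hs0 hs' hs0'
  rw [hX0] at hp
  have hle : (S ∩ S').card ≤ 3 := hS ▸ Finset.card_le_card Finset.inter_subset_left
  have h1 : (S ∩ S').card = 1 := by
    by_contra hne
    have h3 : (S ∩ S').card = 3 := by omega
    have e1 : S ∩ S' = S := Finset.eq_of_subset_of_card_le Finset.inter_subset_left (by omega)
    have e2 : S ∩ S' = S' := Finset.eq_of_subset_of_card_le Finset.inter_subset_right (by omega)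
    have e : S' = S := e2.symm.trans e1
    subst e
    refine no_even_vector (fun x => C' 0 x - C 0 x) d hd ?_
      (even_of_same_support hs hs0 hs' hs0') ?_
    · have e3 : ∀ x, (C' 0 x - C 0 x) * (C' 0 x - C 0 x) =
          C' 0 x * C' 0 x + C 0 x * C 0 x - 2 * (C 0 x * C' 0 x) := fun x => by ring
      simp only [e3, Finset.sum_sub_distrib, Finset.sum_add_distrib, ← Finset.mul_sum, hA0, hA1,
        hX0]
      norm_num
    · simp only [sub_mul, Finset.sum_sub_distrib, h0, h0', sub_zero]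
  obtain ⟨x₀, hx₀⟩ := Finset.card_eq_one.1 h1
  have hmem : x₀ ∈ S ∧ x₀ ∈ S' := Finset.mem_inter.1 (hx₀ ▸ Finset.mem_singleton_self x₀)
  have hprod : C 0 x₀ * C' 0 x₀ = 1 := by
    rw [← hX0]
    refine (Finset.sum_eq_single (f := fun x => C 0 x * C' 0 x) x₀ (fun x _ hx => ?_)
      fun h => absurd (Finset.mem_univ x₀) h).symm
    have : x ∉ S ∩ S' := by simp [hx₀, hx]
    rw [Finset.mem_inter, not_and_or] at this
    rcases this with h | h
    · rw [hs0 x h, zero_mul]
    · rw [hs0' x h, mul_zero]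
  set σ := C 0 x₀
  have hσ : σ = 1 ∨ σ = -1 := hs x₀ hmem.1
  have hC'x : C' 0 x₀ = σ := by rcases hσ with h | h <;> rw [h] at hprod ⊢ <;> omega
  set U : ι → ℤ := fun x => C 0 x - σ * ind1 x₀ x
  set U' : ι → ℤ := fun x => C' 0 x - σ * ind1 x₀ x
  have hσ2 : σ * σ = 1 := by rcases hσ with h | h <;> rw [h] <;> rfl
  have i0 : ∀ i : Fin 1, i = 0 := fun i => Subsingleton.elim _ _
  refine regular_of_data hd 0 (ψ := fun _ => x₀) (U := U) (U' := U')
    (fun i j _ => Subsingleton.elim i j) hσ (fun i x => by rw [i0 i]; simp [U])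
    (fun i x => by rw [i0 i]; simp [U']) (fun _ => by simp [U, σ, ind1_self])
    (fun _ => by simp [U', hC'x, ind1_self]) ?_ ?_ ?_ h0 h0'
  all_goals
    simp only [U, U', sub_mul, mul_sub, Finset.sum_sub_distrib, mul_assoc,
      mul_left_comm (C 0 _) σ, mul_left_comm (C' 0 _) σ, ← Finset.mul_sum, sum_ind1_mul,
      sum_mul_ind1, ind1_self, hA0, hA1, hX0, hC'x, mul_one]
    push_cast
  · linear_combination (-1 : ℤ) * hσ2
  · linear_combination (-1 : ℤ) * hσ2
  · linear_combination (-1 : ℤ) * hσ2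

/-- The possible shapes. -/
theorem classify (C C' : Fin m → ι → ℤ) (d : ι → ℤ) (hd : ∀ x, 0 < d x) (hm : Odd m)
    (hA : ∀ i j, ∑ x, C i x * C j x = 2 + if i = j then 1 else 0)
    (hA' : ∀ i j, ∑ x, C' i x * C' j x = 2 + if i = j then 1 else 0)
    (hX : ∀ i j, ∑ x, C i x * C' j x = if i = j then 1 else 0)
    (hW : ∀ i j x, C i x - C j x = C' i x - C' j x)
    (h0 : ∀ i, ∑ x, C i x * d x = 0) (h0' : ∀ i, ∑ x, C' i x * d x = 0) :
    IsRegular C C' ∨ IsExotic C C' d ∨ IsExotic C' C d := by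
  rcases Nat.lt_or_ge m 2 with hm1 | hm2
  · exact Or.inl (classify_one hd (by have := hm.pos; omega) hA hA' hX h0 h0')
  have hm3 : 3 ≤ m := by have := Nat.odd_iff.1 hm; omega
  let T := {x : ι // ∃ i, C i x ≠ 0}
  have hres : ∀ w : ι → ℤ, (∀ x, (∀ i, C i x = 0) → w x = 0) →
      ∑ x : T, w x.1 = ∑ x, w x := fun w hw => by
    have h := Finset.sum_subtype (F := (inferInstance : Fintype T)) (p := fun x : ι => ∃ i, C i x ≠ 0)
      (Finset.univ.filter fun x => ∃ i, C i x ≠ 0) (fun x => by simp) w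
    rw [← h]
    exact Finset.sum_filter_of_ne fun x _ hx => by
      by_contra hcon
      push Not at hcon
      exact hx (hw x hcon)
  obtain ⟨ψ, σ, hψ, hσ, hdiff, -⟩ := CyclicBlock.exists_star (e := 2)
    (C := fun i (x : T) => C i x.1) (d := fun x : T => d x.1) (by omega : 0 < m)
    (fun i j => by rw [hres (fun x => C i x * C j x) (fun x hx => by simp [hx]), hA])
    (fun i => by rw [hres (fun x => C i x * d x) (fun x hx => by simp [hx]), h0])
    (fun x => hd x.1) (fun x => x.2) (by norm_num)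
  have hσ2 : σ * σ = 1 := by rcases hσ with h | h <;> rw [h] <;> rfl
  set o : Fin m := ⟨0, by omega⟩
  set φ : Fin m → ι := fun i => (ψ i).1
  have hφ : Function.Injective φ := fun i j h => hψ (Subtype.ext h)
  have hd' : ∀ i j x, C i x - C j x = σ * (ind1 (φ i) x - ind1 (φ j) x) := fun i j x => by
    by_cases hx : ∃ l, C l x ≠ 0
    · have h := hdiff i j ⟨x, hx⟩
      have e : ∀ l, ((⟨x, hx⟩ : T) = ψ l) ↔ x = φ l := fun l => Subtype.ext_iff
      simp only [e] at h
      exact h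
    · push Not at hx
      have hne : ∀ l, x ≠ φ l := fun l h => by
        obtain ⟨l', hl'⟩ := (ψ l).2
        exact hl' (by have := hx l'; rwa [h] at this)
      rw [hx i, hx j, ind1_ne (hne i), ind1_ne (hne j)]; ring
  set U : ι → ℤ := fun x => C o x - σ * ind1 (φ o) x
  set U' : ι → ℤ := fun x => C' o x - σ * ind1 (φ o) x
  have hC : ∀ i x, C i x = σ * ind1 (φ i) x + U x := fun i x => by
    simp only [U]; linear_combination hd' i o x
  have hC' : ∀ i x, C' i x = σ * ind1 (φ i) x + U' x := fun i x => by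
    simp only [U']; linear_combination hd' i o x - hW i o x
  have hprod : ∀ (V V' : ι → ℤ) i j, ∑ x, (σ * ind1 (φ i) x + V x) * (σ * ind1 (φ j) x + V' x) =
      (if i = j then 1 else 0) + σ * V' (φ i) + σ * V (φ j) + ∑ x, V x * V' x := by
    intro V V' i j
    simp only [add_mul, mul_add, Finset.sum_add_distrib, mul_assoc, mul_left_comm (ind1 _ _) σ,
      mul_left_comm (V _) σ, ← Finset.mul_sum, sum_ind1_mul, sum_mul_ind1]
    rw [← mul_assoc σ σ, hσ2, one_mul, ind1, if_congr (hφ.eq_iff) rfl rfl]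
    ring
  have hu : ∀ (V : ι → ℤ),
      (∀ i j, ∑ x, (σ * ind1 (φ i) x + V x) * (σ * ind1 (φ j) x + V x) =
        2 + if i = j then 1 else 0) →
      (∀ i, σ * V (φ i) = 0) ∧ ∑ x, V x * V x = 2 ∨
        m = 3 ∧ (∀ i, σ * V (φ i) = -1) ∧ ∑ x, V x * V x = 4 := by
    intro V hV
    have he : ∀ i j, σ * V (φ i) + σ * V (φ j) + ∑ x, V x * V x = 2 := fun i j => by
      have := hV i j
      rw [hprod] at this
      linarith
    have hconst : ∀ i, σ * V (φ i) = σ * V (φ o) := fun i => by linarith [he i o, he o o]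
    set u := σ * V (φ o)
    have hS : ∑ x, V x * V x = 2 - 2 * u := by linarith [he o o]
    have hge : (m : ℤ) * (u * u) ≤ ∑ x, V x * V x := by
      calc (m : ℤ) * (u * u) = ∑ i : Fin m, V (φ i) * V (φ i) := by
            rw [Finset.sum_congr rfl (g := fun _ => u * u) fun i _ => by
              rw [← hconst i]; linear_combination (-(V (φ i) * V (φ i))) * hσ2]
            simp
        _ = ∑ x ∈ Finset.univ.image φ, V x * V x :=
            (Finset.sum_image (f := fun x => V x * V x) hφ.injOn).symm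
        _ ≤ _ := Finset.sum_le_sum_of_subset_of_nonneg (Finset.subset_univ _)
            fun x _ _ => mul_self_nonneg _
    have hm3' : (3 : ℤ) ≤ m := by exact_mod_cast hm3
    have h1 : 3 * (u * u) ≤ 2 - 2 * u := by nlinarith [mul_self_nonneg u]
    have hu1 : u ≤ 0 := by nlinarith
    have hu2 : -1 ≤ u := by nlinarith
    rcases (show u = 0 ∨ u = -1 by omega) with h | h
    · exact Or.inl ⟨fun i => (hconst i).trans h, by rw [hS, h]; norm_num⟩
    · refine Or.inr ⟨?_, fun i => (hconst i).trans h, by rw [hS, h]; norm_num⟩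
      rw [h] at hge hS
      have : (m : ℤ) ≤ 4 := by linarith
      have := Nat.odd_iff.1 hm
      omega
  have hUU := hu U fun i j => by simpa only [← hC] using hA i j
  have hUU' := hu U' fun i j => by simpa only [← hC'] using hA' i j
  have hcross : σ * U' (φ o) + σ * U (φ o) + ∑ x, U x * U' x = 0 := by
    have := hX o o
    simp only [hC, hC', hprod, if_true] at this
    linarith
  have hz : ∀ {V : ι → ℤ}, (∀ i, σ * V (φ i) = 0) → ∀ i, V (φ i) = 0 := fun h i =>
    (mul_eq_zero.1 (h i)).resolve_left (by rcases hσ with hh | hh <;> omega)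
  rcases hUU with ⟨hu0, hS⟩ | ⟨hm', hu1, hS⟩ <;> rcases hUU' with ⟨hu0', hS'⟩ | ⟨hm'', hu1', hS'⟩
  · refine Or.inl (regular_of_data hd o hφ hσ hC hC' (hz hu0) (hz hu0') hS hS' ?_ h0 h0')
    rw [hu0 o, hu0' o] at hcross
    linarith
  · refine Or.inr (Or.inr (exotic_of_data hd hm'' hφ hσ hC' hC hu1' hu0 hS' hS ?_ h0' h0))
    rw [hu0 o, hu1' o] at hcross
    simp only [mul_comm (U' _)]
    linarith
  · refine Or.inr (Or.inl (exotic_of_data hd hm' hφ hσ hC hC' hu1 hu0' hS hS' ?_ h0 h0'))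
    rw [hu1 o, hu0' o] at hcross
    linarith
  · exfalso
    rw [hu1 o, hu1' o] at hcross
    subst hm'
    have hR : ∀ {V : ι → ℤ}, (∀ i, σ * V (φ i) = -1) → ∑ x, V x * V x = 4 →
        ∀ {D : Fin 3 → ι → ℤ}, (∀ i x, D i x = σ * ind1 (φ i) x + V x) →
        (∀ i, ∑ x, D i x * d x = 0) → ∃ a, (∀ i, φ i ≠ a) ∧ V a = σ ∧
          ∀ x, (∀ i, x ≠ φ i) → x ≠ a → V x = 0 := by
      intro V hV hV4 D hD hD0
      have hVi : ∀ i, V (φ i) = -σ := fun i => by
        linear_combination σ * hV i - (V (φ i)) * hσ2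
      set J := (Finset.univ.image φ)ᶜ
      have hsum : ∀ w : ι → ℤ, ∑ x, w x = ∑ i, w (φ i) + ∑ x ∈ J, w x := fun w => by
        rw [← Finset.sum_image hφ.injOn, Finset.sum_add_sum_compl]
      have hJ : ∑ x, (if x ∈ J then V x else 0) * (if x ∈ J then V x else 0) = (1 : ℕ) := by
        have h := hsum fun x => V x * V x
        simp only [hV4, hVi, neg_mul_neg, hσ2, Finset.sum_const, Finset.card_univ,
          Fintype.card_fin] at h
        simp only [ite_mul, mul_ite, zero_mul, mul_zero, ← ite_and, and_self]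
        rw [Finset.sum_ite_mem, Finset.univ_inter]
        push_cast
        simp at h
        linarith
      obtain ⟨S, hS1, hs1, hs0⟩ := small_support _ (by norm_num) hJ
      obtain ⟨a, rfl⟩ := Finset.card_eq_one.1 hS1
      have h1 := hs1 a (Finset.mem_singleton_self a)
      have haJ : a ∈ J := by by_contra h; simp [h] at h1
      rw [if_pos haJ] at h1
      have hne : ∀ i, φ i ≠ a := fun i h =>
        (Finset.mem_compl.1 haJ) (Finset.mem_image.2 ⟨i, Finset.mem_univ _, h⟩)
      have hoff : ∀ x, (∀ i, x ≠ φ i) → x ≠ a → V x = 0 := fun x hx hxa => by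
        have := hs0 x (by simp [hxa])
        rwa [if_pos (by simp [J, fun i => (hx i).symm])] at this
      refine ⟨a, hne, ?_, hoff⟩
      have hVx : ∀ x, V x = V a * ind1 a x - σ * ∑ i, ind1 (φ i) x := fun x => by
        by_cases hxi : ∃ i, x = φ i
        · obtain ⟨i, rfl⟩ := hxi
          rw [ind1_ne (hne i), hVi, Finset.sum_eq_single i
            (fun j _ hj => ind1_ne fun h => hj (hφ h).symm)
            (fun h => absurd (Finset.mem_univ i) h), ind1_self]
          ring
        · push Not at hxi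
          rw [Finset.sum_eq_zero fun i _ => ind1_ne (hxi i)]
          by_cases hxa : x = a
          · subst hxa; rw [ind1_self]; ring
          · rw [ind1_ne hxa, hoff x hxi hxa]; ring
      have hdeg : ∀ i, σ * d (φ i) + (V a * d a - σ * ∑ j, d (φ j)) = 0 := fun i => by
        rw [← hD0 i]
        have e : ∀ x, D i x * d x = σ * (ind1 (φ i) x * d x) + (V a * (ind1 a x * d x) -
            σ * ((∑ j, ind1 (φ j) x) * d x)) := fun x => by rw [hD, hVx]; ring
        simp only [e, Finset.sum_add_distrib, Finset.sum_sub_distrib, ← Finset.mul_sum,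
          sum_ind1_mul, sum_sum_ind1_mul]
      have hpos := fun i => hd (φ i)
      have := hd a
      have h2 := hdeg 0
      rw [Fin.sum_univ_three] at h2
      rcases h1 with h | h <;> rcases hσ with hh | hh <;> rw [h, hh] at h2 ⊢ <;>
        nlinarith [hpos 0, hpos 1, hpos 2]
    obtain ⟨a, hne, ha, hoff⟩ := hR hu1 hS hC h0
    obtain ⟨a', hne', ha', hoff'⟩ := hR hu1' hS' hC' h0'
    have hsum : ∑ x, U x * U' x = ∑ x ∈ Finset.univ.image φ, U x * U' x + U a * U' a := by
      have hna : a ∉ Finset.univ.image φ := by simp [hne]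
      rw [add_comm, ← Finset.sum_insert (f := fun x => U x * U' x) hna]
      refine (Finset.sum_subset (Finset.subset_univ _) fun x _ hx => ?_).symm
      simp only [Finset.mem_insert, Finset.mem_image, Finset.mem_univ, true_and, not_or,
        not_exists] at hx
      rw [hoff x (fun i h => hx.2 i h.symm) hx.1, zero_mul]
    have h3 : ∑ x ∈ Finset.univ.image φ, U x * U' x = 3 := by
      rw [Finset.sum_image hφ.injOn, Finset.sum_congr rfl (g := fun _ => (1 : ℤ)) fun i _ => by
        linear_combination (σ * U' (φ i)) * hu1 i - hu1' i - (U (φ i) * U' (φ i)) * hσ2]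
      simp
    have ha2 : 0 ≤ U a * U' a := by
      by_cases h : a = a'
      · subst h; rw [ha, ha']; exact mul_self_nonneg σ
      · rw [hoff' a (fun i => (hne i).symm) h, mul_zero]
    linarith [hsum, h3, ha2, hcross]

end CfsgLib.DihedralBlk
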