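import Cfsg.Agent.Lib.DihedralBlk.Rotations
import Cfsg.Agent.Lib.NilBlk.Main
import Cfsg.Agent.Lib.Characters.NormalRes

/-!
# Class functions of the defect group of the local block, pushed to the whole group
-/

set_option autoImplicit false
set_option linter.unusedSectionVars false

namespace CfsgLib.DihedralBlk

open Cfsg CfsgLib.NilBlk CfsgLib.Blocks CfsgLib.Characters CfsgLib.BrauerPairs DihedralGroup
open scoped Classical ComplexConjugate

universe u

theorem classInner_comp {P Q : Type*} [Group P] [Group Q] [Fintype P] [Fintype Q] (φ : P ≃* Q)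
    (f g : Q → ℂ) : classInner (fun p => f (φ p)) (fun p => g (φ p)) = classInner f g := by
  rw [classInner, classInner, Nat.card_congr φ.toEquiv]
  exact congrArg _ (φ.toEquiv.sum_comp fun q => f q * conj (g q))

variable {G : Type u} [Group G] [Fintype G]

/-- The data below a maximal pair of a block with dihedral defect group: the block of the
centraliser of the central involution, with a character of height zero. -/
structure Loc {M : Ideal AlgInt} [M.IsMaximal] (hM : IsPModular 2 M)
    (B : Set (IrrCharacter G)) (k : ℕ) where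
  K : Subgroup G
  b : Set (IrrCharacter K)
  P : Subgroup K
  e' : Set (IrrCharacter (Subgroup.centralizer (P : Set K)))
  xi : IrrCharacter K
  φ : P ≃* DihedralGroup (2 ^ (k + 2))
  nil : NilCtx hM b P e'
  mem : xi ∈ b
  h0 : blockHeight 2 b (xi : K → ℂ) = 0
  hK : K = Subgroup.centralizer
    ({(((φ.symm (r ((2 ^ (k + 1) : ℕ) : ZMod (2 ^ (k + 2)))) : P) : K) : G)} : Set G)
  ind : IsInducedBlock M K b B
  defB : blockDefect 2 B = k + 3
  defb : blockDefect 2 b = k + 3
  rank : blockRank 2 b = 1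
  defP : IsDefectGroup 2 M b P

variable [Fact (Nat.Prime 2)] {M : Ideal AlgInt} [M.IsMaximal] {hM : IsPModular 2 M}
  {B : Set (IrrCharacter G)} {k : ℕ}

namespace Loc

variable (L : Loc hM B k)

/-- The central rotation of the model. -/
def mid (k : ℕ) : DihedralGroup (2 ^ (k + 2)) := r ((2 ^ (k + 1) : ℕ) : ZMod (2 ^ (k + 2)))

/-- The elements of `L.K` given by the model. -/
def pr (p : DihedralGroup (2 ^ (k + 2))) : L.K := (L.φ.symm p : L.P)

theorem pr_phi (p : L.P) : L.pr (L.φ p) = (p : L.K) := by simp [pr]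

theorem orderOf_pr (p : DihedralGroup (2 ^ (k + 2))) : orderOf (L.pr p) = orderOf p := by
  rw [pr, Subgroup.orderOf_coe, MulEquiv.orderOf_eq]

theorem half_model : (2 ^ (k + 2)) / 2 = 2 ^ (k + 1) := by
  rw [pow_succ, Nat.mul_div_cancel _ two_pos]

/-- The image of the defect group in `G`, with its model. -/
noncomputable def iso : L.P.map L.K.subtype ≃* DihedralGroup (2 ^ (k + 2)) :=
  (L.P.equivMapOfInjective L.K.subtype L.K.subtype_injective).symm.trans L.φ

theorem el_iso (p : DihedralGroup (2 ^ (k + 2))) : el L.iso p = (L.pr p : G) := by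
  simp [el, iso, pr]

theorem invo_iso : invo L.iso = (L.pr (mid k) : G) := by
  rw [invo, half_model, el_iso, mid]

theorem orderOf_mid : orderOf (L.pr (mid k)) = 2 := by
  rw [← Subgroup.orderOf_coe, ← invo_iso]
  exact orderOf_invo L.iso rfl

theorem mem_K_iff (t : G) : t ∈ L.K ↔ t * (L.pr (mid k) : G) = (L.pr (mid k) : G) * t :=
  (SetLike.ext_iff.1 L.hK t).trans Subgroup.mem_centralizer_singleton_iff

theorem mid_central : L.pr (mid k) ∈ Subgroup.center L.K :=
  Subgroup.mem_center_iff.2 fun c => Subtype.ext ((L.mem_K_iff c).1 c.2)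

/-- An element carrying a nontrivial rotation to another lies in the centraliser. -/
theorem mem_K_of_conj {i j : ZMod (2 ^ (k + 2))} (hi : i ≠ 0) {t : G}
    (h : t * (L.pr (r i) : G) * t⁻¹ = (L.pr (r j) : G)) : t ∈ L.K := by
  rw [← el_iso, ← el_iso] at h
  rw [mem_K_iff, ← invo_iso]
  exact comm_of_conj L.iso rfl hi h

/-- The product of the chosen character by a function on the model. -/
noncomputable def st (f : DihedralGroup (2 ^ (k + 2)) → ℂ) : L.K → ℂ :=
  starC hM L.b L.P L.e' (fun p => f (L.φ p)) (L.xi : L.K → ℂ)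

/-- The multiplicities in the restriction of a character of `G`. -/
noncomputable def T (f : DihedralGroup (2 ^ (k + 2)) → ℂ) (χ : IrrCharacter G) : ℂ :=
  classInner (L.st f) (fun c : L.K => (χ : G → ℂ) c)

/-- Supported on the nontrivial rotations. -/
structure IsRot (f : DihedralGroup (2 ^ (k + 2)) → ℂ) : Prop where
  cf : IsClassFunction (DihedralGroup (2 ^ (k + 2))) f
  supp : ∀ p, f p ≠ 0 → ∃ j ≠ 0, p = r j

theorem isClassFunction_comp {f : DihedralGroup (2 ^ (k + 2)) → ℂ}
    (hf : IsClassFunction _ f) : IsClassFunction L.P (fun p => f (L.φ p)) := fun a c => by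
  simp only [map_mul, map_inv]
  exact hf _ _

theorem st_linear {ι : Type*} (S : Finset ι) (c : ι → ℂ)
    (F : ι → DihedralGroup (2 ^ (k + 2)) → ℂ) (hF : ∀ i, IsClassFunction _ (F i)) (x : L.K) :
    L.st (fun p => ∑ i ∈ S, c i * F i p) x = ∑ i ∈ S, c i * L.st (F i) x :=
  starC_linear L.nil S c (fun i p => F i (L.φ p)) (fun i => L.isClassFunction_comp (hF i)) L.mem x

theorem T_linear {ι : Type*} (S : Finset ι) (c : ι → ℂ)
    (F : ι → DihedralGroup (2 ^ (k + 2)) → ℂ) (hF : ∀ i, IsClassFunction _ (F i))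
    (χ : IrrCharacter G) :
    L.T (fun p => ∑ i ∈ S, c i * F i p) χ = ∑ i ∈ S, c i * L.T (F i) χ := by
  simp only [T, classInner, funext fun x => L.st_linear S c F hF x, Finset.sum_mul, Finset.mul_sum]
  rw [Finset.sum_comm]
  exact Finset.sum_congr rfl fun i _ => Finset.sum_congr rfl fun x _ => by ring

theorem T_sub {f g : DihedralGroup (2 ^ (k + 2)) → ℂ} (hf : IsClassFunction _ f)
    (hg : IsClassFunction _ g) (χ : IrrCharacter G) :
    L.T (fun p => f p - g p) χ = L.T f χ - L.T g χ := by
  have h := L.T_linear (Finset.univ : Finset Bool) (fun i => if i then 1 else -1)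
    (fun i => if i then f else g) (fun i => by cases i <;> assumption) χ
  simpa [← sub_eq_add_neg] using h

theorem st_one {f : DihedralGroup (2 ^ (k + 2)) → ℂ} (hf : IsClassFunction _ f) :
    L.st f 1 = f 1 * (L.xi : L.K → ℂ) 1 := by
  rw [st, starC_one L.nil (L.isClassFunction_comp hf) L.mem, map_one]

theorem st_regular {f : DihedralGroup (2 ^ (k + 2)) → ℂ} (hf : IsClassFunction _ f) {x : L.K}
    (hx : ¬ 2 ∣ orderOf x) : L.st f x = f 1 * (L.xi : L.K → ℂ) x := by
  rw [st, starC_regular L.nil (L.isClassFunction_comp hf) L.mem hx, map_one]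

/-- The value on the section of the central involution. -/
theorem st_mid {f : DihedralGroup (2 ^ (k + 2)) → ℂ} (hf : IsClassFunction _ f) {s : L.K}
    (hs : ¬ 2 ∣ orderOf s) :
    L.st f (L.pr (mid k) * s) = f (mid k) * (L.xi : L.K → ℂ) (L.pr (mid k) * s) := by
  have hu : ∃ i : ℕ, orderOf (L.pr (mid k)) = 2 ^ i := ⟨1, by rw [L.orderOf_mid, pow_one]⟩
  have hsmem : s ∈ cz (Subgroup.zpowers (L.pr (mid k))) := mem_cz.2 fun v hv => by
    obtain ⟨i, rfl⟩ := Subgroup.mem_zpowers_iff.1 hv
    exact (Subgroup.mem_center_iff.1 (Subgroup.zpow_mem _ L.mid_central i) s).symm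
  refine starC_of_weight L.nil.star.isPBlockB L.mem hu (s := ⟨s, hsmem⟩)
    (by rwa [← Subgroup.orderOf_coe]) (f (mid k)) fun c hc hcov => ?_
  obtain ⟨t, ht⟩ := L.nil.star.exists_conj (BPStar.isPGroup_zpowers hu) hc hcov
  rw [wC_eq L.nil (L.isClassFunction_comp hf) ht]
  congr 1
  apply L.φ.symm.injective
  rw [MulEquiv.symm_apply_apply]
  apply Subtype.ext
  show t * L.pr (mid k) * t⁻¹ = L.pr (mid k)
  rw [Subgroup.mem_center_iff.1 L.mid_central t, mul_inv_cancel_right]

/-- Off the support of the function the product vanishes. -/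
theorem exists_of_st_ne_zero {f : DihedralGroup (2 ^ (k + 2)) → ℂ} (hf : IsClassFunction _ f)
    {x : L.K} (hx : L.st f x ≠ 0) :
    ∃ (u t : L.K) (p : DihedralGroup (2 ^ (k + 2))),
      IsPPart 2 x u ∧ t * u * t⁻¹ = L.pr p ∧ f p ≠ 0 := by
  obtain ⟨u, s, hu, hs, rfl⟩ := BPStar.exists_sec_decomp hM.1 x
  have hpp : IsPPart 2 (u * (s : L.K)) u :=
    isPPart_mul (BPStar.commute_of_mem_cz s.2) hu (by rwa [Subgroup.orderOf_coe])
  by_contra hcon
  refine hx ?_
  rw [st, starC_of_weight L.nil.star.isPBlockB L.mem hu hs 0 fun c hc hcov => ?_, zero_mul]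
  obtain ⟨t, ht⟩ := L.nil.star.exists_conj (BPStar.isPGroup_zpowers hu) hc hcov
  rw [wC_eq L.nil (L.isClassFunction_comp hf) ht]
  by_contra hne
  exact hcon ⟨u, t, _, hpp, (L.pr_phi ⟨t * u * t⁻¹, BPStar.mem_of_pairLE ht⟩).symm, hne⟩

/-- The products are isometric. -/
theorem classInner_st {f g : DihedralGroup (2 ^ (k + 2)) → ℂ} (hf : IsClassFunction _ f)
    (hg : IsClassFunction _ g) : classInner (L.st f) (L.st g) = classInner f g := by
  rw [st, st, classInner_starC L.nil (L.isClassFunction_comp hf) (L.isClassFunction_comp hg) L.mem,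
    ← classInner_comp L.φ f g, classInner]
  exact congrArg _ (Finset.sum_congr rfl fun x _ => by
    rw [aVal_eq_one L.nil L.mem L.h0, mul_one])

theorem isClassFunction_st {f : DihedralGroup (2 ^ (k + 2)) → ℂ} (hf : IsClassFunction _ f) :
    IsClassFunction L.K (L.st f) :=
  isClassFunction_starC L.nil (L.isClassFunction_comp hf)

/-- The irreducible character of the block attached to one of the defect group. -/
theorem exists_st_irr (lam : IrrCharacter L.P) :
    ∃ η : IrrCharacter L.K, η ∈ L.b ∧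
      (η : L.K → ℂ) = L.st (fun p => (lam : L.P → ℂ) (L.φ.symm p)) := by
  obtain ⟨η, hη, he⟩ := exists_starIrr L.nil L.mem L.h0 lam
  exact ⟨η, hη, by rw [he, st]; simp only [MulEquiv.symm_apply_apply]⟩

/-- On characters the multiplicities are integers. -/
theorem exists_T_nat {f : DihedralGroup (2 ^ (k + 2)) → ℂ}
    (hf : IsCharacter (DihedralGroup (2 ^ (k + 2))) f) (χ : IrrCharacter G) :
    ∃ n : ℕ, L.T f χ = n := by
  have hfP : IsCharacter L.P (fun p => f (L.φ p)) :=
    CharGalois.isCharacter_comp hf L.φ.toMonoidHom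
  choose n hn using fun lam : IrrCharacter L.P =>
    classInner_char_nat hfP (irr_isCharacter lam)
  choose η hη1 hη using fun lam : IrrCharacter L.P => L.exists_st_irr lam
  choose m hm using fun lam : IrrCharacter L.P => classInner_char_nat (irr_isCharacter (η lam))
    (NormalRes.isCharacter_res L.K (irr_isCharacter χ))
  refine ⟨∑ lam, n lam * m lam, ?_⟩
  have hexp : f = fun p => ∑ lam : IrrCharacter L.P,
      (n lam : ℂ) * (lam : L.P → ℂ) (L.φ.symm p) := by
    funext p
    have h := congrFun (classFunction_eq_sum (isClassFunction_of_isCharacter hfP)) (L.φ.symm p)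
    simpa [hn] using h
  rw [hexp, L.T_linear Finset.univ (fun lam => (n lam : ℂ))
    (fun lam p => (lam : L.P → ℂ) (L.φ.symm p)) (fun lam a c => by
      simp only [map_mul, map_inv]; exact irr_isClassFunction lam _ _)]
  push_cast
  refine Finset.sum_congr rfl fun lam _ => ?_
  rw [T, ← hη, hm]

/-- Induction does not change the values on the support. -/
theorem ind_eq {g : DihedralGroup (2 ^ (k + 2)) → ℂ} (hg : IsRot g) {x u t : L.K}
    (hu : IsPPart 2 x u) {j : ZMod (2 ^ (k + 2))} (hj : j ≠ 0) (ht : t * u * t⁻¹ = L.pr (r j)) :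
    indFun L.K (L.st g) (x : G) = L.st g x := by
  have hK0 : (Nat.card L.K : ℂ) ≠ 0 := Nat.cast_ne_zero.2 Nat.card_pos.ne'
  have key : ∀ w : G, w ∉ L.K → extendByZero L.K (L.st g) (w⁻¹ * x * w) = 0 := by
    intro w hw
    by_cases hmem : w⁻¹ * (x : G) * w ∈ L.K
    · rw [Induction.extendByZero_mem _ _ hmem]
      by_contra hne
      obtain ⟨u', t', p, hu', ht', hp⟩ := L.exists_of_st_ne_zero hg.cf hne
      obtain ⟨i, hi, rfl⟩ := hg.supp p hp
      have hux : IsPPart 2 (x : G) (u : G) := by
        obtain ⟨y, hy, hc, hk, hy2⟩ := hu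
        refine ⟨y, ?_, hc.map L.K.subtype, ?_, ?_⟩
        · rw [← hy]; rfl
        · simpa [Subgroup.orderOf_coe] using hk
        · simpa [Subgroup.orderOf_coe] using hy2
      have hu'w : IsPPart 2 (w⁻¹ * x * w) (u' : G) := by
        obtain ⟨y, hy, hc, hk, hy2⟩ := hu'
        refine ⟨y, ?_, hc.map L.K.subtype, ?_, ?_⟩
        · exact congrArg Subtype.val hy
        · simpa [Subgroup.orderOf_coe] using hk
        · simpa [Subgroup.orderOf_coe] using hy2
      have h1 := IsPPart.conj hux w⁻¹
      rw [inv_inv] at h1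
      have h2 : (u' : G) = w⁻¹ * u * w := IsPPart.unique hM.1 hu'w h1
      have h3 : ((t' : G) * w⁻¹ * (t : G)⁻¹) * (L.pr (r j) : G) *
          ((t' : G) * w⁻¹ * (t : G)⁻¹)⁻¹ = (L.pr (r i) : G) := by
        rw [← ht, ← ht']
        simp only [Subgroup.coe_mul, Subgroup.coe_inv, h2]
        group
      have h4 := L.mem_K_of_conj hj h3
      refine hw ?_
      have h5 := L.K.mul_mem (L.K.mul_mem (L.K.inv_mem t'.2) h4) t.2
      simpa [mul_assoc] using h5
    · exact Induction.extendByZero_notMem _ _ hmem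
  rw [Induction.indFun_apply, ← Finset.sum_subset (Finset.subset_univ
    ((Finset.univ : Finset L.K).map (Function.Embedding.subtype (· ∈ L.K))))
    (fun w _ hw => key w fun hwK => hw (Finset.mem_map.2 ⟨⟨w, hwK⟩, Finset.mem_univ _, rfl⟩)),
    Finset.sum_map]
  simp only [Function.Embedding.subtype_apply]
  rw [Finset.sum_congr rfl fun (c : L.K) _ =>
    show extendByZero L.K (L.st g) ((c : G)⁻¹ * x * c) = L.st g x by
      rw [show ((c : G)⁻¹ * x * c) = ((c⁻¹ * x * c : L.K) : G) from rfl,
        Induction.extendByZero_coe]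
      have := L.isClassFunction_st hg.cf x c⁻¹
      rwa [inv_inv] at this]
  rw [Finset.sum_const, Finset.card_univ, nsmul_eq_mul, ← Nat.card_eq_fintype_card, ← mul_assoc,
    inv_mul_cancel₀ hK0, one_mul]

theorem isClassFunction_res (χ : IrrCharacter G) :
    IsClassFunction L.K (fun c : L.K => (χ : G → ℂ) c) :=
  NormalRes.isClassFunction_res L.K (irr_isClassFunction χ)

/-- The induced function. -/
theorem T_eq (f : DihedralGroup (2 ^ (k + 2)) → ℂ) (χ : IrrCharacter G) :
    L.T f χ = classInner (indFun L.K (L.st f)) (χ : G → ℂ) :=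
  (Induction.classInner_indFun L.K (L.st f) (irr_isClassFunction χ)).symm

theorem sum_T_apply (f : DihedralGroup (2 ^ (k + 2)) → ℂ) (g : G) :
    ∑ χ : IrrCharacter G, L.T f χ * (χ : G → ℂ) g = indFun L.K (L.st f) g := by
  conv_rhs => rw [classFunction_eq_sum (Induction.isClassFunction_indFun L.K (L.st f))]
  simp [T_eq]

theorem sum_T_mul {f g : DihedralGroup (2 ^ (k + 2)) → ℂ} (hf : IsRot f) (hg : IsRot g) :
    ∑ χ : IrrCharacter G, L.T f χ * conj (L.T g χ) = classInner f g := by
  rw [← L.classInner_st hf.cf hg.cf]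
  have h1 : classInner (indFun L.K (L.st f)) (indFun L.K (L.st g)) =
      ∑ χ : IrrCharacter G, L.T f χ * conj (L.T g χ) := by
    conv_lhs => arg 1; rw [classFunction_eq_sum (Induction.isClassFunction_indFun L.K (L.st f))]
    rw [classInner_sum_left]
    refine Finset.sum_congr rfl fun χ _ => ?_
    rw [classInner_smul_left, ← T_eq, classInner_conj_symm _ (χ : G → ℂ), ← T_eq]
  rw [← h1, Induction.classInner_indFun _ _ (Induction.isClassFunction_indFun _ _), classInner,
    classInner]
  refine congrArg _ (Finset.sum_congr rfl fun x _ => ?_)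
  by_cases hx : L.st f x = 0
  · rw [hx, zero_mul, zero_mul]
  obtain ⟨u, t, p, hu, ht, hp⟩ := L.exists_of_st_ne_zero hf.cf hx
  obtain ⟨j, hj, rfl⟩ := hf.supp p hp
  rw [L.ind_eq hg hu hj ht]

theorem sum_T_regular {f : DihedralGroup (2 ^ (k + 2)) → ℂ} (hf : IsRot f) {g : G}
    (hg : ¬ 2 ∣ orderOf g) : ∑ χ : IrrCharacter G, L.T f χ * (χ : G → ℂ) g = 0 := by
  rw [sum_T_apply, Induction.indFun_apply, Finset.sum_eq_zero, mul_zero]
  intro w _
  by_cases hmem : w⁻¹ * g * w ∈ L.K
  · rw [Induction.extendByZero_mem _ _ hmem, L.st_regular hf.cf]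
    · have : f 1 = 0 := by
        by_contra h
        obtain ⟨j, hj, hp⟩ := hf.supp 1 h
        rw [DihedralGroup.one_def, DihedralGroup.r.injEq] at hp
        exact hj hp.symm
      rw [this, zero_mul]
    · rw [Subgroup.orderOf_mk]
      rwa [← BPStar.orderOf_conj' w⁻¹, inv_inv] at hg
  · exact Induction.extendByZero_notMem _ _ hmem

theorem sum_T_mid {f : DihedralGroup (2 ^ (k + 2)) → ℂ} (hf : IsRot f) :
    ∑ χ : IrrCharacter G, L.T f χ * (χ : G → ℂ) (L.pr (mid k) : G) =
      f (mid k) * (L.xi : L.K → ℂ) (L.pr (mid k)) := by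
  have hz : IsPPart 2 (L.pr (mid k)) (L.pr (mid k)) :=
    ⟨1, mul_one _, Commute.one_right _, ⟨1, by rw [L.orderOf_mid, pow_one]⟩, by
      rw [orderOf_one]; decide⟩
  have hne : ((2 ^ (k + 1) : ℕ) : ZMod (2 ^ (k + 2))) ≠ 0 := by
    rw [← half_model (k := k)]; exact half_ne_zero (N := 2 ^ (k + 2)) rfl
  have h := L.ind_eq (t := 1) hf hz hne (by rw [one_mul, inv_one, mul_one]; rfl)
  rw [sum_T_apply, h]
  have h2 := L.st_mid hf.cf (s := 1) (by rw [orderOf_one]; decide)
  rwa [mul_one] at h2

end Loc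

end CfsgLib.DihedralBlk
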