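import Cfsg.Agent.Lib.DihedralBlk.Setup
import Cfsg.Agent.Lib.DihedralBlk.Counts
import Cfsg.Agent.Lib.DihedralBlk.Exotic

/-!
# Blocks with dihedral defect group
-/

set_option autoImplicit false
set_option linter.unusedSectionVars false

namespace CfsgLib.DihedralBlk

open Cfsg DihedralGroup

universe u

variable {G : Type u} [Group G] [Fintype G] [Fact (Nat.Prime 2)] {M : Ideal AlgInt} [M.IsMaximal]
  {hM : IsPModular 2 M} {B : Set (IrrCharacter G)} {k : ℕ}

namespace Loc

theorem regular (L : Loc hM B k) : IsRegular L.Ci L.Ci' := by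
  rcases L.shape with h | h | h
  · exact h
  all_goals
    exfalso
    obtain ⟨h3, -⟩ := id h
    have hk : k = 1 := by
      have h2 : 2 ^ (k + 1) = 2 * 2 ^ k := pow_succ' 2 k
      have hp := Nat.two_pow_pos k
      rw [mm] at h3
      have h4 : 2 ^ k = 2 ^ 1 := by omega
      exact Nat.pow_right_injective le_rfl h4
    subst hk
    have e0 : ix (k := 1) ((0 : Fin 3) : Fin 3) = (1 : ZMod (2 ^ (1 + 2))) := by decide
    have e2 : ix (k := 1) ((2 : Fin 3) : Fin 3) = (3 : ZMod (2 ^ (1 + 2))) := by decide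
    have e4 : half 1 = (4 : ZMod (2 ^ (1 + 2))) := by decide
  · exact L.exotic_false (C := L.Ci) (C' := L.Ci') (dA := dC (k := 1)) (dA' := dC' (k := 1)) (s := 1) (fun i => isRot_sub _ _)
      (fun i => isRot_sub _ _) (fun i χ => (L.Ci_spec i χ).1) (fun i χ => (L.Ci_spec i χ).2)
      L.V_int (Or.inl rfl) (fun q => by unfold dC dC'; rw [e4]; ring)
      (fun q => by unfold dC; rw [← e0, ← e2]; ring) h
  · exact L.exotic_false (C := L.Ci') (C' := L.Ci) (dA := dC' (k := 1)) (dA' := dC (k := 1)) (s := -1) (fun i => isRot_sub _ _)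
      (fun i => isRot_sub _ _) (fun i χ => (L.Ci_spec i χ).2) (fun i χ => (L.Ci_spec i χ).1)
      (fun χ => (L.V_int χ).trans (by simp [add_comm (L.Ci _ χ)]; rfl)) (Or.inr rfl)
      (fun q => by unfold dC dC'; rw [e4]; ring)
      (fun q => by unfold dC'; rw [← e0, ← e2]; ring) h

end Loc

/-- The invariants of a block with dihedral defect group of order `2 ^ n`. -/
theorem main (hM : IsPModular 2 M) (hB : IsPBlock M B) {D : Subgroup G}
    (hD : IsDefectGroup 2 M B D) (e : D ≃* DihedralGroup (2 ^ (k + 2))) :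
    Nat.card B = 2 ^ (k + 1) + 3 ∧ 1 ≤ blockRank 2 B ∧ blockRank 2 B ≤ 3 ∧
      Nat.card {χ : IrrCharacter G // χ ∈ B ∧ blockHeight 2 B (χ : G → ℂ) = 0} = 4 ∧
      ∀ χ ∈ B, blockHeight 2 B (χ : G → ℂ) ≤ 1 := by
  obtain ⟨L⟩ := exists_loc hM hB hD e
  exact L.invariants L.regular

end CfsgLib.DihedralBlk
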