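import Cfsg.Agent.Lib.Characters.Induction
import Mathlib.GroupTheory.SpecificGroups.Dihedral
import Mathlib.Analysis.SpecialFunctions.Complex.CircleAddChar
import Mathlib.NumberTheory.LegendreSymbol.AddCharacter

/-!
# The two-dimensional characters of a dihedral group
-/

set_option autoImplicit false

namespace CfsgLib.DihedralBlk

open Cfsg DihedralGroup
open scoped ComplexConjugate

variable {N : ℕ} [NeZero N]

/-- The sum of a linear character of the rotations and its inverse. -/
noncomputable def psi (a : ZMod N) : DihedralGroup N → ℂ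
  | .r j => ZMod.stdAddChar (a * j) + ZMod.stdAddChar (-(a * j))
  | .sr _ => 0

theorem psi_r (a j : ZMod N) :
    psi a (r j) = ZMod.stdAddChar (a * j) + ZMod.stdAddChar (-(a * j)) := rfl

theorem psi_sr (a j : ZMod N) : psi a (sr j) = 0 := rfl

theorem psi_one (a : ZMod N) : psi a 1 = 2 := by
  rw [one_def, psi_r, mul_zero, neg_zero, AddChar.map_zero_eq_one]
  norm_num

theorem psi_neg (a : ZMod N) : psi (-a) = psi a := by
  funext p
  cases p with
  | r j => rw [psi_r, psi_r, neg_mul, neg_neg, add_comm]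
  | sr j => rfl

theorem conj_stdAddChar (x : ZMod N) :
    conj (ZMod.stdAddChar x : ℂ) = ZMod.stdAddChar (-x) := by
  rw [ZMod.stdAddChar_apply, ZMod.stdAddChar_apply, AddChar.map_neg_eq_inv, Circle.coe_inv_eq_conj]

theorem isCharacter_psi (a : ZMod N) : IsCharacter (DihedralGroup N) (psi a) := by
  let R : DihedralGroup N → Matrix (Fin 2) (Fin 2) ℂ := fun
    | .r j => !![ZMod.stdAddChar (a * j), 0; 0, ZMod.stdAddChar (-(a * j))]
    | .sr j => !![0, ZMod.stdAddChar (-(a * j)); ZMod.stdAddChar (a * j), 0]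
  let φ : DihedralGroup N →* Matrix (Fin 2) (Fin 2) ℂ :=
    { toFun := R
      map_one' := by
        show !![(ZMod.stdAddChar (a * 0) : ℂ), 0; 0, ZMod.stdAddChar (-(a * 0))] = 1
        simp [Matrix.one_fin_two]
      map_mul' := by
        rintro (i | i) (j | j) <;>
          simp [R, Matrix.mul_fin_two, ← AddChar.map_add_eq_mul] <;> ring_nf <;> trivial }
  have h := Induction.isCharacter_of_matrix φ
  convert h using 1
  funext p
  cases p <;> simp [φ, R, psi, Matrix.trace_fin_two]

theorem isClassFunction_psi (a : ZMod N) : IsClassFunction (DihedralGroup N) (psi a) :=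
  Induction.isClassFunction_of_isCharacter (isCharacter_psi a)

theorem sum_dihedral {M : Type*} [AddCommMonoid M] (f : DihedralGroup N → M) :
    ∑ p, f p = (∑ j : ZMod N, f (r j)) + ∑ j : ZMod N, f (sr j) := by
  rw [← (DihedralGroup.equivSum (n := N)).symm.sum_comp f, Fintype.sum_sum_type]
  rfl

theorem sum_stdAddChar (b : ZMod N) :
    ∑ j : ZMod N, (ZMod.stdAddChar (b * j) : ℂ) = if b = 0 then (N : ℂ) else 0 := by
  simp only [mul_comm b]
  rw [AddChar.sum_mulShift b (ZMod.isPrimitive_stdAddChar N)]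
  simp [ZMod.card]

theorem classInner_psi (a b : ZMod N) :
    classInner (psi a) (psi b) =
      (if a = b then 1 else 0) + (if a = -b then 1 else 0) := by
  have hN : (N : ℂ) ≠ 0 := Nat.cast_ne_zero.2 (NeZero.ne N)
  rw [classInner, sum_dihedral, DihedralGroup.nat_card]
  simp only [psi_r, psi_sr, map_add, conj_stdAddChar, neg_neg, map_zero, mul_zero,
    Finset.sum_const_zero, add_zero, add_mul, mul_add, ← AddChar.map_add_eq_mul,
    Finset.sum_add_distrib]
  rw [Finset.sum_congr rfl (fun j _ => show ZMod.stdAddChar (a * j + -(b * j)) =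
      (ZMod.stdAddChar ((a - b) * j) : ℂ) by ring_nf),
    Finset.sum_congr rfl (fun j _ => show ZMod.stdAddChar (-(a * j) + -(b * j)) =
      (ZMod.stdAddChar ((-a - b) * j) : ℂ) by ring_nf),
    Finset.sum_congr rfl (fun j _ => show ZMod.stdAddChar (a * j + b * j) =
      (ZMod.stdAddChar ((a + b) * j) : ℂ) by ring_nf),
    Finset.sum_congr rfl (fun j _ => show ZMod.stdAddChar (-(a * j) + b * j) =
      (ZMod.stdAddChar ((b - a) * j) : ℂ) by ring_nf)]
  simp only [sum_stdAddChar]
  have e1 : a - b = 0 ↔ a = b := sub_eq_zero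
  have e2 : b - a = 0 ↔ a = b := sub_eq_zero.trans eq_comm
  have e3 : a + b = 0 ↔ a = -b := add_eq_zero_iff_eq_neg
  have e4 : -a - b = 0 ↔ a = -b := by
    rw [sub_eq_zero, neg_eq_iff_eq_neg]
  simp only [e1, e2, e3, e4]
  push_cast
  split_ifs <;> field_simp <;> ring

theorem classInner_psi_one (a : ZMod N) :
    classInner (psi a) (fun _ => 1) = if a = 0 then 1 else 0 := by
  have hN : (N : ℂ) ≠ 0 := Nat.cast_ne_zero.2 (NeZero.ne N)
  rw [classInner, sum_dihedral, DihedralGroup.nat_card]
  simp only [psi_r, psi_sr, map_one, mul_one, Finset.sum_const_zero, add_zero,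
    Finset.sum_add_distrib, ← neg_mul, sum_stdAddChar, neg_eq_zero]
  push_cast
  split_ifs <;> field_simp <;> ring

/-- The delta function at the central rotation in terms of the characters. -/
theorem sum_psi_eq {M0 m : ℕ} (hN : N = 2 * M0) (hm : M0 = m + 1) (hodd : Odd m)
    (p : DihedralGroup N) :
    ∑ k : Fin m, (-1 : ℂ) ^ ((k : ℕ) + 1) *
        ((psi (((k : ℕ) + 1 : ℕ) : ZMod N) p - psi 0 p) +
          (psi (((k : ℕ) + 1 : ℕ) : ZMod N) p - psi (M0 : ZMod N) p)) =
      if p = r (M0 : ZMod N) then 2 * (N : ℂ) else 0 := by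
  cases p with
  | sr j => simp [psi_sr]
  | r j =>
    set g : ZMod N → ℂ := fun a => ZMod.stdAddChar (a * (j + (M0 : ZMod N))) with hg
    have hzN : (M0 : ZMod N) + (M0 : ZMod N) = 0 := by
      rw [← Nat.cast_add, ← two_mul, ← hN, ZMod.natCast_self]
    have hM0neg : -(M0 : ZMod N) = M0 := neg_eq_of_add_eq_zero_left hzN
    have hhalf : (ZMod.stdAddChar (M0 : ZMod N) : ℂ) = -1 := by
      have h1 : (ZMod.stdAddChar (M0 : ZMod N) : ℂ) * ZMod.stdAddChar (M0 : ZMod N) = 1 := by
        rw [← AddChar.map_add_eq_mul, hzN, AddChar.map_zero_eq_one]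
      refine (mul_self_eq_one_iff.1 h1).resolve_left fun h2 => ?_
      have h3 : (M0 : ZMod N) = 0 := ZMod.injective_stdAddChar
        (h2.trans (AddChar.map_zero_eq_one _).symm)
      rw [ZMod.natCast_eq_zero_iff] at h3
      have := Nat.le_of_dvd (by omega) h3
      omega
    have hsgn : ∀ i : ℕ, (-1 : ℂ) ^ i = ZMod.stdAddChar ((i : ZMod N) * (M0 : ZMod N)) := fun i => by
      rw [← hhalf, ← AddChar.map_nsmul_eq_pow, nsmul_eq_mul]
    have hterm : ∀ i : ℕ, (-1 : ℂ) ^ i * psi (i : ZMod N) (r j) =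
        g (i : ZMod N) + g (-(i : ZMod N)) := fun i => by
      rw [psi_r, hg, hsgn, mul_add, ← AddChar.map_add_eq_mul, ← AddChar.map_add_eq_mul]
      congr 2
      · ring
      · linear_combination -(i : ZMod N) * hM0neg
    have hsum : ∑ k : Fin m, (-1 : ℂ) ^ ((k : ℕ) + 1) = -1 := by
      rw [Fin.sum_univ_eq_sum_range (fun i => (-1 : ℂ) ^ (i + 1))]
      simp_rw [pow_succ]
      rw [← Finset.sum_mul, neg_one_geom_sum, if_neg (Nat.not_even_iff_odd.2 hodd)]
      norm_num
    have hsplit : ∑ k : Fin m, (-1 : ℂ) ^ ((k : ℕ) + 1) *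
        ((psi (((k : ℕ) + 1 : ℕ) : ZMod N) (r j) - psi 0 (r j)) +
          (psi (((k : ℕ) + 1 : ℕ) : ZMod N) (r j) - psi (M0 : ZMod N) (r j))) =
        2 * (∑ k : Fin m, (-1 : ℂ) ^ ((k : ℕ) + 1) * psi (((k : ℕ) + 1 : ℕ) : ZMod N) (r j)) +
          (psi 0 (r j) + psi (M0 : ZMod N) (r j)) := by
      rw [show (psi 0 (r j) + psi (M0 : ZMod N) (r j)) =
        -(∑ k : Fin m, (-1 : ℂ) ^ ((k : ℕ) + 1)) * (psi 0 (r j) + psi (M0 : ZMod N) (r j)) by
        rw [hsum, neg_neg, one_mul], neg_mul, Finset.sum_mul, Finset.mul_sum,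
        ← sub_eq_add_neg, ← Finset.sum_sub_distrib]
      exact Finset.sum_congr rfl fun k _ => by ring
    have h0 : psi 0 (r j) = 2 * g 0 := by
      have h := hterm 0
      rw [pow_zero, one_mul, Nat.cast_zero, neg_zero] at h
      rw [h]; ring
    have hM : psi (M0 : ZMod N) (r j) = 2 * g M0 := by
      have h := hterm M0
      rw [Even.neg_one_pow (hm ▸ hodd.add_one), one_mul, hM0neg] at h
      rw [h]; ring
    have hall : ∑ i ∈ Finset.range N, g (i : ZMod N) =
        if r j = (r (M0 : ZMod N) : DihedralGroup N) then (N : ℂ) else 0 := by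
      have : ∑ i ∈ Finset.range N, g (i : ZMod N) = ∑ a : ZMod N, g a := by
        refine Finset.sum_bij (fun i _ => (i : ZMod N)) (fun _ _ => Finset.mem_univ _) ?_ ?_
          fun _ _ => rfl
        · intro a ha b hb hab
          rw [ZMod.natCast_eq_natCast_iff', Nat.mod_eq_of_lt (Finset.mem_range.1 ha),
            Nat.mod_eq_of_lt (Finset.mem_range.1 hb)] at hab
          exact hab
        · exact fun a _ => ⟨a.val, Finset.mem_range.2 a.val_lt, ZMod.natCast_zmod_val a⟩
      rw [this, hg]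
      simp only [mul_comm _ (j + (M0 : ZMod N)), sum_stdAddChar]
      refine if_congr ?_ rfl rfl
      rw [DihedralGroup.r.injEq, add_eq_zero_iff_eq_neg, hM0neg]
    have hrange : ∑ i ∈ Finset.range N, g (i : ZMod N) = g 0 + g M0 +
        ∑ k : Fin m, (g (((k : ℕ) + 1 : ℕ) : ZMod N) + g (-(((k : ℕ) + 1 : ℕ) : ZMod N))) := by
      rw [show Finset.range N = Finset.range (M0 + M0) by rw [← two_mul, ← hN]]
      rw [Finset.sum_range_add, hm, Finset.sum_range_succ', Finset.sum_range_succ',
        Finset.sum_add_distrib, Fin.sum_univ_eq_sum_range (fun i => g ((i + 1 : ℕ) : ZMod N)),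
        Fin.sum_univ_eq_sum_range (fun i => g (-((i + 1 : ℕ) : ZMod N))),
        ← Finset.sum_range_reflect (fun i => g ((m + 1 + (i + 1) : ℕ) : ZMod N)) m]
      rw [Finset.sum_congr rfl (g := fun i => g (-((i + 1 : ℕ) : ZMod N)))
        (s₁ := Finset.range m) (f := fun i => g ((m + 1 + (m - 1 - i + 1) : ℕ) : ZMod N))]
      · simp only [Nat.cast_zero, add_zero]
        ring
      · intro i hi
        have hi' := Finset.mem_range.1 hi
        congr 1
        rw [eq_neg_iff_add_eq_zero, ← Nat.cast_add, ZMod.natCast_eq_zero_iff]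
        exact dvd_of_eq (by omega)
    rw [hsplit, Finset.sum_congr rfl fun (k : Fin m) _ => hterm ((k : ℕ) + 1), h0, hM]
    rw [show (if r j = (r (M0 : ZMod N) : DihedralGroup N) then 2 * (N : ℂ) else 0) =
      2 * (if r j = (r (M0 : ZMod N) : DihedralGroup N) then (N : ℂ) else 0) by
      split_ifs <;> simp, ← hall, hrange]
    ring

end CfsgLib.DihedralBlk
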