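import Cfsg.Agent.Lib.Blocks.OverPrimeCore
import Cfsg.Agent.Lib.Characters.NormalAvg
import Cfsg.Agent.Lib.Characters.Extension
import Cfsg.Agent.Lib.Characters.Generalized
import Cfsg.Agent.Lib.CharCorr.Basic
import Cfsg.Prelude.Def_BlockRank

/-!
# The regular rank over an invariant character

Over an invariant character of a normal subgroup the restrictions of the characters to one coset
are proportional, so the regular rank is at most the number of regular classes of the quotient.
-/

set_option autoImplicit false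
set_option linter.unusedSectionVars false
set_option linter.style.haveILetI false

namespace CfsgLib.DihedralBlk

open Cfsg CfsgLib.Characters CfsgLib.NormalAvg CfsgLib.BlockOver
open scoped Classical ComplexConjugate

universe u

/-- A character over one that extends is the product of the extension and the average. -/
theorem eq_mul_pairAvg {H : Type u} [Group H] [Fintype H] (N : Subgroup H) [N.Normal] [Fintype N]
    {ψ χ : H → ℂ} (hψ : IsIrrCharacter H ψ) (hχ : IsCharacter H χ)
    (hχN : IsIrrCharacter N (fun n : N => χ n))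
    (h : classInner (fun n : N => ψ n) (fun n : N => χ n) ≠ 0) :
    ψ = χ * pairAvg N ψ χ := by
  set η := pairAvg N ψ χ with hη
  have hηi : IsIrrCharacter H η := isIrrCharacter_pairAvg N hψ hχ hχN h
  have hcon : ∀ (n : N) (g : H), η ((n : H) * g) = η g := fun n g => avgN_mul_left N _ n g
  have e1 : classInner η η = classInner ψ (χ * η) := by
    conv_lhs => arg 1; rw [hη, pairAvg]
    rw [classInner_avgN_left N _ hcon]
    unfold classInner
    congr 1
    exact Finset.sum_congr rfl fun g _ => by simp [mul_assoc]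
  have e2 : classInner (χ * η) (χ * η) = classInner η η := by
    have hcon2 : ∀ (n : N) (g : H),
        (fun g => η g * conj (η g)) ((n : H) * g) = (fun g => η g * conj (η g)) g := fun n g => by
      simp only [hcon]
    have := classInner_avgN_left N (fun g => χ g * conj (χ g))
      (f := fun g => η g * conj (η g)) hcon2
    have hone : avgN N (fun g => χ g * conj (χ g)) = fun _ => 1 := pairAvg_self N hχ hχN
    rw [hone] at this
    unfold classInner at this ⊢
    refine Eq.trans ?_ (this.symm.trans ?_)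
    · congr 1
      exact Finset.sum_congr rfl fun g _ => by simp; ring
    · congr 1
      exact Finset.sum_congr rfl fun g _ => by simp; ring
  have h1 := classInner_irr_self hηi
  have hprod : IsIrrCharacter H (χ * η) :=
    (isIrrCharacter_iff_classInner_self (isCharacter_mul hχ (isCharacter_of_irr hηi))).2
      (by rw [e2, h1])
  by_contra hne
  rw [e1, classInner_irr_ne hψ hprod hne] at h1
  exact zero_ne_one h1

variable {G : Type u} [Group G] [Fintype G] {K : Subgroup G} [hK : K.Normal] [Fintype K]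
  {θ : IrrCharacter K}

/-- On a coset the characters over an invariant character are proportional. -/
theorem coset_line (hinv : IsInvariant K (θ : K → ℂ)) (g : G) :
    ∃ f : K → ℂ, ∀ χ ∈ overSet K θ, ∃ c : ℂ, ∀ k : K, (χ : G → ℂ) (g * k) = c * f k := by
  set H := K ⊔ Subgroup.zpowers g
  have hKH : K ≤ H := le_sup_left
  have hgH : g ∈ H := (le_sup_right : Subgroup.zpowers g ≤ H) (Subgroup.mem_zpowers g)
  letI : Fintype H := Fintype.ofFinite _
  set N := K.subgroupOf H
  letI : Fintype N := Fintype.ofFinite _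
  haveI : IsCyclic (H ⧸ N) := ⟨⟨((⟨g, hgH⟩ : H) : H ⧸ N), fun q => by
    obtain ⟨x, rfl⟩ := QuotientGroup.mk_surjective q
    have hx : (x : G) ∈ ((Subgroup.zpowers g ⊔ K : Subgroup G) : Set G) := by
      rw [SetLike.mem_coe, sup_comm]; exact x.2
    rw [Subgroup.mul_normal] at hx
    obtain ⟨y, hy, k, hk, hyk⟩ := hx
    obtain ⟨i, rfl⟩ := Subgroup.mem_zpowers_iff.1 hy
    refine ⟨i, ?_⟩
    show ((⟨g, hgH⟩ : H) : H ⧸ N) ^ i = _
    rw [← QuotientGroup.mk_zpow]
    refine QuotientGroup.eq.2 ?_
    show (((⟨g, hgH⟩ : H) ^ i)⁻¹ * x : H).1 ∈ K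
    simp only [Subgroup.coe_mul, Subgroup.coe_inv, Subgroup.coe_zpow, ← hyk, inv_mul_cancel_left]
    exact hk⟩⟩
  set e := Subgroup.subgroupOfEquivOfLe hKH
  set θ' := CfsgLib.CharCorr.twistIrr e θ with hθ'
  obtain ⟨th, hth, hthN⟩ := CfsgLib.CharExtension.extends_of_isCyclic N θ'.2
    (fun x n => hinv (x : G) (e n))
  have hthN' : (fun n : N => th n) = (θ' : N → ℂ) := funext hthN
  refine ⟨fun k => th ⟨g * k, H.mul_mem hgH (hKH k.2)⟩, fun χ hχ => ?_⟩
  obtain ⟨m, -, hsum⟩ := CfsgLib.Clifford.exists_mult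
    (CfsgLib.Clifford.isCharacter_subtype (irr_isCharacter χ) H)
  refine ⟨∑ ψ : IrrCharacter H, (m ψ : ℂ) * pairAvg N (ψ : H → ℂ) th ⟨g, hgH⟩, fun k => ?_⟩
  have hmem : g * (k : G) ∈ H := H.mul_mem hgH (hKH k.2)
  have h1 := congrFun hsum ⟨g * k, hmem⟩
  simp only [Finset.sum_apply, Pi.smul_apply, smul_eq_mul] at h1
  rw [h1, Finset.sum_mul]
  refine Finset.sum_congr rfl fun ψ _ => ?_
  by_cases hm : m ψ = 0
  · simp [hm]
  have hne : classInner (fun n : N => (ψ : H → ℂ) n) (fun n : N => th n) ≠ 0 := by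
    rw [hthN']
    intro h0
    obtain ⟨φ, hφ⟩ := NormalRes.exists_mult_ne_zero N ψ
    have hne : φ ≠ θ' := fun h => hφ (h ▸ h0)
    have hz : classInner (fun n : N => (χ : G → ℂ) (n : H)) (φ : N → ℂ) = 0 := by
      have hfun : (fun n : N => (χ : G → ℂ) (n : H)) =
          ((χ : G → ℂ) 1 / (θ : K → ℂ) 1) • (θ' : N → ℂ) := funext fun n => res_apply hinv hχ (e n)
      rw [hfun, classInner_smul_left,
        classInner_irr_ne θ'.2 φ.2 (fun h => hne (Subtype.ext h).symm), mul_zero]
    have hexp : classInner (fun n : N => (χ : G → ℂ) (n : H)) (φ : N → ℂ) =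
        ∑ ψ' : IrrCharacter H, (m ψ' : ℂ) * NormalRes.mult N (ψ' : H → ℂ) φ := by
      have hfun : (fun n : N => (χ : G → ℂ) (n : H)) =
          ∑ ψ' : IrrCharacter H, (m ψ' : ℂ) • fun n : N => (ψ' : H → ℂ) n := funext fun n => by
        have := congrFun hsum (n : H)
        simpa [Finset.sum_apply] using this
      rw [hfun, classInner_sum_left]
      exact Finset.sum_congr rfl fun ψ' _ => classInner_smul_left _ _ _
    choose d hd using fun ψ' : IrrCharacter H => NormalRes.mult_nat N (irr_isCharacter ψ') φ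
    simp only [hz, hd] at hexp
    have h2 : ∑ ψ' : IrrCharacter H, m ψ' * d ψ' = 0 := by exact_mod_cast hexp.symm
    have h3 := Finset.sum_eq_zero_iff.1 h2 ψ (Finset.mem_univ _)
    exact hφ (by rw [hd, (mul_eq_zero.1 h3).resolve_left hm, Nat.cast_zero])
  have hmul := congrFun (eq_mul_pairAvg N ψ.2 (isCharacter_of_irr hth) (hthN'.symm ▸ θ'.2) hne)
    ⟨g * k, hmem⟩
  have hk : pairAvg N (ψ : H → ℂ) th ⟨g * k, hmem⟩ = pairAvg N (ψ : H → ℂ) th ⟨g, hgH⟩ :=
    avgN_mul_right N _ (⟨⟨k, hKH k.2⟩, k.2⟩ : N) ⟨g, hgH⟩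
  rw [hmul, Pi.mul_apply, hk]
  ring

/-- The regular rank over an invariant character is at most the number of regular classes of the
quotient. -/
theorem rank_le_classes {p : ℕ} [hp : Fact p.Prime] (hKp : ¬ p ∣ Nat.card K)
    (hinv : IsInvariant K (θ : K → ℂ)) {S : Set (IrrCharacter G)} (hS : S ⊆ overSet K θ) :
    blockRank p S ≤ Nat.card {c : ConjClasses (G ⧸ K) // ¬ p ∣ orderOf c.out} := by
  set C := {c : ConjClasses (G ⧸ K) // ¬ p ∣ orderOf c.out}
  letI : Fintype C := Fintype.ofFinite _
  choose f hf using fun c : C => coset_line hinv (Quotient.out (c.1.out : G ⧸ K))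
  set g : C → G := fun c => Quotient.out (c.1.out : G ⧸ K) with hg
  have hk : ∀ c, ∃ k : K, f c k = 0 → ∀ k', f c k' = 0 := fun c => by
    by_cases h : ∃ k, f c k ≠ 0
    · obtain ⟨k, hk⟩ := h; exact ⟨k, fun h0 => absurd h0 hk⟩
    · push Not at h; exact ⟨1, fun _ => h⟩
  choose k hk using hk
  have hreg : ∀ x : G, ¬ p ∣ orderOf (x : G ⧸ K) → ¬ p ∣ orderOf x := fun x hx hd => by
    have hmem : x ^ orderOf (x : G ⧸ K) ∈ K := by
      rw [← QuotientGroup.eq_one_iff, QuotientGroup.mk_pow, pow_orderOf_eq_one]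
    have h1 : orderOf x ∣ orderOf (x : G ⧸ K) * Nat.card K := orderOf_dvd_of_pow_eq_one (by
      rw [pow_mul]
      exact congrArg Subtype.val (pow_card_eq_one' (x := (⟨_, hmem⟩ : K))))
    exact (hp.out.dvd_mul.1 (hd.trans h1)).elim hx hKp
  have hmk : ∀ (c : C) (k : K), ((g c * k : G) : G ⧸ K) = c.1.out := fun c k => by
    rw [QuotientGroup.mk_mul, (QuotientGroup.eq_one_iff (k : G)).2 k.2, mul_one, hg,
      QuotientGroup.out_eq']
  set V := Submodule.span ℂ ((fun χ : IrrCharacter G => pRegularPart p (χ : G → ℂ)) '' S)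
  let E : (G → ℂ) →ₗ[ℂ] (C → ℂ) := LinearMap.funLeft ℂ ℂ fun c => g c * k c
  have hP : ∀ F ∈ V, IsClassFunction G F ∧ (∀ x : G, p ∣ orderOf x → F x = 0) ∧
      ∀ c, ∃ a : ℂ, ∀ k' : K, F (g c * k') = a * f c k' := by
    intro F hF
    induction hF using Submodule.span_induction with
    | mem F hF =>
      obtain ⟨χ, hχ, rfl⟩ := hF
      refine ⟨fun x h => ?_, fun x hx => ?_, fun c => ?_⟩
      · have ho : orderOf (h * x * h⁻¹) = orderOf x := (MulAut.conj h).orderOf_eq x
        simp only [pRegularPart, IsPRegular, ho, irr_isClassFunction χ x h]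
        split_ifs <;> simp_all
      · simp only [pRegularPart, IsPRegular]
        exact if_neg (not_not.2 hx)
      · obtain ⟨a, ha⟩ := hf c χ (hS hχ)
        refine ⟨a, fun k' => ?_⟩
        simp only [pRegularPart, IsPRegular]
        exact (if_pos (hreg _ (by rw [hmk]; exact c.2))).trans (ha k')
    | zero => exact ⟨fun x h => rfl, fun x _ => rfl, fun c => ⟨0, fun k' => by simp⟩⟩
    | add A A' _ _ hA hA' =>
      refine ⟨fun x h => by simp only [Pi.add_apply, hA.1 x h, hA'.1 x h],
        fun x hx => by simp [hA.2.1 x hx, hA'.2.1 x hx], fun c => ?_⟩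
      obtain ⟨a, ha⟩ := hA.2.2 c
      obtain ⟨a', ha'⟩ := hA'.2.2 c
      exact ⟨a + a', fun k' => by simp [ha, ha', add_mul]⟩
    | smul r A _ hA =>
      refine ⟨fun x h => by simp only [Pi.smul_apply, hA.1 x h],
        fun x hx => by simp [hA.2.1 x hx], fun c => ?_⟩
      obtain ⟨a, ha⟩ := hA.2.2 c
      exact ⟨r * a, fun k' => by simp [ha, mul_assoc]⟩
  have hinj : Function.Injective (E.comp V.subtype) := by
    rw [injective_iff_map_eq_zero]
    rintro ⟨F, hF⟩ h0
    obtain ⟨hcl, hsing, hline⟩ := hP F hF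
    refine Subtype.ext (funext fun x => ?_)
    by_cases hx : p ∣ orderOf x
    · exact hsing x hx
    have hxq : ¬ p ∣ orderOf (x : G ⧸ K) := fun h =>
      hx (h.trans (orderOf_map_dvd (QuotientGroup.mk' K) x))
    have hconj : IsConj (ConjClasses.mk (x : G ⧸ K)).out (x : G ⧸ K) :=
      ConjClasses.mk_eq_mk_iff_isConj.1 (Quotient.out_eq _)
    obtain ⟨hb, hhb⟩ := isConj_iff.1 hconj
    set c : C := ⟨ConjClasses.mk (x : G ⧸ K), fun h => hxq (by
      rwa [← hhb, ← MulAut.conj_apply, MulEquiv.orderOf_eq])⟩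
    obtain ⟨w, rfl⟩ := QuotientGroup.mk_surjective hb
    have hmem : (g c)⁻¹ * (w⁻¹ * x * w) ∈ K := by
      rw [← QuotientGroup.eq_one_iff]
      rw [QuotientGroup.mk_mul, QuotientGroup.mk_mul, QuotientGroup.mk_mul, QuotientGroup.mk_inv,
        QuotientGroup.mk_inv]
      conv_lhs => arg 2; arg 1; arg 2; rw [← hhb]
      rw [show ((g c : G) : G ⧸ K) = (ConjClasses.mk (x : G ⧸ K)).out from QuotientGroup.out_eq' _]
      group
    obtain ⟨a, ha⟩ := hline c
    have h1 : F (g c * k c) = 0 := congrFun h0 c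
    rw [ha] at h1
    have h2 : F x = F (g c * ((⟨_, hmem⟩ : K) : G)) := by
      conv_rhs => rw [← hcl _ w]
      congr 1
      group
    show F x = 0
    rw [h2, ha]
    rcases mul_eq_zero.1 h1 with h | h
    · rw [h, zero_mul]
    · rw [hk c h _, mul_zero]
  have := LinearMap.finrank_le_finrank_of_injective hinj
  rw [Module.finrank_pi, ← Nat.card_eq_fintype_card] at this
  exact this

/-- Every regular class is seen by the characters. -/
theorem classes_le_rank {X : Type u} [Group X] [Fintype X] (p : ℕ) :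
    Nat.card {c : ConjClasses X // ¬ p ∣ orderOf c.out} ≤
      blockRank p (Set.univ : Set (IrrCharacter X)) := by
  set C := {c : ConjClasses X // ¬ p ∣ orderOf c.out}
  letI : Fintype C := Fintype.ofFinite _
  set V := Submodule.span ℂ
    ((fun χ : IrrCharacter X => pRegularPart p (χ : X → ℂ)) '' Set.univ)
  let δ : C → X → ℂ := fun c x => if ConjClasses.mk x = c.1 then 1 else 0
  have hout : ∀ c : ConjClasses X, ConjClasses.mk c.out = c := fun c => Quotient.out_eq c
  have hδ : ∀ c, δ c ∈ V := by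
    intro c
    have hcl : IsClassFunction X (δ c) := fun x h => by
      simp only [δ, ConjClasses.mk_eq_mk_iff_isConj.2 (isConj_iff.2 ⟨h, rfl⟩ : IsConj x (h * x * h⁻¹))]
    have hval : δ c = ∑ χ : IrrCharacter X, classInner (δ c) (χ : X → ℂ) •
        pRegularPart p (χ : X → ℂ) := by
      funext x
      have h1 := congrFun (classFunction_eq_sum hcl) x
      simp only [Finset.sum_apply, Pi.smul_apply, smul_eq_mul, pRegularPart] at h1 ⊢
      by_cases hx : IsPRegular p x
      · simp only [if_pos hx]; exact h1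
      · simp only [if_neg hx, mul_zero, Finset.sum_const_zero]
        refine if_neg fun h => c.2 ?_
        obtain ⟨w, hw⟩ := isConj_iff.1
          (ConjClasses.mk_eq_mk_iff_isConj.1 ((hout c.1).trans h.symm)).symm
        rw [← hw, ← MulAut.conj_apply, MulEquiv.orderOf_eq]
        exact not_not.1 hx
    rw [hval]
    exact Submodule.sum_mem _ fun χ _ => Submodule.smul_mem _ _
      (Submodule.subset_span ⟨χ, trivial, rfl⟩)
  have hli : LinearIndependent ℂ δ := by
    rw [Fintype.linearIndependent_iff]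
    intro a ha c
    have h := congrFun ha c.1.out
    simp only [Finset.sum_apply, Pi.smul_apply, smul_eq_mul, δ, hout, mul_ite, mul_one, mul_zero,
      Pi.zero_apply] at h
    rw [Finset.sum_eq_single c (fun b _ hb => if_neg fun h' => hb (Subtype.ext h').symm)
      (fun h => absurd (Finset.mem_univ _) h), if_pos rfl] at h
    exact h
  have h2 : LinearIndependent ℂ fun c => (⟨δ c, hδ c⟩ : V) :=
    LinearIndependent.of_comp V.subtype hli
  rw [Nat.card_eq_fintype_card]
  exact h2.fintype_card_le_finrank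

end CfsgLib.DihedralBlk
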