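import Cfsg.Agent.Lib.DihedralBlk.Main
import Cfsg.Agent.Lib.BPStar.NonVanish
import Cfsg.Agent.Lib.Blocks.WeakOrth
import Cfsg.Agent.Lib.NilBlk.Main

/-!
# A dihedral defect group with a reflection outside the class of the central involution

Then the block has rank at most two.
-/

set_option autoImplicit false
set_option linter.unusedSectionVars false
set_option maxHeartbeats 1000000

namespace CfsgLib.DihedralBlk

open Cfsg CfsgLib.NilBlk CfsgLib.Blocks CfsgLib.Characters CfsgLib.BrauerPairs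
  CfsgLib.Contribution DihedralGroup
open scoped Classical ComplexConjugate

universe u

variable {G : Type u} [Group G] [Fintype G] [Fact (Nat.Prime 2)] {M : Ideal AlgInt} [M.IsMaximal]
  {hM : IsPModular 2 M} {B : Set (IrrCharacter G)} {k : ℕ}

namespace Loc

variable (L : Loc hM B k)

/-- The vectors of the generic shape live on the block. -/
theorem vanish_out (hR : IsRegular L.Ci L.Ci') {χ : IrrCharacter G} (hχ : χ ∉ B)
    (i : Fin (mm k)) : L.Ci i χ = 0 ∧ L.Ci' i χ = 0 := by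
  obtain ⟨ψ, σ, a, e, hinj, hσ, he, hC, hC'⟩ := hR
  have hψa : ∀ i j, ψ i ≠ a j := fun i j h => by
    simpa using hinj (a₁ := Sum.inl i) (a₂ := Sum.inr j) h
  have hψ : Function.Injective ψ := fun i j h =>
    Sum.inl_injective (hinj (a₁ := Sum.inl i) (a₂ := Sum.inl j) h)
  have ha : Function.Injective a := fun i j h =>
    Sum.inr_injective (hinj (a₁ := Sum.inr i) (a₂ := Sum.inr j) h)
  set V : IrrCharacter G → ℤ := fun χ =>
    ∑ i : Fin (mm k), (-1) ^ ((i : ℕ) + 1) * (L.Ci i χ + L.Ci' i χ)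
  have hVx : ∀ χ, V χ = ∑ i : Fin (mm k), (-1) ^ ((i : ℕ) + 1) * (2 * σ) * ind1 (ψ i) χ -
      ∑ j, e j * ind1 (a j) χ := fun χ => by
    have h1 : ∀ i : Fin (mm k), (-1 : ℤ) ^ ((i : ℕ) + 1) * (L.Ci i χ + L.Ci' i χ) =
        (-1) ^ ((i : ℕ) + 1) * (2 * σ) * ind1 (ψ i) χ +
          (-1) ^ ((i : ℕ) + 1) * ∑ j, e j * ind1 (a j) χ := fun i => by
      rw [hC, hC', Fin.sum_univ_four]; ring
    simp only [V, h1, Finset.sum_add_distrib, ← Finset.sum_mul, sum_alt]
    ring
  have hV0 : V χ = 0 := by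
    have h := (not_congr (L.mem_iff χ)).1 hχ
    rw [not_not, L.V_int] at h
    exact_mod_cast h
  have h1 : ∀ l, ind1 (ψ l) χ = 0 := fun l => ind1_ne fun h => by
    subst h
    rw [hVx, Finset.sum_eq_single l (fun j _ hj => by
      rw [ind1_ne fun h => hj (hψ h).symm, mul_zero]) (fun h => absurd (Finset.mem_univ l) h),
      ind1_self, Finset.sum_eq_zero fun j _ => by rw [ind1_ne (hψa l j), mul_zero]] at hV0
    rcases hσ with h | h <;> simp [h] at hV0
  have h2 : ∀ j, ind1 (a j) χ = 0 := fun j => ind1_ne fun h => by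
    subst h
    rw [hVx, Finset.sum_eq_zero fun i _ => by rw [ind1_ne (hψa i j).symm, mul_zero],
      Finset.sum_eq_single j (fun l _ hl => by rw [ind1_ne fun h => hl (ha h).symm, mul_zero])
      (fun h => absurd (Finset.mem_univ j) h), ind1_self] at hV0
    rcases he j with h | h <;> simp [h] at hV0
  rw [hC, hC']
  simp [h1, h2]

/-- Functions on the rotations do not see an element whose 2-part is outside their classes. -/
theorem sum_T_outside {f : DihedralGroup (2 ^ (k + 2)) → ℂ} (hf : IsRot f) {x s : G}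
    (hx : IsPPart 2 x s) (hs : orderOf s = 2) (hns : ∀ w : G, w * s * w⁻¹ ≠ invo L.iso) :
    ∑ χ : IrrCharacter G, L.T f χ * (χ : G → ℂ) x = 0 := by
  rw [sum_T_apply, Induction.indFun_apply, Finset.sum_eq_zero, mul_zero]
  intro w _
  by_cases hmem : w⁻¹ * x * w ∈ L.K
  · rw [Induction.extendByZero_mem _ _ hmem]
    by_contra hne
    obtain ⟨u, t, p, hu, ht, hp⟩ := L.exists_of_st_ne_zero hf.cf hne
    obtain ⟨j, hj, rfl⟩ := hf.supp p hp
    have hu' : IsPPart 2 (w⁻¹ * x * w) (u : G) := by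
      obtain ⟨y, hy, hc, hk, hy2⟩ := hu
      refine ⟨y, ?_, hc.map L.K.subtype, ?_, ?_⟩
      · exact congrArg Subtype.val hy
      · simpa [Subgroup.orderOf_coe] using hk
      · simpa [Subgroup.orderOf_coe] using hy2
    have h1 := IsPPart.conj hx w⁻¹
    rw [inv_inv] at h1
    have h2 : (u : G) = w⁻¹ * s * w := IsPPart.unique hM.1 hu' h1
    have h3 : ((t : G) * w⁻¹) * s * ((t : G) * w⁻¹)⁻¹ = el L.iso (r j) := by
      rw [el_iso, ← ht]
      simp only [Subgroup.coe_mul, Subgroup.coe_inv, h2]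
      group
    have ho : orderOf (el L.iso (r j)) = 2 := by
      rw [← h3, ← MulAut.conj_apply, MulEquiv.orderOf_eq, hs]
    exact hns _ (h3.trans (eq_invo_of_orderOf L.iso rfl ho))
  · exact Induction.extendByZero_notMem _ _ hmem

end Loc

open Loc in
/-- A reflection outside the class of the central involution bounds the rank by two. -/
theorem blockRank_le_two (hM : IsPModular 2 M) (hB : IsPBlock M B) {D : Subgroup G}
    (hD : IsDefectGroup 2 M B D) (e : D ≃* DihedralGroup (2 ^ (k + 2))) {s : G} (hsD : s ∈ D)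
    (hs : orderOf s = 2) (hns : ∀ w : G, w * s * w⁻¹ ≠ invo e) : blockRank 2 B ≤ 2 := by
  have := charP_res hM
  have hcard := (main hM hB hD e).1
  obtain ⟨L, hL⟩ := exists_loc_mid hM hB hD e
  rw [← L.invo_iso] at hL
  have hR := L.regular
  -- a value that does not vanish
  obtain ⟨e₀, hmax⟩ := exists_maximalPair hM hB hD
  obtain ⟨hP, -⟩ := (isMaximalBrauerPair_iff hM B D e₀).1 hmax
  obtain ⟨-, -, hO⟩ := (isBrauerPairOf_iff hM B D e₀).1 hP
  have hsQ : Subgroup.zpowers s ≤ D := Subgroup.zpowers_le.2 hsD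
  obtain ⟨f, hf, hfle⟩ := exists_pairLE (p := 2) (hasBlocks hM) hsQ hO.pgroup hO.block
  obtain ⟨b, hb, rfl⟩ := exists_eA_eq hM hf
  obtain ⟨χ₀, hχ₀, -, hmin⟩ := Contribution.exists_height_zero hM hB
  have h0 : blockHeight 2 B (χ₀ : G → ℂ) = 0 := by
    rw [blockHeight, hmin]; exact Nat.sub_self _
  obtain ⟨c₀, hc₀, hne⟩ := BPStar.exists_blockPart_ne_zero (hM := hM) hmax hχ₀ h0 ⟨s, hsD⟩ hb hfle
  obtain ⟨c, hc, hcne⟩ : ∃ c : cz (Subgroup.zpowers s), ¬ 2 ∣ orderOf c ∧
      (χ₀ : G → ℂ) (s * (c : G)) ≠ 0 := by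
    by_contra hcon
    push Not at hcon
    refine hne ((blockPart_congr_regular hM hb (g := 0) (fun c hc => hcon c hc) hc₀).trans ?_)
    simp [blockPart_eq_sum, classInner]
  set x := s * (c : G)
  have hcs : Commute s (c : G) := BPStar.commute_of_mem_cz c.2
  have hxs : IsPPart 2 x s :=
    isPPart_mul hcs ⟨1, by rw [hs, pow_one]⟩ (by rwa [Subgroup.orderOf_coe])
  have hx2 : 2 ∣ orderOf x := by
    rw [show x = s * (c : G) from rfl, hcs.orderOf_mul_eq_mul_orderOf_of_coprime, hs]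
    · exact dvd_mul_right _ _
    · rw [hs, Subgroup.orderOf_coe]
      exact Nat.prime_two.coprime_iff_not_dvd.2 hc
  have hns' : ∀ w : G, w * s * w⁻¹ ≠ invo L.iso := fun w => by rw [hL]; exact hns w
  -- the vectors
  have hsum : ∀ F : IrrCharacter G → ℂ, (∀ χ, χ ∉ B → F χ = 0) →
      ∑ χ : B, F χ = ∑ χ, F χ := fun F hF => by
    rw [← Finset.sum_subset (Finset.subset_univ (Finset.univ.filter (· ∈ B)))
      (fun χ _ hχ => hF χ fun h => hχ (Finset.mem_filter.2 ⟨Finset.mem_univ _, h⟩))]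
    exact (Finset.sum_subtype (p := (· ∈ B)) _ (fun χ => by simp) F).symm
  obtain ⟨-, hodd⟩ := mm_spec k
  set i₀ : Fin (mm k) := ⟨0, hodd.pos⟩
  let W : IrrCharacter G → ℤ := fun χ => L.Ci' i₀ χ - L.Ci i₀ χ
  let Λ : (B → ℂ) →ₗ[ℂ] (G → ℂ) :=
    Fintype.linearCombination ℂ (fun χ : B => pRegularPart 2 ((χ : IrrCharacter G) : G → ℂ))
  let v : Fin (mm k) ⊕ Fin 2 → (B → ℂ) := Sum.elim (fun i χ => (L.Ci i χ.1 : ℂ))
    ![fun χ => (W χ.1 : ℂ), fun χ => conj ((χ.1 : G → ℂ) x)]
  have z1 : ∀ (g : G), ¬ 2 ∣ orderOf g → ∀ i,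
      ∑ χ, (L.Ci i χ : ℂ) * (χ : G → ℂ) g = 0 ∧
      ∑ χ, (L.Ci' i χ : ℂ) * (χ : G → ℂ) g = 0 := fun g hg i => by
    have a1 := L.sum_T_regular (isRot_sub (ix i) 0) hg
    have a2 := L.sum_T_regular (isRot_sub (ix i) (half k)) hg
    change ∑ χ, L.T (dC i) χ * (χ : G → ℂ) g = 0 at a1
    change ∑ χ, L.T (dC' i) χ * (χ : G → ℂ) g = 0 at a2
    simp only [fun χ => (L.Ci_spec i χ).1] at a1
    simp only [fun χ => (L.Ci_spec i χ).2] at a2
    exact ⟨a1, a2⟩
  have z2 : ∀ i, ∑ χ, (L.Ci i χ : ℂ) * (χ : G → ℂ) x = 0 ∧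
      ∑ χ, (L.Ci' i χ : ℂ) * (χ : G → ℂ) x = 0 := fun i => by
    have a1 := L.sum_T_outside (isRot_sub (ix i) 0) hxs hs hns'
    have a2 := L.sum_T_outside (isRot_sub (ix i) (half k)) hxs hs hns'
    change ∑ χ, L.T (dC i) χ * (χ : G → ℂ) x = 0 at a1
    change ∑ χ, L.T (dC' i) χ * (χ : G → ℂ) x = 0 at a2
    simp only [fun χ => (L.Ci_spec i χ).1] at a1
    simp only [fun χ => (L.Ci_spec i χ).2] at a2
    exact ⟨a1, a2⟩
  have hCout : ∀ i χ, χ ∉ B → (L.Ci i χ : ℂ) = 0 := fun i χ h => by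
    rw [(L.vanish_out hR h i).1, Int.cast_zero]
  have hWout : ∀ χ, χ ∉ B → (W χ : ℂ) = 0 := fun χ h => by
    simp only [W, (L.vanish_out hR h i₀).1, (L.vanish_out hR h i₀).2, sub_zero, Int.cast_zero]
  have hker : ∀ q, v q ∈ LinearMap.ker Λ := by
    have key : ∀ w : IrrCharacter G → ℂ, (∀ g : G, ¬ 2 ∣ orderOf g →
        ∑ χ : B, w χ * ((χ : IrrCharacter G) : G → ℂ) g = 0) →
        (fun χ : B => w χ.1) ∈ LinearMap.ker Λ := by
      intro w hz
      rw [LinearMap.mem_ker]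
      funext g
      simp only [Λ, Fintype.linearCombination_apply, Finset.sum_apply, Pi.smul_apply, smul_eq_mul,
        Pi.zero_apply, pRegularPart]
      by_cases hg : IsPRegular 2 g
      · simp only [if_pos hg]; exact hz g hg
      · simp only [if_neg hg, mul_zero, Finset.sum_const_zero]
    rintro (i | q)
    · refine key (fun χ => (L.Ci i χ : ℂ)) fun g hg => ?_
      rw [hsum (fun χ => (L.Ci i χ : ℂ) * (χ : G → ℂ) g)
        (fun χ h => by rw [hCout i χ h, zero_mul]), (z1 g hg i).1]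
    · fin_cases q
      · refine key (fun χ => (W χ : ℂ)) fun g hg => ?_
        rw [hsum (fun χ => (W χ : ℂ) * (χ : G → ℂ) g) (fun χ h => by rw [hWout χ h, zero_mul])]
        simp only [W, Int.cast_sub, sub_mul, Finset.sum_sub_distrib, (z1 g hg i₀).1,
          (z1 g hg i₀).2, sub_zero]
      · refine key (fun χ => conj ((χ : G → ℂ) x)) fun g hg => ?_
        rw [← weak_orth hM hB hg hx2, ← Finset.sum_subtype (p := (· ∈ B))
          (Finset.univ.filter (· ∈ B)) (fun χ => by simp)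
          (fun χ : IrrCharacter G => conj ((χ : G → ℂ) x) * (χ : G → ℂ) g)]
        exact Finset.sum_congr rfl fun χ _ => mul_comm _ _
  have hli : LinearIndependent ℂ v := by
    rw [Fintype.linearIndependent_iff]
    intro c hc
    have hev : ∀ w : IrrCharacter G → ℂ,
        ∑ i, c (Sum.inl i) * (∑ χ : B, (L.Ci i χ.1 : ℂ) * w χ.1) +
          (c (Sum.inr 0) * (∑ χ : B, (W χ.1 : ℂ) * w χ.1) +
          c (Sum.inr 1) * (∑ χ : B, conj ((χ.1 : G → ℂ) x) * w χ.1)) = 0 := fun w => by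
      have h : ∑ χ : B, (∑ q, c q • v q) χ * w χ.1 = 0 := by
        rw [hc]
        simp only [Pi.zero_apply, zero_mul, Finset.sum_const_zero]
      rw [← h]
      simp only [Finset.sum_apply, Pi.smul_apply, smul_eq_mul, Fintype.sum_sum_type,
        Fin.sum_univ_two, add_mul, Finset.sum_add_distrib, Finset.sum_mul, Finset.mul_sum]
      rw [Finset.sum_comm]
      simp [v, mul_assoc]
    have hCx : ∀ i, ∑ χ : B, (L.Ci i χ.1 : ℂ) * (χ.1 : G → ℂ) x = 0 := fun i => by
      rw [hsum (fun χ => (L.Ci i χ : ℂ) * (χ : G → ℂ) x)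
        (fun χ h => by rw [hCout i χ h, zero_mul]), (z2 i).1]
    have hWx : ∑ χ : B, (W χ.1 : ℂ) * (χ.1 : G → ℂ) x = 0 := by
      rw [hsum (fun χ => (W χ : ℂ) * (χ : G → ℂ) x) (fun χ h => by rw [hWout χ h, zero_mul])]
      simp only [W, Int.cast_sub, sub_mul, Finset.sum_sub_distrib, (z2 i₀).1, (z2 i₀).2, sub_zero]
    have hd : c (Sum.inr 1) = 0 := by
      have h := hev fun χ => (χ : G → ℂ) x
      simp only [hCx, hWx, mul_zero, Finset.sum_const_zero, zero_add] at h
      refine (mul_eq_zero.1 h).resolve_right fun hz => hcne ?_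
      have hr := congrArg Complex.re hz
      simp only [← Complex.normSq_eq_conj_mul_self, Complex.re_sum, Complex.ofReal_re,
        Complex.zero_re] at hr
      exact Complex.normSq_eq_zero.1
        ((Finset.sum_eq_zero_iff_of_nonneg fun χ _ => Complex.normSq_nonneg _).1 hr ⟨χ₀, hχ₀⟩
          (Finset.mem_univ _))
    -- the Gram relations
    have g1 : ∀ i j, ∑ χ : B, (L.Ci i χ.1 : ℂ) * (L.Ci j χ.1 : ℂ) =
        2 + if i = j then 1 else 0 := fun i j => by
      rw [hsum (fun χ => (L.Ci i χ : ℂ) * (L.Ci j χ : ℂ))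
        (fun χ h => by rw [hCout i χ h, zero_mul])]
      have := congrArg (Int.cast : ℤ → ℂ) (L.Ci_gram i j).1
      simpa using this
    have g2 : ∀ i, ∑ χ : B, (L.Ci i χ.1 : ℂ) * (W χ.1 : ℂ) = -2 := fun i => by
      rw [hsum (fun χ => (L.Ci i χ : ℂ) * (W χ : ℂ))
        (fun χ h => by rw [hCout i χ h, zero_mul])]
      have e1 := congrArg (Int.cast : ℤ → ℂ) (L.Ci_gram i i₀).1
      have e3 := congrArg (Int.cast : ℤ → ℂ) (L.Ci_gram i i₀).2.2
      push_cast at e1 e3
      simp only [W, Int.cast_sub, mul_sub, Finset.sum_sub_distrib, e1, e3]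
      ring
    have g3 : ∑ χ : B, (W χ.1 : ℂ) * (W χ.1 : ℂ) = 4 := by
      rw [hsum (fun χ => (W χ : ℂ) * (W χ : ℂ)) (fun χ h => by rw [hWout χ h, zero_mul])]
      have e1 := congrArg (Int.cast : ℤ → ℂ) (L.Ci_gram i₀ i₀).1
      have e2 := congrArg (Int.cast : ℤ → ℂ) (L.Ci_gram i₀ i₀).2.1
      have e3 := congrArg (Int.cast : ℤ → ℂ) (L.Ci_gram i₀ i₀).2.2
      push_cast at e1 e2 e3
      simp only [if_true] at e1 e2 e3
      simp only [W, Int.cast_sub, mul_sub, sub_mul, Finset.sum_sub_distrib, e1, e2,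
        fun χ => mul_comm (L.Ci' i₀ χ : ℂ) (L.Ci i₀ χ : ℂ), e3]
      ring
    set S := ∑ i, c (Sum.inl i)
    have hj : ∀ j, 2 * S + c (Sum.inl j) + c (Sum.inr 0) * (-2) = 0 := fun j => by
      have h := hev fun χ => (L.Ci j χ : ℂ)
      rw [hd, zero_mul, add_zero] at h
      simp only [g1, mul_add, mul_ite, mul_one, mul_zero, Finset.sum_add_distrib,
        Finset.sum_ite_eq', Finset.mem_univ, if_true, ← Finset.sum_mul,
        fun χ : B => mul_comm (W χ.1 : ℂ) (L.Ci j χ.1 : ℂ), g2] at h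
      linear_combination h
    have hw : S * (-2) + c (Sum.inr 0) * 4 = 0 := by
      have h := hev fun χ => (W χ : ℂ)
      rw [hd, zero_mul, add_zero] at h
      simp only [g2, g3, ← Finset.sum_mul] at h
      exact h
    have hc0 : ∀ j, c (Sum.inl j) = -(2 * c (Sum.inr 0)) := fun j => by
      linear_combination hj j + hw
    have hS : S = (mm k : ℂ) * -(2 * c (Sum.inr 0)) := by
      simp only [S, hc0, Finset.sum_const, Finset.card_univ, Fintype.card_fin, nsmul_eq_mul]
    have h0 : ((4 * mm k + 4 : ℕ) : ℂ) * c (Sum.inr 0) = 0 := by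
      push_cast
      linear_combination hw + 2 * hS
    have hr0 : c (Sum.inr 0) = 0 :=
      (mul_eq_zero.1 h0).resolve_left (Nat.cast_ne_zero.2 (by omega))
    rintro (j | q)
    · rw [hc0, hr0, mul_zero, neg_zero]
    · fin_cases q
      · exact hr0
      · exact hd
  have h1 := LinearMap.finrank_range_add_finrank_ker Λ
  rw [Module.finrank_pi] at h1
  have h2 : mm k + 2 ≤ Module.finrank ℂ (LinearMap.ker Λ) := by
    have hli' : LinearIndependent ℂ fun q => (⟨v q, hker q⟩ : LinearMap.ker Λ) :=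
      LinearIndependent.of_comp (LinearMap.ker Λ).subtype hli
    simpa [Fintype.card_sum] using hli'.fintype_card_le_finrank
  have h3 : Module.finrank ℂ (LinearMap.range Λ) = blockRank 2 B := by
    rw [blockRank, Fintype.range_linearCombination,
      show (fun χ : B => pRegularPart 2 ((χ : IrrCharacter G) : G → ℂ)) =
        (fun χ : IrrCharacter G => pRegularPart 2 (χ : G → ℂ)) ∘ Subtype.val from rfl,
      Set.range_comp, Subtype.range_coe]
  rw [← Nat.card_eq_fintype_card, hcard] at h1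
  have hm := (mm_spec k).1
  omega

end CfsgLib.DihedralBlk
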