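import Cfsg.Agent.Lib.DihedralBlk.Model
import Mathlib.GroupTheory.PGroup
import Mathlib.GroupTheory.Subgroup.Centralizer
import Mathlib.FieldTheory.Finite.Basic

/-!
# A dihedral 2-subgroup and elements of odd order fixing its central involution
-/

set_option autoImplicit false

namespace CfsgLib.DihedralBlk

open DihedralGroup

variable {G : Type*} [Group G] {D : Subgroup G} {N : ℕ}

/-- The element of `G` attached to an element of the model of `D`. -/
def el (e : D ≃* DihedralGroup N) (p : DihedralGroup N) : G := (e.symm p : G)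

variable (e : D ≃* DihedralGroup N)

theorem el_mem (p : DihedralGroup N) : el e p ∈ D := (e.symm p).2

theorem el_mul (p q : DihedralGroup N) : el e (p * q) = el e p * el e q := by
  simp [el, map_mul]

theorem el_one : el e 1 = 1 := by simp [el]

theorem el_inv (p : DihedralGroup N) : el e p⁻¹ = (el e p)⁻¹ := by simp [el, map_inv]

theorem el_pow (p : DihedralGroup N) (j : ℕ) : el e (p ^ j) = el e p ^ j := by
  simp [el, map_pow]

theorem el_injective : Function.Injective (el e) := fun _ _ h =>
  e.symm.injective (Subtype.ext h)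

theorem orderOf_el (p : DihedralGroup N) : orderOf (el e p) = orderOf p := by
  rw [el, Subgroup.orderOf_coe, MulEquiv.orderOf_eq]

theorem exists_el {g : G} (hg : g ∈ D) : ∃ p, el e p = g :=
  ⟨e ⟨g, hg⟩, by simp [el]⟩

/-- The central involution. -/
def invo (e : D ≃* DihedralGroup N) : G := el e (r ((N / 2 : ℕ) : ZMod N))

variable {k : ℕ} (hN : N = 2 ^ (k + 2))

include hN

theorem half_eq : N / 2 = 2 ^ (k + 1) ∧ N = 2 * 2 ^ (k + 1) ∧ 0 < N ∧ 2 ∣ N := by
  subst hN
  refine ⟨?_, pow_succ' 2 (k + 1), Nat.two_pow_pos _, Dvd.intro_left _ (pow_succ 2 (k+1)).symm⟩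
  rw [pow_succ' 2 (k + 1)]
  omega

theorem neg_half : -((N / 2 : ℕ) : ZMod N) = ((N / 2 : ℕ) : ZMod N) := by
  obtain ⟨h1, h2, -, -⟩ := half_eq hN
  apply neg_eq_of_add_eq_zero_left
  rw [← Nat.cast_add, h1, ← two_mul, ← h2, ZMod.natCast_self]

theorem half_ne_zero : ((N / 2 : ℕ) : ZMod N) ≠ 0 := by
  obtain ⟨h1, h2, h3, -⟩ := half_eq hN
  rw [Ne, ZMod.natCast_eq_zero_iff]
  intro h
  have := Nat.le_of_dvd (by rw [h1]; exact Nat.two_pow_pos _) h
  omega

theorem orderOf_invo : orderOf (invo e) = 2 := by
  rw [invo, orderOf_el]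
  refine orderOf_eq_prime ?_ fun h => half_ne_zero hN ?_
  · rw [sq, r_mul_r, DihedralGroup.one_def]
    congr 1
    nth_rewrite 2 [← neg_half hN]
    exact add_neg_cancel _
  · rw [DihedralGroup.one_def, DihedralGroup.r.injEq] at h
    exact h

omit hN in
theorem invo_mem : invo e ∈ D := el_mem e _

theorem comm_invo {g : G} (hg : g ∈ D) : g * invo e = invo e * g := by
  obtain ⟨p, rfl⟩ := exists_el e hg
  rw [invo, ← el_mul, ← el_mul]
  congr 1
  cases p with
  | r j => rw [r_mul_r, r_mul_r, add_comm]
  | sr j =>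
    rw [sr_mul_r, r_mul_sr, sub_eq_add_neg, neg_half hN]

/-- The only rotation of order two is the central involution. -/
theorem eq_invo_of_orderOf {j : ZMod N} (h : orderOf (el e (r j)) = 2) : el e (r j) = invo e := by
  obtain ⟨h1, h2, h3, -⟩ := half_eq hN
  have : NeZero N := ⟨h3.ne'⟩
  rw [orderOf_el] at h
  have hne : r j ≠ (1 : DihedralGroup N) := fun hc => by rw [hc, orderOf_one] at h; omega
  have hsq : (r j : DihedralGroup N) ^ 2 = 1 := by rw [← h]; exact pow_orderOf_eq_one _
  rw [sq, r_mul_r, DihedralGroup.one_def, DihedralGroup.r.injEq] at hsq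
  rw [invo]
  congr 2
  refine ((ZMod.neg_eq_self_iff j).1 (neg_eq_of_add_eq_zero_left hsq)).resolve_left
    (fun hc => hne (by rw [hc]; rfl)) |> fun hv => ?_
  rw [← ZMod.natCast_zmod_val j]
  congr 1
  omega

omit hN in
theorem orderOf_sr' (j : ZMod N) : orderOf (el e (sr j)) = 2 := by
  rw [orderOf_el, DihedralGroup.orderOf_sr]

/-- The central involution is a power of every nontrivial rotation. -/
theorem invo_mem_zpowers {j : ZMod N} (hj : j ≠ 0) :
    invo e ∈ Subgroup.zpowers (el e (r j)) := by
  obtain ⟨h1, h2, h3, -⟩ := half_eq hN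
  have : NeZero N := ⟨h3.ne'⟩
  set x := el e (r j)
  have hdvd : orderOf x ∣ 2 ^ (k + 2) := by
    rw [orderOf_el, DihedralGroup.orderOf_r, ← hN]
    exact Nat.div_dvd_of_dvd (Nat.gcd_dvd_left _ _)
  obtain ⟨i, -, hi⟩ := (Nat.dvd_prime_pow Nat.prime_two).1 hdvd
  have hne : x ≠ 1 := fun hc => hj (by
    rw [← el_one e] at hc
    have := el_injective e hc
    rwa [DihedralGroup.one_def, DihedralGroup.r.injEq] at this)
  rcases i with _ | i
  · exact absurd (orderOf_eq_one_iff.1 hi) hne
  · have ho : orderOf (x ^ (2 ^ i)) = 2 := by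
      rw [orderOf_pow' x (pow_ne_zero i two_ne_zero), hi, pow_succ, Nat.gcd_eq_right (Dvd.intro _ rfl),
        Nat.mul_div_cancel_left _ (Nat.two_pow_pos i)]
    obtain ⟨l, hl⟩ : ∃ l, x ^ (2 ^ i) = el e (r l) := ⟨j * (2 ^ i : ℕ), by
      rw [← el_pow, r_pow]⟩
    rw [hl] at ho
    rw [← eq_invo_of_orderOf e hN ho, ← hl]
    exact Subgroup.pow_mem _ (Subgroup.mem_zpowers x) _

/-- An element conjugating one nontrivial rotation into another fixes the central involution. -/
theorem comm_of_conj {i j : ZMod N} (hi : i ≠ 0) {t : G}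
    (h : t * el e (r i) * t⁻¹ = el e (r j)) : t * invo e = invo e * t := by
  have : NeZero N := ⟨(half_eq hN).2.2.1.ne'⟩
  obtain ⟨l, hl⟩ := Subgroup.mem_zpowers_iff.1 (invo_mem_zpowers e hN hi)
  have h2 : t * invo e * t⁻¹ = el e (r j) ^ l := by
    rw [← hl, ← h, conj_zpow]
  obtain ⟨l', hl'⟩ : ∃ l', el e (r j) ^ l = el e (r l') := ⟨j * (l : ℤ), by
    rw [el, el, ← Subgroup.coe_zpow, ← map_zpow, r_zpow]⟩
  have h3 : orderOf (el e (r l')) = 2 := by
    rw [← hl', ← h2, ← MulAut.conj_apply, MulEquiv.orderOf_eq, orderOf_invo e hN]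
  rw [hl', eq_invo_of_orderOf e hN h3] at h2
  exact mul_inv_eq_iff_eq_mul.1 h2

/-- An element of odd order normalizing a subgroup of `D` and centralizing the central
involution centralizes the subgroup. -/
theorem mem_centralizer_of_odd {Q : Subgroup G} (hQ : Q ≤ D) {x : G}
    (hx : x ∈ Subgroup.normalizer (Q : Set G)) (hodd : Odd (orderOf x))
    (hz : x * invo e = invo e * x) : x ∈ Subgroup.centralizer (Q : Set G) := by
  obtain ⟨h1, h2, h3, -⟩ := half_eq hN
  have : NeZero N := ⟨h3.ne'⟩
  have hmem : ∀ q ∈ Q, x * q * x⁻¹ ∈ Q := fun q hq => (Subgroup.mem_normalizer_iff.1 hx q).1 hq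
  -- rotations of `Q` are fixed
  have hrot : ∀ j, el e (r j) ∈ Q → x * el e (r j) * x⁻¹ = el e (r j) := by
    intro j hj
    obtain ⟨p, hp⟩ := exists_el e (hQ (hmem _ hj))
    by_cases hj0 : j = 0
    · subst hj0
      rw [show (r 0 : DihedralGroup N) = 1 from rfl, el_one, mul_one, mul_inv_cancel]
    have hord : orderOf p = orderOf (r j : DihedralGroup N) := by
      rw [← orderOf_el e p, hp, ← MulAut.conj_apply, MulEquiv.orderOf_eq, orderOf_el]
    by_cases h2' : orderOf (el e (r j)) = 2
    · rw [eq_invo_of_orderOf e hN h2', hz, mul_inv_cancel_right]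
    rw [orderOf_el] at h2'
    cases p with
    | sr i => rw [DihedralGroup.orderOf_sr] at hord; exact absurd hord.symm h2'
    | r i =>
      have hzp : (r i : DihedralGroup N) ∈ Subgroup.zpowers (r j : DihedralGroup N) := by
        let R : Subgroup (DihedralGroup N) := Subgroup.zpowers (r 1)
        have hR : ∀ l : ZMod N, (r l : DihedralGroup N) ∈ R := fun l =>
          ⟨(l.val : ℤ), by simp⟩
        have h5 : (⟨r i, hR i⟩ : R) ∈ Subgroup.zpowers (⟨r j, hR j⟩ : R) := by
          classical
          set u : R := ⟨r j, hR j⟩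
          have hsub : (Finset.univ.filter fun a : R => a ∈ Subgroup.zpowers u) ⊆
              Finset.univ.filter fun a : R => a ^ orderOf u = 1 := by
            intro a ha
            simp only [Finset.mem_filter, Finset.mem_univ, true_and] at ha ⊢
            exact orderOf_dvd_iff_pow_eq_one.1 (orderOf_dvd_of_mem_zpowers ha)
          have heq := Finset.eq_of_subset_of_card_le hsub ((IsCyclic.card_pow_eq_one_le
            (orderOf_pos u)).trans (by rw [← Fintype.card_subtype, Fintype.card_zpowers]))
          have hy : (⟨r i, hR i⟩ : R) ∈ Finset.univ.filter fun a : R => a ^ orderOf u = 1 := by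
            simp only [Finset.mem_filter, Finset.mem_univ, true_and]
            rw [Subgroup.orderOf_mk, ← hord, ← Subgroup.orderOf_mk (r i) (hR i),
              pow_orderOf_eq_one]
          rw [← heq, Finset.mem_filter] at hy
          exact hy.2
        obtain ⟨l, hl⟩ := Subgroup.mem_zpowers_iff.1 h5
        exact Subgroup.mem_zpowers_iff.2 ⟨l, by simpa using congrArg Subtype.val hl⟩
      obtain ⟨a, ha⟩ := (mem_powers_iff_mem_zpowers.2 hzp)
      have hconj : x * el e (r j) * x⁻¹ = el e (r j) ^ a := by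
        rw [← hp, ← el_pow]
        exact congrArg (el e) ha.symm
      have hiter : ∀ m : ℕ, x ^ m * el e (r j) * (x ^ m)⁻¹ = el e (r j) ^ (a ^ m) := by
        intro m
        induction m with
        | zero => simp
        | succ m ih =>
          calc x ^ (m + 1) * el e (r j) * (x ^ (m + 1))⁻¹
              = x ^ m * (x * el e (r j) * x⁻¹) * (x ^ m)⁻¹ := by rw [pow_succ]; group
            _ = (x ^ m * el e (r j) * (x ^ m)⁻¹) ^ a := by rw [hconj, conj_pow]
            _ = el e (r j) ^ (a ^ (m + 1)) := by rw [ih, ← pow_mul, ← pow_succ]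
      have hfix := hiter (orderOf x)
      rw [pow_orderOf_eq_one, one_mul, inv_one, mul_one] at hfix
      have hmod : a ^ orderOf x ≡ 1 [MOD orderOf (el e (r j))] :=
        pow_eq_pow_iff_modEq.1 (by rw [← hfix, pow_one])
      obtain ⟨i', -, hi'⟩ := (Nat.dvd_prime_pow Nat.prime_two (m := k + 2)).1
        (show orderOf (el e (r j)) ∣ 2 ^ (k + 2) by
          rw [orderOf_el, DihedralGroup.orderOf_r, ← hN]
          exact Nat.div_dvd_of_dvd (Nat.gcd_dvd_left _ _))
      rw [hi'] at hmod
      have ha1 : a ≡ 1 [MOD 2 ^ i'] := by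
        rw [Nat.modEq_iff_dvd] at hmod ⊢
        push_cast at hmod ⊢
        have hgs : (1 : ℤ) - (a : ℤ) ^ orderOf x =
            (1 - (a : ℤ)) * ∑ l ∈ Finset.range (orderOf x), (a : ℤ) ^ l := by
          linear_combination geom_sum_mul (a : ℤ) (orderOf x)
        rcases Nat.eq_zero_or_pos i' with rfl | hi0
        · simp
        rw [hgs] at hmod
        refine (IsCoprime.dvd_of_dvd_mul_right ?_ hmod)
        apply IsCoprime.pow_left
        have ha2 : Odd (a : ℤ) := by
          rcases Int.even_or_odd (a : ℤ) with he | ho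
          · exfalso
            have h6 : (2 : ℤ) ∣ 1 - (a : ℤ) ^ orderOf x := by
              rw [hgs]; exact (dvd_pow_self (2 : ℤ) hi0.ne').trans hmod
            have h7 : (2 : ℤ) ∣ (a : ℤ) ^ orderOf x :=
              dvd_pow (even_iff_two_dvd.1 he) hodd.pos.ne'
            have := dvd_add h6 h7
            norm_num at this
          · exact ho
        have hs : Odd (∑ l ∈ Finset.range (orderOf x), (a : ℤ) ^ l) := by
          have h8 : ∀ m, Odd (∑ l ∈ Finset.range m, (a : ℤ) ^ l) ↔ Odd m := by
            intro m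
            induction m with
            | zero => simp
            | succ m ih =>
              rw [Finset.sum_range_succ, Int.odd_add, ih, Nat.odd_add_one]
              simp [Int.not_even_iff_odd.2 (ha2.pow (n := m))]
          exact (h8 _).2 hodd
        obtain ⟨c, hc⟩ := hs
        exact ⟨-c, 1, by rw [hc]; ring⟩
      rw [hconj]
      conv_rhs => rw [← pow_one (el e (r j))]
      exact pow_eq_pow_iff_modEq.2 (hi' ▸ ha1)
  rw [Subgroup.mem_centralizer_iff]
  intro q hq
  suffices h : x * q * x⁻¹ = q from (mul_inv_eq_iff_eq_mul.1 h).symm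
  obtain ⟨p, rfl⟩ := exists_el e (hQ hq)
  cases p with
  | r j => exact hrot j hq
  | sr j =>
    obtain ⟨p', hp'⟩ := exists_el e (hQ (hmem _ hq))
    cases p' with
    | r i =>
      exfalso
      have hi : el e (r i) ∈ Q := hp' ▸ hmem _ hq
      have h5 : el e (r i) = el e (sr j) := by
        have h6 := hrot i hi
        rw [← mul_right_inj x, ← mul_left_inj x⁻¹, h6, hp']
      exact absurd (el_injective e h5) (by simp)
    | sr i =>
      set c := el e (sr j) * el e (sr i) with hc
      have hcQ : c ∈ Q := Q.mul_mem hq (hp' ▸ hmem _ hq)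
      have hfix : x * c * x⁻¹ = c := by
        rw [hc, ← el_mul, sr_mul_sr] at hcQ ⊢
        exact hrot _ hcQ
      have hqc : x * el e (sr j) * x⁻¹ = el e (sr j) * c := by
        rw [hc, ← mul_assoc, ← el_mul, sr_mul_self, el_one, one_mul, hp']
      have hiter : ∀ m : ℕ, x ^ m * el e (sr j) * (x ^ m)⁻¹ = el e (sr j) * c ^ m := by
        intro m
        induction m with
        | zero => simp
        | succ m ih =>
          have hcomm : Commute (x ^ m) c :=
            Commute.pow_left (mul_inv_eq_iff_eq_mul.1 hfix : x * c = c * x) m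
          calc x ^ (m + 1) * el e (sr j) * (x ^ (m + 1))⁻¹
              = x ^ m * (x * el e (sr j) * x⁻¹) * (x ^ m)⁻¹ := by rw [pow_succ]; group
            _ = (x ^ m * el e (sr j) * (x ^ m)⁻¹) * (x ^ m * c * (x ^ m)⁻¹) := by
              rw [hqc]; group
            _ = el e (sr j) * c ^ (m + 1) := by
              rw [ih, hcomm.eq, mul_inv_cancel_right, mul_assoc, ← pow_succ]
      have hc1 := hiter (orderOf x)
      rw [pow_orderOf_eq_one, one_mul, inv_one, mul_one] at hc1
      have hco : c ^ orderOf x = 1 := mul_left_cancel (hc1.symm.trans (mul_one _).symm)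
      have hco2 : c ^ N = 1 := by
        rw [hc, ← el_mul, sr_mul_sr, ← el_pow, r_pow, ZMod.natCast_self, mul_zero]
        exact el_one e
      have hcop : (orderOf x).Coprime N := by
        rw [hN]
        exact Nat.Coprime.pow_right _ (Nat.coprime_two_right.2 hodd)
      have : c = 1 := orderOf_eq_one_iff.1 (Nat.eq_one_of_dvd_one (hcop.gcd_eq_one ▸
        Nat.dvd_gcd (orderOf_dvd_of_pow_eq_one hco) (orderOf_dvd_of_pow_eq_one hco2)))
      rw [hqc, this, mul_one]

end CfsgLib.DihedralBlk
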