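import Cfsg.Agent.Lib.DihedralBlk.Local
import Cfsg.Agent.Lib.Blk7.MajorNonvanish

/-!
# The section of the central involution
-/

set_option autoImplicit false
set_option linter.unusedSectionVars false
set_option maxHeartbeats 1000000

namespace CfsgLib.DihedralBlk

open Cfsg CfsgLib.NilBlk CfsgLib.Blocks CfsgLib.Characters CfsgLib.BrauerPairs DihedralGroup
open scoped Classical ComplexConjugate

universe u

variable {G : Type u} [Group G] [Fintype G] [Fact (Nat.Prime 2)] {M : Ideal AlgInt} [M.IsMaximal]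
  {hM : IsPModular 2 M} {B : Set (IrrCharacter G)} {k : ℕ}

namespace Loc

/-- The number of two-dimensional characters of the model. -/
def mm (k : ℕ) : ℕ := 2 ^ (k + 1) - 1

theorem mm_spec (k : ℕ) : 2 ^ (k + 1) = mm k + 1 ∧ Odd (mm k) := by
  have h : 2 ^ (k + 1) = 2 * 2 ^ k := pow_succ' 2 k
  have h2 := Nat.two_pow_pos k
  exact ⟨by rw [mm]; omega, ⟨2 ^ k - 1, by rw [mm]; omega⟩⟩

/-- The index of a two-dimensional character. -/
def ix (i : Fin (mm k)) : ZMod (2 ^ (k + 2)) := (((i : ℕ) + 1 : ℕ) : ZMod (2 ^ (k + 2)))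

/-- The index of the last reducible one. -/
def half (k : ℕ) : ZMod (2 ^ (k + 2)) := ((2 ^ (k + 1) : ℕ) : ZMod (2 ^ (k + 2)))

/-- The differences with the first reducible character. -/
noncomputable def dC (i : Fin (mm k)) : DihedralGroup (2 ^ (k + 2)) → ℂ :=
  fun p => psi (ix i) p - psi 0 p

/-- The differences with the last reducible character. -/
noncomputable def dC' (i : Fin (mm k)) : DihedralGroup (2 ^ (k + 2)) → ℂ :=
  fun p => psi (ix i) p - psi (half k) p

/-- The multiple of the delta function at the central rotation. -/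
noncomputable def delta (k : ℕ) : DihedralGroup (2 ^ (k + 2)) → ℂ :=
  fun p => if p = mid k then 2 * (2 ^ (k + 2) : ℕ) else 0

theorem isRot_sub (a c : ZMod (2 ^ (k + 2))) : IsRot (fun p => psi a p - psi c p) := by
  refine ⟨fun p q => by simp only [isClassFunction_psi a p q, isClassFunction_psi c p q],
    fun p hp => ?_⟩
  cases p with
  | sr j => simp [psi_sr] at hp
  | r j =>
    refine ⟨j, fun hj => hp ?_, rfl⟩
    rw [hj, show (r 0 : DihedralGroup (2 ^ (k + 2))) = 1 from rfl, psi_one, psi_one, sub_self]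

theorem delta_eq (k : ℕ) :
    delta k = fun p => ∑ i : Fin (mm k), (-1 : ℂ) ^ ((i : ℕ) + 1) * (dC i p + dC' i p) :=
  funext fun p =>
    ((sum_psi_eq (pow_succ' 2 (k + 1)) (mm_spec k).1 (mm_spec k).2 p).trans rfl).symm

theorem isRot_delta (k : ℕ) : IsRot (delta k) := by
  refine ⟨fun p q => ?_, fun p hp => ?_⟩
  · rw [delta_eq]
    refine Finset.sum_congr rfl fun i _ => ?_
    rw [show dC i (q * p * q⁻¹) = dC i p from (isRot_sub _ _).cf p q,
      show dC' i (q * p * q⁻¹) = dC' i p from (isRot_sub _ _).cf p q]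
  · refine ⟨half k, ?_, ?_⟩
    · rw [half, ← half_model (k := k)]
      exact half_ne_zero (N := 2 ^ (k + 2)) rfl
    · by_contra h
      exact hp (if_neg h)

theorem classInner_delta (k : ℕ) : classInner (delta k) (delta k) = 2 ^ (k + 3) := by
  have hN : ((2 ^ (k + 2) : ℕ) : ℂ) ≠ 0 := Nat.cast_ne_zero.2 (by positivity)
  rw [classInner, Finset.sum_eq_single (mid k) (fun p _ hp => by simp [delta, hp])
    (fun h => absurd (Finset.mem_univ _) h), DihedralGroup.nat_card, delta, if_pos rfl]
  push_cast at hN ⊢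
  simp only [map_mul, map_pow, map_ofNat]
  field_simp
  ring

variable (L : Loc hM B k)

/-- The value of a character at the central involution through the block of its centraliser. -/
noncomputable def V (χ : IrrCharacter G) : ℂ := L.T (delta k) χ

theorem exists_C_int (i : Fin (mm k)) (χ : IrrCharacter G) : ∃ n : ℤ, L.T (dC i) χ = n := by
  obtain ⟨a, ha⟩ := L.exists_T_nat (isCharacter_psi (ix i)) χ
  obtain ⟨c, hc⟩ := L.exists_T_nat (isCharacter_psi 0) χ
  exact ⟨a - c, by
    rw [show L.T (dC i) χ = _ from L.T_sub (isClassFunction_psi _) (isClassFunction_psi _) χ, ha, hc]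
    push_cast; ring⟩

theorem exists_C'_int (i : Fin (mm k)) (χ : IrrCharacter G) : ∃ n : ℤ, L.T (dC' i) χ = n := by
  obtain ⟨a, ha⟩ := L.exists_T_nat (isCharacter_psi (ix i)) χ
  obtain ⟨c, hc⟩ := L.exists_T_nat (isCharacter_psi (half k)) χ
  exact ⟨a - c, by
    rw [show L.T (dC' i) χ = _ from L.T_sub (isClassFunction_psi _) (isClassFunction_psi _) χ, ha,
      hc]
    push_cast; ring⟩

theorem V_eq (χ : IrrCharacter G) :
    L.V χ = ∑ i : Fin (mm k), (-1 : ℂ) ^ ((i : ℕ) + 1) * (L.T (dC i) χ + L.T (dC' i) χ) := by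
  rw [V, delta_eq, L.T_linear Finset.univ (fun i : Fin (mm k) => (-1 : ℂ) ^ ((i : ℕ) + 1))
    (fun i p => dC i p + dC' i p) (fun i p q => by
      simp only [dC, dC', isClassFunction_psi _ p q])]
  refine Finset.sum_congr rfl fun i _ => ?_
  have h := L.T_linear (Finset.univ : Finset Bool) (fun _ => 1) (fun c => if c then dC i else dC' i)
    (fun c => by cases c <;> exact (isRot_sub _ _).cf) χ
  simp only [Fintype.sum_bool, one_mul, if_true, Bool.false_eq_true, if_false] at h
  rw [h]

theorem exists_V_int (χ : IrrCharacter G) : ∃ n : ℤ, L.V χ = n := by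
  choose a ha using fun i => L.exists_C_int i χ
  choose c hc using fun i => L.exists_C'_int i χ
  refine ⟨∑ i : Fin (mm k), (-1) ^ ((i : ℕ) + 1) * (a i + c i), ?_⟩
  rw [V_eq]
  push_cast
  simp [ha, hc]

/-- The scalar of the central involution on the chosen character. -/
noncomputable def omega0 : ℂ := (L.xi : L.K → ℂ) (L.pr (mid k)) / (L.xi : L.K → ℂ) 1

theorem omega0_sq : L.omega0 = 1 ∨ L.omega0 = -1 := by
  refine mul_self_eq_one_iff.1 ?_
  rw [← sq, omega0, ← SubsectionSq.apply_central_pow L.xi L.mid_central 2, ← L.orderOf_mid,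
    pow_orderOf_eq_one, div_self (irr_one_ne_zero L.xi)]

theorem exists_sign (lam : IrrCharacter L.P) :
    ∃ s : ℤ, (s = 1 ∨ s = -1) ∧
      (lam : L.P → ℂ) (L.φ.symm (mid k)) = (s : ℂ) * (charDegree (lam : L.P → ℂ) : ℂ) := by
  set z : L.P := L.φ.symm (mid k)
  have hz : z ∈ Subgroup.center L.P := Subgroup.mem_center_iff.2 fun c => Subtype.ext
    (Subgroup.mem_center_iff.1 L.mid_central c)
  have ho : orderOf z = 2 := by
    have h := L.orderOf_mid
    rwa [pr, Subgroup.orderOf_coe] at h
  have h2 := SubsectionSq.apply_central_pow lam hz 2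
  rw [← ho, pow_orderOf_eq_one, div_self (irr_one_ne_zero lam), ho, sq] at h2
  rw [← CharCorr.irr_one_eq_charDegree]
  rcases mul_self_eq_one_iff.1 h2.symm with h | h
  · exact ⟨1, Or.inl rfl, by rw [div_eq_iff (irr_one_ne_zero lam)] at h; simpa using h⟩
  · exact ⟨-1, Or.inr rfl, by rw [div_eq_iff (irr_one_ne_zero lam)] at h; simpa using h⟩

/-- The members of the local block are the products by irreducible characters. -/
theorem exists_equiv_irr : ∃ η : IrrCharacter L.P ≃ {x : IrrCharacter L.K // x ∈ L.b},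
    ∀ lam, ((η lam : IrrCharacter L.K) : L.K → ℂ) =
      L.st (fun p => (lam : L.P → ℂ) (L.φ.symm p)) := by
  choose η hη hη2 using fun lam : IrrCharacter L.P => L.exists_st_irr lam
  refine ⟨Equiv.ofBijective (fun lam => ⟨η lam, hη lam⟩) ⟨fun a c hac => ?_, fun x => ?_⟩,
    fun lam => hη2 lam⟩
  · by_contra hne
    have h1 := classInner_starC_irr L.nil L.mem L.h0 a c
    have h2 : η a = η c := congrArg Subtype.val hac
    have e : ∀ l : IrrCharacter L.P, starC hM L.b L.P L.e' (l : L.P → ℂ) (L.xi : L.K → ℂ) =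
        (η l : L.K → ℂ) := fun l => by
      rw [hη2, st]; simp only [MulEquiv.symm_apply_apply]
    rw [e, e, h2, classInner_irr_self (η c).2,
      classInner_irr_ne a.2 c.2 (fun he => hne (Subtype.ext he))] at h1
    exact one_ne_zero h1
  · obtain ⟨lam, hlam⟩ := exists_eq_starC L.nil L.mem L.h0 x.2
    refine ⟨lam, Subtype.ext (Subtype.ext ?_)⟩
    show (η lam : L.K → ℂ) = ((x : IrrCharacter L.K) : L.K → ℂ)
    rw [hη2, hlam, st]; simp only [MulEquiv.symm_apply_apply]

/-- `V` in terms of the constituents of the restriction. -/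
theorem V_sum (χ : IrrCharacter G) (η : IrrCharacter L.P ≃ {x : IrrCharacter L.K // x ∈ L.b})
    (hη : ∀ lam, ((η lam : IrrCharacter L.K) : L.K → ℂ) =
      L.st (fun p => (lam : L.P → ℂ) (L.φ.symm p)))
    (m : IrrCharacter L.K → ℕ)
    (hm : ∀ x : IrrCharacter L.K,
      classInner (fun c : L.K => (χ : G → ℂ) c) (x : L.K → ℂ) = m x) :
    L.V χ = ∑ lam : IrrCharacter L.P,
      (lam : L.P → ℂ) (L.φ.symm (mid k)) * (m (η lam) : ℂ) := by
  have hfP := L.isClassFunction_comp (isRot_delta k).cf
  have hc : ∀ lam : IrrCharacter L.P, classInner (fun p => delta k (L.φ p)) (lam : L.P → ℂ) =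
      (lam : L.P → ℂ) (L.φ.symm (mid k)) := by
    intro lam
    rw [classInner, Finset.sum_eq_single (L.φ.symm (mid k))
      (fun p _ hp => by
        rw [delta, if_neg fun h => hp (by rw [← h, MulEquiv.symm_apply_apply]), zero_mul])
      (fun h => absurd (Finset.mem_univ _) h), Nat.card_congr L.φ.toEquiv, DihedralGroup.nat_card,
      delta, MulEquiv.apply_symm_apply, if_pos rfl]
    obtain ⟨s, -, hs⟩ := L.exists_sign lam
    rw [hs, map_mul, map_intCast, Complex.conj_natCast]
    have hN : ((2 ^ (k + 2) : ℕ) : ℂ) ≠ 0 := Nat.cast_ne_zero.2 (by positivity)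
    push_cast at hN ⊢
    field_simp
  have hexp : delta k = fun p => ∑ lam : IrrCharacter L.P,
      (lam : L.P → ℂ) (L.φ.symm (mid k)) * (lam : L.P → ℂ) (L.φ.symm p) := by
    funext p
    have h := congrFun (classFunction_eq_sum hfP) (L.φ.symm p)
    simpa [hc] using h
  rw [V]
  conv_lhs => rw [hexp]
  rw [L.T_linear Finset.univ (fun lam : IrrCharacter L.P => (lam : L.P → ℂ) (L.φ.symm (mid k)))
    (fun (lam : IrrCharacter L.P) p => (lam : L.P → ℂ) (L.φ.symm p)) (fun lam a c => by
      simp only [map_mul, map_inv]; exact irr_isClassFunction lam _ _)]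
  refine Finset.sum_congr rfl fun lam _ => ?_
  rw [T, ← hη, classInner_conj_symm, hm, Complex.conj_natCast]

/-- The part of the local block on the section of the central involution. -/
theorem blockPart_mid (χ : IrrCharacter G) {s : L.K} (hs : ¬ 2 ∣ orderOf s) :
    blockPart L.b (fun c : L.K => (χ : G → ℂ) ((L.pr (mid k) : G) * c)) s =
      L.omega0 * L.V χ * (L.xi : L.K → ℂ) s := by
  obtain ⟨η, hη⟩ := L.exists_equiv_irr
  choose m hm using fun x : IrrCharacter L.K => SubsectionSq.exists_mult_res χ x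
  rw [V_sum L χ η hη m hm, blockPart_eq_sum, Finset.sum_subtype
    (p := fun x : IrrCharacter L.K => x ∈ L.b) _ (fun x => by simp), ← η.sum_comp,
    Finset.mul_sum, Finset.sum_mul]
  refine Finset.sum_congr rfl fun lam _ => ?_
  rw [SubsectionSq.classInner_shift L.mid_central, hm]
  have hcf : IsClassFunction _ (fun p => (lam : L.P → ℂ) (L.φ.symm p)) := fun a c => by
    simp only [map_mul, map_inv]; exact irr_isClassFunction lam _ _
  have h1 := L.st_one hcf
  have h2 := L.st_mid hcf (s := 1) (by rw [orderOf_one]; decide)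
  rw [mul_one] at h2
  rw [hη, h1, h2, L.st_regular hcf hs, map_one, omega0]
  have hl := irr_one_ne_zero lam
  have hx := irr_one_ne_zero L.xi
  field_simp

theorem centraliser_eq :
    L.K = Subgroup.centralizer ({(L.pr (mid k) : G)} : Set G) := L.hK

theorem pow_mid : ∃ i : ℕ, orderOf (L.pr (mid k) : G) = 2 ^ i :=
  ⟨1, by rw [Subgroup.orderOf_coe, L.orderOf_mid, pow_one]⟩

theorem hd_eq : blockDefect 2 L.b = blockDefect 2 B := by rw [L.defb, L.defB]

theorem V_ne_zero {χ : IrrCharacter G} (hχ : χ ∈ B) : L.V χ ≠ 0 := by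
  intro h0
  have h := MajorNonvanish.blockPart_one_ne_zero hM L.pow_mid L.centraliser_eq L.ind L.hd_eq hχ
  rw [L.blockPart_mid χ (by rw [orderOf_one]; decide), h0, mul_zero, zero_mul] at h
  exact h rfl

/-- The average of the squared values on regular elements. -/
theorem regular_norm :
    (2 : ℂ) ^ (k + 3) * (Nat.card L.K : ℂ)⁻¹ *
      ∑ s ∈ Finset.univ.filter (fun s : L.K => ¬ 2 ∣ orderOf s),
        (L.xi : L.K → ℂ) s * conj ((L.xi : L.K → ℂ) s) = 1 := by
  set ρ : L.P → ℂ := fun p => if p = 1 then (2 : ℂ) ^ (k + 3) else 0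
  have hρ : IsClassFunction L.P ρ := fun p q => by simp only [ρ, conj_eq_one_iff]
  have h1 := classInner_starC L.nil hρ (f' := fun _ => (1 : ℂ)) (fun _ _ => rfl) L.mem
  rw [starC_const_one L.nil L.mem] at h1
  simp only [aVal_eq_one L.nil L.mem L.h0, map_one, mul_one] at h1
  rw [Finset.sum_eq_single (1 : L.P) (fun p _ hp => if_neg hp)
    (fun h => absurd (Finset.mem_univ _) h), Nat.card_congr L.φ.toEquiv, DihedralGroup.nat_card,
    ← pow_succ'] at h1
  simp only [ρ, if_true] at h1
  push_cast at h1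
  rw [inv_mul_cancel₀ (pow_ne_zero _ two_ne_zero)] at h1
  rw [← h1, classInner, Finset.sum_filter, mul_assoc, Finset.mul_sum, Finset.mul_sum,
    Finset.mul_sum]
  refine Finset.sum_congr rfl fun s _ => ?_
  by_cases hs : 2 ∣ orderOf s
  · rw [if_neg (not_not.2 hs), starC_eq_zero_of_singular L.nil hρ (fun p hp => if_neg hp) L.mem hs]
    ring
  · rw [if_pos hs, starC_regular L.nil hρ L.mem hs]
    simp only [ρ, if_true]
    ring

theorem subContrib_mid (χ : IrrCharacter G) :
    SubsectionSq.subContrib 2 (k + 3) L.K L.b (L.pr (mid k) : G) χ χ = L.V χ * L.V χ := by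
  obtain ⟨n, hn⟩ := L.exists_V_int χ
  have hω : L.omega0 * conj L.omega0 = 1 := by
    rcases L.omega0_sq with h | h <;> simp [h]
  rw [SubsectionSq.subContrib, Finset.sum_congr rfl fun s hs => by
    rw [L.blockPart_mid χ (Finset.mem_filter.1 hs).2]]
  have h := L.regular_norm
  rw [Finset.mul_sum] at h ⊢
  rw [show L.V χ * L.V χ = L.V χ * L.V χ * 1 from (mul_one _).symm]
  conv_rhs => rw [← h]
  rw [Finset.mul_sum]
  refine Finset.sum_congr rfl fun s _ => ?_
  simp only [map_mul, hn, map_intCast, Nat.cast_ofNat]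
  linear_combination ((2 : ℂ) ^ (k + 3) * (Nat.card L.K : ℂ)⁻¹ * (n : ℂ) * n *
    ((L.xi : L.K → ℂ) s * conj ((L.xi : L.K → ℂ) s))) * hω

theorem sum_sq_all : ∑ χ : IrrCharacter G, L.V χ * L.V χ = (2 : ℂ) ^ (k + 3) := by
  rw [← classInner_delta, ← L.sum_T_mul (isRot_delta k) (isRot_delta k)]
  refine Finset.sum_congr rfl fun χ _ => ?_
  obtain ⟨n, hn⟩ := L.exists_V_int χ
  rw [show L.T (delta k) χ = _ from hn, map_intCast, hn]

/-- The members of the block are the characters with `V` nonzero. -/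
theorem mem_iff (χ : IrrCharacter G) : χ ∈ B ↔ L.V χ ≠ 0 := by
  refine ⟨L.V_ne_zero, fun hne => ?_⟩
  by_contra hχ
  choose n hn using L.exists_V_int
  have h1 := SubsectionTrace.sum_diag hM (k + 3) L.pow_mid L.centraliser_eq L.ind
  simp only [L.subContrib_mid, L.rank, Nat.cast_one, mul_one, Nat.cast_ofNat] at h1
  have h2 := L.sum_sq_all
  rw [← h1] at h2
  simp only [hn, ← Int.cast_mul, ← Int.cast_sum, Int.cast_inj] at h2
  have h3 : ∑ φ ∈ (Finset.univ.filter (· ∈ B))ᶜ, n φ * n φ = 0 := by
    rw [← Finset.sum_compl_add_sum (Finset.univ.filter (· ∈ B))] at h2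
    linarith
  have h4 := (Finset.sum_eq_zero_iff_of_nonneg fun φ _ => mul_self_nonneg (n φ)).1 h3 χ
    (by simp [hχ])
  exact hne (by rw [hn, mul_self_eq_zero.1 h4, Int.cast_zero])

/-- At a character of height zero `V` is odd. -/
theorem V_odd {χ : IrrCharacter G} (hχ : χ ∈ B) (h0 : ¬ 2 ∣ Contribution.red 2 B χ)
    {n : ℤ} (hn : L.V χ = n) : Odd n := by
  obtain ⟨η, hη⟩ := L.exists_equiv_irr
  choose m hm using fun x : IrrCharacter L.K => SubsectionSq.exists_mult_res χ x
  choose s hs1 hs using fun lam : IrrCharacter L.P => L.exists_sign lam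
  obtain ⟨hQ, hQp, hKQ⟩ := MajorNonvanish.cz_data hM L.pow_mid L.centraliser_eq
  have hT := SubsectionSq.not_dvd_resDegree hM hQp hQ hKQ L.ind L.hd_eq hχ h0 m hm
  have hred : ∀ lam, Contribution.red 2 L.b (η lam : IrrCharacter L.K) =
      charDegree (lam : L.P → ℂ) * Contribution.red 2 L.b L.xi := by
    intro lam
    have hcf : IsClassFunction _ (fun p => (lam : L.P → ℂ) (L.φ.symm p)) := fun a c => by
      simp only [map_mul, map_inv]; exact irr_isClassFunction lam _ _
    have h1 := L.st_one hcf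
    rw [← hη, map_one, Contribution.apply_one_red (p := 2) (η lam).2,
      Contribution.apply_one_red (p := 2) L.mem, CharCorr.irr_one_eq_charDegree] at h1
    push_cast at h1
    rw [mul_left_comm, mul_right_inj' (pow_ne_zero _ two_ne_zero), ← Nat.cast_mul, Nat.cast_inj] at h1
    exact h1
  rw [Finset.sum_subtype (p := fun x : IrrCharacter L.K => x ∈ L.b) _ (fun x => by simp),
    ← η.sum_comp] at hT
  simp only [hred, ← mul_assoc, ← Finset.sum_mul] at hT
  set S : ℕ := ∑ lam : IrrCharacter L.P, m (η lam) * charDegree (lam : L.P → ℂ)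
  have hS : ¬ 2 ∣ S := fun h => hT (h.mul_right _)
  have hn2 : n = ∑ lam : IrrCharacter L.P,
      s lam * ((m (η lam) : ℤ) * charDegree (lam : L.P → ℂ)) := by
    rw [← Int.cast_inj (α := ℂ), ← hn, V_sum L χ η hη m hm]
    push_cast
    exact Finset.sum_congr rfl fun lam _ => by rw [hs lam]; ring
  have hdiff : Even (n - (S : ℤ)) := by
    rw [hn2, Nat.cast_sum, ← Finset.sum_sub_distrib]
    refine Finset.sum_induction _ Even (fun _ _ => Even.add) Even.zero fun lam _ => ?_
    rcases hs1 lam with h | h <;> rw [h] <;> push_cast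
    · simp
    · exact ⟨-((m (η lam) : ℤ) * charDegree (lam : L.P → ℂ)), by ring⟩
  have hSo : Odd (S : ℤ) := (Int.odd_coe_nat S).2 (Nat.odd_iff.2 (by omega))
  have := hdiff.add_odd hSo
  rwa [sub_add_cancel] at this

end Loc

end CfsgLib.DihedralBlk
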