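import Cfsg.Agent.Lib.DihedralBlk.Local
import Cfsg.Agent.Lib.Blocks.CyclicNilpotent
import Cfsg.Agent.Lib.BlockCover.DefectGroup
import Cfsg.Agent.S4689

/-!
# The local data of a block with dihedral defect group
-/

set_option autoImplicit false
set_option linter.unusedSectionVars false

namespace CfsgLib.DihedralBlk

open Cfsg CfsgLib.NilBlk CfsgLib.Blocks CfsgLib.BrauerPairs DihedralGroup
open scoped Classical

universe u

variable {G : Type u} [Group G] [Fintype G] [Fact (Nat.Prime 2)]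
  {M : Ideal AlgInt} [M.IsMaximal]

/-- A block of a group with a dihedral defect group centralising the odd order fusion is
nilpotent. -/
theorem nilpotent_of_central (hM : IsPModular 2 M) {b : Set (IrrCharacter G)}
    (hb : IsPBlock M b) {D : Subgroup G} (hD : IsDefectGroup 2 M b D) {k : ℕ}
    (e : D ≃* DihedralGroup (2 ^ (k + 2))) (hz : invo e ∈ Subgroup.center G) :
    IsNilpotentBlock 2 M b := by
  have := charP_res hM
  refine ⟨hb, fun Q f hQf x hxN _ hxreg => ?_⟩
  obtain ⟨hf, -, hO⟩ := (isBrauerPairOf_iff hM b Q f).1 hQf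
  have hne : brMap (ResK M) Q (eG hM b) ≠ 0 := fun h0 => hO.block.ne_zero (by
    rw [← hO.cover, h0, zero_mul])
  obtain ⟨D', hD', hQD'⟩ := exists_defectGroup_ge hM hb hO.pgroup hne
  obtain ⟨t, rfl⟩ := BlockCover.defectGroup_conjugate hM hb hD hD'
  have hQ' : Q.map (MulAut.conj t⁻¹).toMonoidHom ≤ D := by
    rintro _ ⟨q, hq, rfl⟩
    obtain ⟨d, hd, rfl⟩ := hQD' hq
    simpa [MulAut.conj_apply, mul_assoc] using hd
  set x' := MulAut.conj t⁻¹ x
  have hx'N : x' ∈ Subgroup.normalizer ((Q.map (MulAut.conj t⁻¹).toMonoidHom : Subgroup G) : Set G) := by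
    rw [Subgroup.mem_normalizer_iff]
    intro y
    rw [Subgroup.mem_map_equiv, Subgroup.mem_map_equiv]
    have h1 := Subgroup.mem_normalizer_iff.1 hxN ((MulAut.conj t⁻¹).symm y)
    rw [h1]
    simp [x', MulAut.conj_apply, mul_assoc]
  have hodd : Odd (orderOf x') := by
    rw [MulEquiv.orderOf_eq, Nat.odd_iff]
    have : ¬ 2 ∣ orderOf x := hxreg
    omega
  have hc := mem_centralizer_of_odd e rfl hQ' hx'N hodd (Subgroup.mem_center_iff.1 hz x')
  rw [Subgroup.mem_centralizer_iff] at hc ⊢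
  intro q hq
  have h2 := hc (MulAut.conj t⁻¹ q) ⟨q, hq, rfl⟩
  rw [← map_mul, ← map_mul] at h2
  exact (MulAut.conj t⁻¹).injective h2

/-- The local data, with its central involution. -/
theorem exists_loc_mid (hM : IsPModular 2 M) {B : Set (IrrCharacter G)} (hB : IsPBlock M B)
    {D : Subgroup G} (hD : IsDefectGroup 2 M B D) {k : ℕ}
    (e : D ≃* DihedralGroup (2 ^ (k + 2))) :
    ∃ L : Loc hM B k, (L.pr (Loc.mid k) : G) = invo e := by
  have := charP_res hM
  have hEb := isBlockIdem_eG hM hB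
  have hD0 := (isDefectGroup_iff hM hB D).1 hD
  have hDc : Nat.card D = 2 ^ (k + 3) := by
    rw [Nat.card_congr e.toEquiv, DihedralGroup.nat_card, ← pow_succ']
  have hdB : blockDefect 2 B = k + 3 :=
    Nat.pow_right_injective le_rfl ((BlockCover.natCard_defect hM hB hD).symm.trans hDc)
  obtain ⟨e0, he0, hcov0⟩ := exists_block_le (hasBlocks hM) (brMap_mem_suppAlg D (eG hM B))
    (brMap_mem_fixAlg (cz_le_normalizer D) (fixAlg_anti le_top hEb.fixed))
    (by rw [← brMap_mul hD0.pgroup (fixAlg_anti le_top hEb.fixed) (fixAlg_anti le_top hEb.fixed),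
      hEb.idem]) hD0.br_ne
  set Q := Subgroup.zpowers (invo e)
  set K := Subgroup.centralizer ({invo e} : Set G) with hKdef
  have hK : K = cz Q := CyclicDefectBound.centralizer_singleton_eq _
  have hQD : Q ≤ D := Subgroup.zpowers_le.2 (invo_mem e)
  have hPH : D ≤ cz Q := hK ▸ fun w hw => Subgroup.mem_centralizer_singleton_iff.2
    (comm_invo e rfl hw)
  have hQp : IsPGroup 2 Q := hD0.pgroup.to_le hQD
  have hQc : Q ≤ cz Q := hQD.trans hPH
  obtain ⟨a, ha, hale⟩ := exists_pairLE (p := 2) (hasBlocks hM) hQD hD0.pgroup he0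
  rw [← hK] at ha
  obtain ⟨b, hb, rfl⟩ := exists_eA_eq hM ha
  have hQB : brMap (ResK M) Q (eG hM B) * eA hM K b = eA hM K b :=
    (brMap_cover_iff hale hEb.fixed hEb.idem).2 hcov0
  have hS : BrSetup 2 Q (eA hM K b) K :=
    ⟨hQp, hK ▸ isBlockIdem_eA hM hb, hK ▸ cz_le_normalizer Q, hK.ge, hK ▸ hQc,
      (isBlockIdem_eA hM hb).fixed⟩
  have hstep : brMap (ResK M) D (eA hM K b) * e0 = e0 := by
    obtain ⟨g, hg⟩ := exists_normalSub (p := 2) (hasBlocks hM) hQD
      (hPH.trans (cz_le_normalizer Q)) hD0.pgroup he0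
    have : g = eA hM K b := pairLE_unique (hasBlocks hM) (b := (D, e0)) he0 hD0.pgroup
      (Relation.ReflTransGen.single hg) hale
    exact this ▸ hg.cover
  have hO : OverPair 2 Q (eA hM K b) K D e0 := ⟨hD0.pgroup, hQD, hK ▸ hPH, he0, hstep⟩
  have hDK : D ≤ K := hK ▸ hPH
  have hDQ : IsDefect 2 Q (eA hM K b) K D :=
    isDefect_local hM hB hS hQB hD0 hDK (hS.brMap_ne_zero hO)
  have hP : IsDefectGroup 2 M b (D.subgroupOf K) := by
    rw [isDefectGroup_stabilizer_iff hM hS hb rfl, Subgroup.map_subgroupOf_eq_of_le hDK]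
    exact hDQ
  set φ : D.subgroupOf K ≃* DihedralGroup (2 ^ (k + 2)) :=
    (Subgroup.subgroupOfEquivOfLe hDK).trans e
  have hind : IsInducedBlock M K b B :=
    CyclicDefectBound.induced_of_cover hM hQp hQc hK hB hb hQB
  have hdb : blockDefect 2 b = k + 3 := by
    refine Nat.pow_right_injective le_rfl ?_
    show 2 ^ blockDefect 2 b = 2 ^ (k + 3)
    rw [← BlockCover.natCard_defect hM hb hP,
      Nat.card_congr (Subgroup.subgroupOfEquivOfLe hDK).toEquiv, hDc]
  have hcoe : ∀ p, (((φ.symm p : D.subgroupOf K) : K) : G) = el e p := fun p => rfl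
  have hzc : invo φ ∈ Subgroup.center K := Subgroup.mem_center_iff.2 fun c => Subtype.ext (by
    show (c : G) * _ = _ * (c : G)
    rw [show ((invo φ : K) : G) = invo e from hcoe _]
    exact Subgroup.mem_centralizer_singleton_iff.1 c.2)
  have hnil := nilpotent_of_central hM hb hP φ hzc
  obtain ⟨e', he'⟩ := exists_maximalPair hM hb hP
  obtain ⟨ξ, hξ, -, hmin⟩ := Contribution.exists_height_zero hM hb
  refine ⟨⟨K, b, D.subgroupOf K, e', ξ, φ, nilCtx_of_nilpotent hM hnil he', hξ, ?_, ?_, hind,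
    hdB, hdb, (Cfsg.Agent.S4689.result 2 M hM b hnil).1, hP⟩, ?_⟩
  · rw [blockHeight, hmin]; exact Nat.sub_self _
  · refine hKdef.trans ?_
    congr 2
    rw [hcoe, invo, Loc.half_model]
  · show (((φ.symm (Loc.mid k) : D.subgroupOf K) : K) : G) = invo e
    rw [hcoe, invo, Loc.half_model]
    rfl

/-- The local data. -/
theorem exists_loc (hM : IsPModular 2 M) {B : Set (IrrCharacter G)} (hB : IsPBlock M B)
    {D : Subgroup G} (hD : IsDefectGroup 2 M B D) {k : ℕ}
    (e : D ≃* DihedralGroup (2 ^ (k + 2))) : Nonempty (Loc hM B k) :=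
  let ⟨L, _⟩ := exists_loc_mid hM hB hD e
  ⟨L⟩

end CfsgLib.DihedralBlk
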