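import Cfsg.Agent.Lib.DihedralBlk.Center
import Cfsg.Agent.Lib.DihedralBlk.OverClasses
import Cfsg.Agent.Lib.OneSection.Main
import Cfsg.Agent.Lib.Blocks.SingleBlock
import Cfsg.Agent.Lib.PCore.PSolvable

/-!
# Tame blocks of solvable groups have rank at most two
-/

set_option autoImplicit false
set_option linter.unusedSectionVars false
set_option linter.style.haveILetI false
set_option maxHeartbeats 1000000

namespace CfsgLib.DihedralBlk

open Cfsg CfsgLib.Characters CfsgLib.Blocks CfsgLib.Blk7 CfsgLib.TwoGroups.SD CfsgLib.CharCorr DihedralGroup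
open scoped Classical

universe u

/-- Dihedral of order at least eight or semidihedral. -/
def Tame (D : Type*) [Group D] : Prop :=
  (∃ k : ℕ, Nonempty (D ≃* DihedralGroup (2 ^ (k + 2)))) ∨ IsQuasiDihedral D

theorem quasi_equiv {S S' : Type*} [Group S] [Group S'] (e : S ≃* S') (h : IsQuasiDihedral S) :
    IsQuasiDihedral S' := by
  obtain ⟨n, hn, hc, x, y, hx, hy, hr⟩ := h
  exact ⟨n, hn, by rw [← Nat.card_congr e.toEquiv, hc], e x, e y, by rw [e.orderOf_eq, hx],
    by rw [e.orderOf_eq, hy], by rw [← map_inv, ← map_mul, ← map_mul, hr, map_pow]⟩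

theorem tame_equiv {S S' : Type*} [Group S] [Group S'] (e : S ≃* S') (h : Tame S) : Tame S' := by
  rcases h with ⟨k, ⟨f⟩⟩ | h
  · exact Or.inl ⟨k, ⟨e.symm.trans f⟩⟩
  · exact Or.inr (quasi_equiv e h)

variable {G : Type u} [Group G] [Fintype G] [Fact (Nat.Prime 2)] {M : Ideal AlgInt} [M.IsMaximal]

/-- The invariant case, dihedral: some reflection is outside the class of the central involution. -/
theorem exists_reflection {X : Type*} [Group X] {D : Subgroup G} {k : ℕ}
    (e : D ≃* DihedralGroup (2 ^ (k + 2))) (π : G →* X) (hinj : ∀ d ∈ D, π d = 1 → d = 1)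
    (P : Subgroup X) [P.Normal] (hP : P ≤ D.map π) (hne : P ≠ ⊥) :
    ∃ j, ∀ w : G, w * el e (sr j) * w⁻¹ ≠ invo e := by
  by_contra hcon
  push Not at hcon
  set Q : Subgroup G := D ⊓ P.comap π
  have hQn : ∀ d ∈ D, ∀ q ∈ Q, d * q * d⁻¹ ∈ Q := fun d hd q hq =>
    ⟨D.mul_mem (D.mul_mem hd hq.1) (D.inv_mem hd), by
      show π (d * q * d⁻¹) ∈ P
      rw [map_mul, map_mul, map_inv]
      exact (inferInstance : P.Normal).conj_mem (π q) hq.2 (π d)⟩
  have hrot : ∀ i, i ≠ 0 → el e (r i) ∈ Q → invo e ∈ Q := fun i hi h =>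
    (Subgroup.zpowers_le.2 h) (invo_mem_zpowers e rfl hi)
  have hz : invo e ∈ Q := by
    obtain ⟨p, hp, hp1⟩ := P.bot_or_exists_ne_one.resolve_left hne
    obtain ⟨d, hd, rfl⟩ := hP hp
    obtain ⟨q, rfl⟩ := exists_el e hd
    have hq : el e q ∈ Q := ⟨hd, hp⟩
    cases q with
    | r i =>
      refine hrot i (fun h => hp1 ?_) hq
      rw [h, show (r 0 : DihedralGroup (2 ^ (k + 2))) = 1 from rfl, el_one, map_one]
    | sr i =>
      refine hrot (-2) ?_ (show el e (r (-2)) ∈ Q from ?_)
      · rw [neg_ne_zero, show (2 : ZMod (2 ^ (k + 2))) = ((2 : ℕ) : ZMod (2 ^ (k + 2))) by norm_num,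
          Ne, ZMod.natCast_eq_zero_iff]
        intro h
        have h2 := Nat.le_of_dvd two_pos h
        have : 4 ≤ 2 ^ (k + 2) := Nat.pow_le_pow_right two_pos (show 2 ≤ k + 2 by omega)
        omega
      · have h1 := Q.mul_mem hq (hQn _ (el_mem e (r 1)) _ hq)
        rw [← el_inv, ← el_mul, ← el_mul, ← el_mul] at h1
        convert h1 using 2
        simp only [inv_r, r_mul_sr, sr_mul_r, sr_mul_sr]
        ring_nf
  have hsr : ∀ j, el e (sr j) ∈ Q := fun j => by
    obtain ⟨w, hw⟩ := hcon j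
    refine ⟨el_mem e _, ?_⟩
    show π (el e (sr j)) ∈ P
    rw [show el e (sr j) = w⁻¹ * invo e * w by rw [← hw]; group, map_mul, map_mul, map_inv]
    exact (inferInstance : P.Normal).conj_mem' (π (invo e)) hz.2 (π w)
  have hall : ∀ d ∈ D, π d ∈ P := fun d hd => by
    obtain ⟨q, rfl⟩ := exists_el e hd
    cases q with
    | r i =>
      rw [show (r i : DihedralGroup (2 ^ (k + 2))) = sr 0 * sr i by rw [sr_mul_sr, sub_zero], el_mul,
        map_mul]
      exact P.mul_mem (hsr 0).2 (hsr i).2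
    | sr i => exact (hsr i).2
  obtain ⟨w, hw⟩ := hcon 0
  set s := el e (sr 0)
  obtain ⟨d, hd, hd'⟩ := hP ((inferInstance : P.Normal).conj_mem _ (hall _ (el_mem e (r 1))) (π w))
  have hc : Commute (π s) (π (el e (r 1))) := by
    have h1 : Commute (π (invo e)) (π d) :=
      ((show Commute d (invo e) from comm_invo e rfl hd).symm).map π
    rw [hd', show invo e = w * s * w⁻¹ from hw.symm, map_mul, map_mul, map_inv] at h1
    rw [← MulAut.conj_apply, ← MulAut.conj_apply] at h1
    have h2 := h1.map (MulAut.conj (π w)).symm.toMonoidHom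
    simpa [mul_assoc] using h2
  rw [Commute, SemiconjBy, ← map_mul, ← map_mul, ← el_mul, ← el_mul] at hc
  have h3 : el e (sr 0 * r 1) = el e (r 1 * sr 0) := by
    have := hinj _ (D.mul_mem (el_mem e (sr 0 * r 1)) (D.inv_mem (el_mem e (r 1 * sr 0)))) (by
      rw [map_mul, map_inv, hc, mul_inv_cancel])
    exact mul_inv_eq_one.1 this
  have h4 := el_injective e h3
  rw [sr_mul_r, r_mul_sr, sr.injEq, zero_add, zero_sub, eq_neg_iff_add_eq_zero,
    show (1 : ZMod (2 ^ (k + 2))) + 1 = ((2 : ℕ) : ZMod (2 ^ (k + 2))) by norm_num,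
    ZMod.natCast_eq_zero_iff] at h4
  have h5 := Nat.le_of_dvd two_pos h4
  have : 4 ≤ 2 ^ (k + 2) := Nat.pow_le_pow_right two_pos (show 2 ≤ k + 2 by omega)
  omega

/-- The invariant case, semidihedral: the central involution is central modulo the kernel. -/
theorem map_central {X : Type*} [Group X] {D : Subgroup G} {r' : ℕ} {x y : D} (h : SD D r' x y)
    (π : G →* X) (hinj : ∀ d ∈ D, π d = 1 → d = 1) (P : Subgroup X) [P.Normal]
    (hP : P ≤ D.map π) (hne : P ≠ ⊥) :
    π (x ^ (4 * r' : ℤ) : D) ∈ Subgroup.center X ∧ π (x ^ (4 * r' : ℤ) : D) ∈ P ∧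
      orderOf (π (x ^ (4 * r' : ℤ) : D)) = 2 := by
  set φ : D →* X := π.comp D.subtype
  have hφ : Function.Injective φ := by
    rw [injective_iff_map_eq_one]
    exact fun d hd => Subtype.ext (hinj d d.2 hd)
  have hr := r_pos h
  set z := x ^ (4 * r' : ℤ)
  have hoz : orderOf z = 2 := (orderOf_zpow_eq_two h).2 rfl
  set Q : Subgroup D := P.comap φ
  haveI : Q.Normal := inferInstance
  have hsub : ∀ p ∈ P, ∃ q ∈ Q, φ q = p := fun p hp => by
    obtain ⟨d, hd, rfl⟩ := hP hp
    exact ⟨⟨d, hd⟩, hp, rfl⟩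
  have hstep : ∀ a : ℤ, x ^ a * y ∈ Q → x ^ (2 - 4 * r' : ℤ) ∈ Q := fun a ha => by
    have h1 := Q.mul_mem (Subgroup.Normal.conj_mem inferInstance _ ha (x ^ (1 : ℤ))) (Q.inv_mem ha)
    rw [conj_pow h, one_mul, mul_inv_rev, ← mul_assoc, mul_inv_cancel_right, ← zpow_neg,
      ← zpow_add] at h1
    convert h1 using 2
    ring
  have hzQ : z ∈ Q := by
    obtain ⟨p, hp, hp1⟩ := P.bot_or_exists_ne_one.resolve_left hne
    obtain ⟨q, hq, rfl⟩ := hsub p hp
    have hpow : ∀ i : ℤ, x ^ i ∈ Q → x ^ i ≠ 1 → z ∈ Q := by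
      intro i hi hi1
      obtain ⟨a, -, ha⟩ : ∃ a ≤ (Nat.card D).factorization 2, orderOf (x ^ i) = 2 ^ a := by
        obtain ⟨a, ha⟩ := IsPGroup.iff_orderOf.1 (TwoGroups.SD.isPGroup h) (x ^ i)
        exact ⟨a, (Nat.prime_two.pow_dvd_iff_le_factorization Nat.card_pos.ne').1
          (ha ▸ orderOf_dvd_natCard _), ha⟩
      rcases a with _ | a
      · exact absurd (orderOf_eq_one_iff.1 ha) hi1
      have ho : orderOf (x ^ (i * (2 ^ a : ℕ))) = 2 := by
        rw [zpow_mul, zpow_natCast, orderOf_pow' _ (pow_ne_zero a two_ne_zero), ha, pow_succ,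
          Nat.gcd_eq_right (Dvd.intro _ rfl), Nat.mul_div_cancel_left _ (Nat.two_pow_pos a)]
      show x ^ (4 * r' : ℤ) ∈ Q
      rw [← (orderOf_zpow_eq_two h).1 ho, zpow_mul]
      exact Q.zpow_mem hi _
    obtain ⟨i, rfl | rfl⟩ := h.gen q
    · exact hpow i hq fun h1 => hp1 (by rw [h1, map_one])
    · refine hpow _ (hstep i hq) fun h1 => ?_
      rw [zpow_x_eq_one h] at h1
      obtain ⟨c, hc⟩ := h1
      have : (2 : ℤ) ∣ 1 := ⟨r' * (2 * c + 1), by linarith⟩
      omega
  refine ⟨Subgroup.mem_center_iff.2 fun g => ?_, hzQ, by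
    rw [show π (z : G) = φ z from rfl, orderOf_injective φ hφ, hoz]⟩
  obtain ⟨q, hq, hqe⟩ := hsub _ ((inferInstance : P.Normal).conj_mem (φ z) hzQ g)
  have hoq : orderOf q = 2 := by
    rw [← orderOf_injective φ hφ, hqe, ← MulAut.conj_apply, MulEquiv.orderOf_eq,
      orderOf_injective φ hφ, hoz]
  have hqz : q = z := by
    rcases involution_cases h hoq with h1 | ⟨a, -, rfl⟩
    · exact h1
    exfalso
    have hu := hstep a hq
    obtain ⟨u, -, hue⟩ := hsub _ ((inferInstance : P.Normal).conj_mem' (φ (x ^ (2 - 4 * r' : ℤ))) hu g)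
    have hc : Commute z u := (Subgroup.mem_center_iff.1 (by
      rw [center_eq h]; exact Subgroup.mem_zpowers _) u).symm
    have h2 := (hc.map φ).map (MulAut.conj g).toMonoidHom
    rw [hue] at h2
    simp only [MulEquiv.coe_toMonoidHom, MulAut.conj_apply, ← hqe] at h2
    rw [show g * (g⁻¹ * φ (x ^ (2 - 4 * r' : ℤ)) * g) * g⁻¹ = φ (x ^ (2 - 4 * r' : ℤ)) by group,
      Commute, SemiconjBy, ← map_mul, ← map_mul] at h2
    obtain ⟨c, hc'⟩ := (commute_pow_xy h).1 (hφ h2).symm
    have : (2 : ℤ) ∣ 1 := ⟨r' * (c + 1), by linarith⟩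
    omega
  rw [hqz] at hqe
  exact mul_inv_eq_iff_eq_mul.1 hqe.symm

/-- A quotient with semidihedral Sylow subgroup, central involution and trivial odd core has at most
two regular classes. -/
theorem classes_le_two {X : Type u} [Group X] [Fintype X] (hM : IsPModular 2 M)
    (hs : IsPSolvable 2 X) (h0 : pPrimeCore 2 X = ⊥) (S : Sylow 2 X) (hS : IsQuasiDihedral S)
    {t : X} (htc : t ∈ Subgroup.center X) (hto : orderOf t = 2) :
    Nat.card {c : ConjClasses X // ¬ 2 ∣ orderOf c.out} ≤ 2 := by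
  refine (classes_le_rank 2).trans ?_
  rw [← CfsgLib.SingleBlock.principalBlock_eq_univ hM (pCore 2 X) CfsgLib.PCore.pCore_isPGroup
    (CfsgLib.PCore.centralizer_pCore_le hs h0)]
  have hB : IsPBlock M (principalBlock M X) := isPBlock_principalBlock M
  obtain ⟨E, hE⟩ := BrauerPairs.exists_defectGroup hM hB
  have hcard : Nat.card E = 2 ^ (Nat.card X).factorization 2 := by
    rw [BlockCover.natCard_defect hM hB hE, OneSection.blockDefect_principal hM]
  set R := Sylow.ofCard E hcard
  obtain ⟨ρ, x, y, hsd⟩ := exists_sd (quasi_equiv (Sylow.equiv S R) hS)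
  haveI : (Subgroup.zpowers t).Normal := ⟨fun n hn g => by
    rwa [Subgroup.mem_center_iff.1 ((Subgroup.zpowers_le.2 htc) hn) g, mul_inv_cancel_right]⟩
  have htp : IsPGroup 2 (Subgroup.zpowers t) :=
    IsPGroup.of_card (n := 1) (by rw [Nat.card_zpowers, hto, pow_one])
  exact rank_le_two_of_central hM hB hE hsd htc
    ((normal_le_defect hM hB htp hE) (Subgroup.mem_zpowers t)) hto

theorem rank_le_two_of_solvable_aux (hM : IsPModular 2 M) :
    ∀ (n : ℕ) (G : Type u) [Group G] [Fintype G], Nat.card G < n → Group.IsSolvable G →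
      ∀ (B : Set (IrrCharacter G)), IsPBlock M B →
        ∀ D : Subgroup G, IsDefectGroup 2 M B D → Tame D → blockRank 2 B ≤ 2 := by
  intro n
  induction n with
  | zero => intro G _ _ h; omega
  | succ n ih =>
    intro G _ _ hcardG hsol B hB D hD ht
    obtain ⟨χ, hχ⟩ := IsPBlock.nonempty hM hB
    have hsolv : IsPSolvable 2 G := CfsgLib.PCore.isPSolvable_of_isSolvable
    set K := pPrimeCore 2 G with hK
    haveI : Fintype K := Fintype.ofFinite _
    have hKp : ¬ 2 ∣ Nat.card K := CfsgLib.PCore.not_dvd_card_pPrimeCore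
    obtain ⟨θ, hθ⟩ := BlockCover.exists_constituent K χ
    set b : Set (IrrCharacter K) := {θ} with hbdef
    have hb : IsPBlock M b := WeightedSum.isPBlock_singleton hM hKp θ
    set T : Subgroup G :=
      { carrier := {g | conjIrr K g θ = θ}
        one_mem' := BlockCover.conjIrr_one K θ
        mul_mem' := fun {a c} ha hc => by
          show conjIrr K (a * c) θ = θ
          rw [← BlockCover.conjIrr_comp, ha, hc]
        inv_mem' := fun {a} ha => by
          show conjIrr K a⁻¹ θ = θ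
          conv_lhs => rw [← ha, BlockCover.conjIrr_comp, mul_inv_cancel, BlockCover.conjIrr_one] }
      with hTdef
    have hT : ∀ g : G, g ∈ T ↔ ∀ θ' ∈ b, conjIrr K g θ' ∈ b := fun g => by
      simp [b, T]
    haveI : Fintype T := Fintype.ofFinite _
    have hKT : K ≤ T := fun k hk => by
      show conjIrr K k θ = θ
      refine Subtype.ext (funext fun m => ?_)
      rw [conjIrr_apply]
      exact (congrArg (θ : K → ℂ) (Subtype.ext (by simp))).trans (irr_isClassFunction θ m ⟨k, hk⟩)
    by_cases htop : T = ⊤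
    · have hinv : ∀ (g : G) (m : K),
          (θ : K → ℂ) ⟨g * m * g⁻¹, (inferInstance : K.Normal).conj_mem m m.2 g⟩ = (θ : K → ℂ) m := by
        intro g m
        have h1 : conjIrr K g θ = θ :=
          show g ∈ T from htop.ge (Subgroup.mem_top g)
        conv_rhs => rw [← h1, conjIrr_apply]
      have hsub : B ⊆ BlockOver.overSet K θ := fun ψ hψ =>
        constituent_of_sameBlock hM hKp ((IsPBlock.mem_iff hM hB hχ ψ).1 hψ) θ hθ
      have hfull := CfsgLib.Fong.blockDefect_eq K hM hsolv hK θ hinv hB fun ψ hψ m =>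
        CfsgLib.Fong.restrict_eq K θ.2 hinv (hsub hψ) m
      have hcard : Nat.card D = 2 ^ (Nat.card G).factorization 2 := by
        rw [BlockCover.natCard_defect hM hB hD, hfull]
      set π := QuotientGroup.mk' K
      have hπs : Function.Surjective π := QuotientGroup.mk'_surjective K
      have hinj : ∀ d ∈ D, π d = 1 → d = 1 := by
        intro d hd h
        obtain ⟨i, hi⟩ := IsPGroup.iff_orderOf.1 (BlockCover.isPGroup_defect hM hD) ⟨d, hd⟩
        rw [Subgroup.orderOf_mk] at hi
        rcases i with _ | i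
        · rwa [pow_zero, orderOf_eq_one_iff] at hi
        · exact absurd ((dvd_pow_self 2 (Nat.succ_ne_zero i)).trans
            (hi ▸ Subgroup.orderOf_dvd_natCard K ((QuotientGroup.eq_one_iff d).1 h))) hKp
      set S := (Sylow.ofCard D hcard).mapSurjective hπs
      have hSD : (S : Subgroup (G ⧸ K)) = D.map π := by rw [Sylow.coe_mapSurjective]; rfl
      set P := pCore 2 (G ⧸ K)
      have hq0 : pPrimeCore 2 (G ⧸ K) = ⊥ := CfsgLib.PCore.pPrimeCore_quotient_pPrimeCore
      have hqs : IsPSolvable 2 (G ⧸ K) := CfsgLib.PCore.isPSolvable_of_surjective π hπs hsolv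
      have hD1 : ∃ d ∈ D, d ≠ 1 := by
        rcases ht with ⟨k, ⟨e⟩⟩ | h
        · exact ⟨el e (sr 0), el_mem e _, fun h => by
            have h2 := orderOf_sr' e (0 : ZMod (2 ^ (k + 2)))
            rw [h, orderOf_one] at h2
            omega⟩
        · obtain ⟨m, -, -, x, y, -, hy, -⟩ := h
          exact ⟨y, y.2, fun h => by
            rw [← Subgroup.orderOf_coe, h, orderOf_one] at hy
            omega⟩
      obtain ⟨d, hd, hd1⟩ := hD1
      haveI : Nontrivial (G ⧸ K) := ⟨⟨π d, 1, fun h => hd1 (hinj d hd h)⟩⟩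
      have hPne : P ≠ ⊥ := CfsgLib.PCore.pCore_ne_bot hqs hq0
      have hPD : P ≤ D.map π := hSD ▸ CfsgLib.PCore.pCore_le_sylow S
      rcases ht with ⟨k, ⟨e⟩⟩ | h
      · obtain ⟨j, hj⟩ := exists_reflection e π hinj P hPD hPne
        exact blockRank_le_two hM hB hD e (el_mem e (sr j)) (orderOf_sr' e j) hj
      · obtain ⟨ρ, x, y, hsd⟩ := exists_sd h
        obtain ⟨hc, -, ho⟩ := map_central hsd π hinj P hPD hPne
        letI : Fintype (G ⧸ K) := Fintype.ofFinite _
        have hφ : Function.Injective (π.subgroupMap D) := by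
          rw [injective_iff_map_eq_one]
          exact fun a ha => Subtype.ext (hinj a a.2 (congrArg Subtype.val ha))
        have hSq : IsQuasiDihedral S := quasi_equiv
          ((MulEquiv.ofBijective _ ⟨hφ, MonoidHom.subgroupMap_surjective π D⟩).trans
            (MulEquiv.subgroupCongr hSD.symm)) h
        exact (rank_le_classes hKp hinv hsub).trans (classes_le_two hM hqs hq0 S hSq hc ho)
    have hlt : Nat.card T < n :=
      lt_of_lt_of_le (lt_of_le_of_ne (Subgroup.card_le_card_group T)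
        fun h => htop (Subgroup.eq_top_of_card_eq T h)) (Nat.lt_succ_iff.1 hcardG)
    obtain ⟨ψ₀, hcov, hψ₀χ⟩ := BlockCover.exists_of_covers K b T hT hKT hM hb ⟨θ, rfl, hθ⟩
    set B' := blockOf M (ψ₀ : T → ℂ) with hB'def
    have hB' : IsPBlock M B' := isPBlock_blockOf ψ₀
    have hψ₀ : ψ₀ ∈ B' := mem_blockOf_self hM ψ₀
    obtain ⟨B₂, hind, -, hirr, hmem⟩ :=
      BlockCover.fongReynolds_induced K b T hKT hT hM hb hB' hψ₀ hcov
    have hBB : B₂ = B := by
      have h1 := (hmem χ).2 ⟨ψ₀, hψ₀, hψ₀χ⟩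
      rw [IsPBlock.eq_blockOf hM hind.2.1 h1, IsPBlock.eq_blockOf hM hB hχ]
    subst hBB
    have hlB : blockRank 2 B₂ ≤ blockRank 2 B' := by
      let L : (T → ℂ) →ₗ[ℂ] (G → ℂ) := Induction.indLinear T
      have hle : regSpan 2 B₂ ≤ (regSpan 2 B').map L := by
        refine Submodule.span_le.2 ?_
        rintro _ ⟨η, hη, rfl⟩
        obtain ⟨ψ, hψ, he⟩ := (hmem η).1 hη
        refine ⟨pRegularPart 2 (ψ : T → ℂ), Submodule.subset_span ⟨ψ, hψ, rfl⟩, ?_⟩
        show indFun T _ = _
        rw [← OneSection.pRegularPart_indFun, ← he]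
      rw [Blk7.blockRank_eq, Blk7.blockRank_eq]
      exact (Submodule.finrank_mono hle).trans (Submodule.finrank_map_le _ _)
    obtain ⟨E, hE⟩ : ∃ E : Subgroup T, IsDefectGroup 2 M B' E :=
      BrauerPairs.exists_defectGroup hM hB'
    obtain ⟨t, htE⟩ := BlockCover.defectGroup_conjugate hM hB
      ((BlockCover.fongReynolds_defect K b T hKT hT hM hb hB' hψ₀ hcov hind).1 E hE) hD
    subst htE
    have e1 : E ≃* (E.map T.subtype).map (MulAut.conj t).toMonoidHom :=
      (E.equivMapOfInjective T.subtype T.subtype_injective).trans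
        ((E.map T.subtype).equivMapOfInjective _ (MulAut.conj t).injective)
    exact hlB.trans (ih T hlt inferInstance B' hB' E hE (tame_equiv e1.symm ht))

/-- Tame blocks of solvable groups have rank at most two. -/
theorem rank_le_two_of_solvable (hM : IsPModular 2 M) (hsol : Group.IsSolvable G)
    {B : Set (IrrCharacter G)} (hB : IsPBlock M B) {D : Subgroup G}
    (hD : IsDefectGroup 2 M B D) (ht : Tame D) : blockRank 2 B ≤ 2 :=
  rank_le_two_of_solvable_aux hM _ G (Nat.lt_succ_self _) hsol B hB D hD ht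

end CfsgLib.DihedralBlk
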