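import Cfsg.Agent.Lib.DihedralBlk.Section
import Cfsg.Agent.Lib.DihedralBlk.Lattice

/-!
# The integral vectors of the two families of differences
-/

set_option autoImplicit false
set_option linter.unusedSectionVars false

namespace CfsgLib.DihedralBlk

open Cfsg CfsgLib.Blocks CfsgLib.Characters DihedralGroup
open scoped Classical ComplexConjugate

universe u

theorem classInner_sub_sub {Q : Type*} [Group Q] [Fintype Q] (f g f' g' : Q → ℂ) :
    classInner (fun p => f p - g p) (fun p => f' p - g' p) =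
      classInner f f' - classInner f g' - classInner g f' + classInner g g' := by
  simp only [classInner, map_sub, sub_mul, mul_sub, Finset.sum_sub_distrib]
  ring

variable {G : Type u} [Group G] [Fintype G] [Fact (Nat.Prime 2)] {M : Ideal AlgInt} [M.IsMaximal]
  {hM : IsPModular 2 M} {B : Set (IrrCharacter G)} {k : ℕ}

namespace Loc

theorem ix_cases (i j : Fin (mm k)) : (ix i = ix j ↔ i = j) ∧ ix i ≠ -ix j ∧ ix i ≠ 0 ∧
    ix i ≠ half k ∧ -ix i ≠ half k := by
  obtain ⟨hm, -⟩ := mm_spec k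
  have hN : 2 ^ (k + 2) = 2 * 2 ^ (k + 1) := pow_succ' 2 (k + 1)
  have hi := i.2
  have hj := j.2
  have hmod : ∀ a c : ℕ, a < 2 ^ (k + 2) → c < 2 ^ (k + 2) →
      ((a : ZMod (2 ^ (k + 2))) = (c : ZMod (2 ^ (k + 2))) ↔ a = c) := fun a c ha hc => by
    rw [ZMod.natCast_eq_natCast_iff', Nat.mod_eq_of_lt ha, Nat.mod_eq_of_lt hc]
  have hnd : ∀ a : ℕ, 0 < a → a < 2 ^ (k + 2) → (a : ZMod (2 ^ (k + 2))) ≠ 0 := fun a h1 h2 h => by
    rw [ZMod.natCast_eq_zero_iff] at h
    have := Nat.le_of_dvd h1 h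
    omega
  refine ⟨?_, ?_, hnd _ (by omega) (by omega), ?_, ?_⟩
  · rw [ix, ix, hmod _ _ (by omega) (by omega), Fin.ext_iff]
    omega
  · rw [Ne, eq_neg_iff_add_eq_zero, ix, ix, ← Nat.cast_add]
    exact hnd _ (by omega) (by omega)
  · rw [ix, half, Ne, hmod _ _ (by omega) (by omega)]
    omega
  · rw [Ne, neg_eq_iff_add_eq_zero, ix, half, ← Nat.cast_add]
    exact hnd _ (by omega) (by omega)

theorem half_facts : half k ≠ 0 ∧ -half k = half k := by
  constructor
  · rw [half, ← half_model (k := k)]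
    exact half_ne_zero (N := 2 ^ (k + 2)) rfl
  · rw [half, ← half_model (k := k)]
    exact neg_half (N := 2 ^ (k + 2)) rfl

theorem inner_dC (i j : Fin (mm k)) :
    classInner (dC i) (dC j) = 2 + (if i = j then 1 else 0) ∧
    classInner (dC' i) (dC' j) = 2 + (if i = j then 1 else 0) ∧
    classInner (dC i) (dC' j) = if i = j then 1 else 0 := by
  obtain ⟨h1, h2, h3, h4, h5⟩ := ix_cases i j
  obtain ⟨-, -, h3', h4', h5'⟩ := ix_cases j i
  obtain ⟨h6, h7⟩ := half_facts (k := k)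
  have h8 : ix i ≠ -half k := by rw [h7]; exact h4
  have h9 : half k ≠ -ix j := fun h => h5' h.symm
  have h9' : (0 : ZMod (2 ^ (k + 2))) ≠ -ix j := fun h => h3' (neg_eq_zero.1 h.symm)
  unfold dC dC'
  simp only [classInner_sub_sub, classInner_psi, h1, h2, h3, h4, h8, h9, h9', neg_zero,
    h7, Ne.symm h3', Ne.symm h4', Ne.symm h6, h6, if_true, if_false]
  refine ⟨by ring, by ring, by ring⟩

variable (L : Loc hM B k)

/-- The integral coordinates. -/
noncomputable def Ci (i : Fin (mm k)) (χ : IrrCharacter G) : ℤ := (L.exists_C_int i χ).choose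

/-- The integral coordinates of the second family. -/
noncomputable def Ci' (i : Fin (mm k)) (χ : IrrCharacter G) : ℤ := (L.exists_C'_int i χ).choose

theorem Ci_spec (i : Fin (mm k)) (χ : IrrCharacter G) :
    L.T (dC i) χ = (L.Ci i χ : ℂ) ∧ L.T (dC' i) χ = (L.Ci' i χ : ℂ) :=
  ⟨(L.exists_C_int i χ).choose_spec, (L.exists_C'_int i χ).choose_spec⟩

theorem Ci_gram (i j : Fin (mm k)) :
    ∑ χ, L.Ci i χ * L.Ci j χ = 2 + (if i = j then 1 else 0) ∧
    ∑ χ, L.Ci' i χ * L.Ci' j χ = 2 + (if i = j then 1 else 0) ∧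
    ∑ χ, L.Ci i χ * L.Ci' j χ = if i = j then 1 else 0 := by
  obtain ⟨a1, a2, a3⟩ := inner_dC i j
  have b1 := L.sum_T_mul (isRot_sub (ix i) 0) (isRot_sub (ix j) 0)
  have b2 := L.sum_T_mul (isRot_sub (ix i) (half k)) (isRot_sub (ix j) (half k))
  have b3 := L.sum_T_mul (isRot_sub (ix i) 0) (isRot_sub (ix j) (half k))
  change ∑ χ, L.T (dC i) χ * conj (L.T (dC j) χ) = classInner (dC i) (dC j) at b1
  change ∑ χ, L.T (dC' i) χ * conj (L.T (dC' j) χ) = classInner (dC' i) (dC' j) at b2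
  change ∑ χ, L.T (dC i) χ * conj (L.T (dC' j) χ) = classInner (dC i) (dC' j) at b3
  simp only [a1, a2, a3, fun l χ => (L.Ci_spec l χ).1, fun l χ => (L.Ci_spec l χ).2,
    map_intCast] at b1 b2 b3
  refine ⟨?_, ?_, ?_⟩ <;> apply Int.cast_injective (α := ℂ) <;> push_cast
  · exact b1
  · exact b2
  · exact b3

theorem Ci_diff (i j : Fin (mm k)) (χ : IrrCharacter G) :
    L.Ci i χ - L.Ci j χ = L.Ci' i χ - L.Ci' j χ := by
  apply Int.cast_injective (α := ℂ)
  push_cast
  rw [← (L.Ci_spec i χ).1, ← (L.Ci_spec j χ).1, ← (L.Ci_spec i χ).2, ← (L.Ci_spec j χ).2,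
    show L.T (dC i) χ = _ from L.T_sub (isClassFunction_psi _) (isClassFunction_psi _) χ,
    show L.T (dC j) χ = _ from L.T_sub (isClassFunction_psi _) (isClassFunction_psi _) χ,
    show L.T (dC' i) χ = _ from L.T_sub (isClassFunction_psi _) (isClassFunction_psi _) χ,
    show L.T (dC' j) χ = _ from L.T_sub (isClassFunction_psi _) (isClassFunction_psi _) χ]
  ring

/-- The degree of a character, as an integer. -/
noncomputable def deg (χ : IrrCharacter G) : ℤ := (charDegree (χ : G → ℂ) : ℤ)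

theorem deg_pos (χ : IrrCharacter G) : 0 < deg χ := by
  rw [deg]
  exact_mod_cast (CfsgLib.ClassCount.degree_eq χ).2.2

theorem Ci_deg (i : Fin (mm k)) :
    ∑ χ, L.Ci i χ * deg χ = 0 ∧ ∑ χ, L.Ci' i χ * deg χ = 0 := by
  have h1 : ¬ 2 ∣ orderOf (1 : G) := by rw [orderOf_one]; decide
  have a1 := L.sum_T_regular (isRot_sub (ix i) 0) h1
  have a2 := L.sum_T_regular (isRot_sub (ix i) (half k)) h1
  change ∑ χ, L.T (dC i) χ * (χ : G → ℂ) 1 = 0 at a1
  change ∑ χ, L.T (dC' i) χ * (χ : G → ℂ) 1 = 0 at a2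
  simp only [fun χ => (L.Ci_spec i χ).1, fun χ => (L.Ci_spec i χ).2,
    CharCorr.irr_one_eq_charDegree] at a1 a2
  refine ⟨?_, ?_⟩ <;> apply Int.cast_injective (α := ℂ) <;> push_cast [deg]
  · exact a1
  · exact a2

theorem shape : IsRegular L.Ci L.Ci' ∨ IsExotic L.Ci L.Ci' deg ∨ IsExotic L.Ci' L.Ci deg :=
  classify _ _ _ deg_pos (mm_spec k).2 (fun i j => (L.Ci_gram i j).1)
    (fun i j => (L.Ci_gram i j).2.1) (fun i j => (L.Ci_gram i j).2.2) L.Ci_diff
    (fun i => (L.Ci_deg i).1) (fun i => (L.Ci_deg i).2)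

/-- `V` by the integral coordinates. -/
theorem V_int (χ : IrrCharacter G) :
    L.V χ = ((∑ i : Fin (mm k), (-1) ^ ((i : ℕ) + 1) * (L.Ci i χ + L.Ci' i χ) : ℤ) : ℂ) := by
  rw [V_eq]
  push_cast
  simp only [fun i => (L.Ci_spec i χ).1, fun i => (L.Ci_spec i χ).2]

theorem sum_alt (k : ℕ) : ∑ i : Fin (mm k), (-1 : ℤ) ^ ((i : ℕ) + 1) = -1 := by
  rw [Fin.sum_univ_eq_sum_range (fun i => (-1 : ℤ) ^ (i + 1))]
  simp_rw [pow_succ]
  rw [← Finset.sum_mul, neg_one_geom_sum, if_neg (Nat.not_even_iff_odd.2 (mm_spec k).2)]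
  norm_num

end Loc

end CfsgLib.DihedralBlk
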